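import Cfsg.Agent.MinSimple.Basic
import Cfsg.Agent.ZN.Facts

/-!
# NO-1, Lemma T (text #11359 (0))

`V` abelian, normal in `S`, `F ≤ V` normal in `S`, `C_G(F)` of characteristic 2.  If
`V ∩ O₂(C_G(F)) ≤ F`, then `V = F`.
-/

set_option autoImplicit false

namespace Cfsg.Agent.Omega.NOne.LemmaT

open Subgroup Cfsg Cfsg.Agent.MinSimple.VModule Cfsg.Agent.MinSimple.Basic
open Cfsg.Agent.ZN (o2)

universe u

variable {G : Type u} [Group G]

/-- If `x` moves `q` by an element commuting with `x`, then `xⁿ` moves it by the power. -/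
theorem pow_conj_eq {x q f : G} (hf : x * q * x⁻¹ = f * q) (hxf : x * f = f * x) (n : ℕ) :
    x ^ n * q * (x ^ n)⁻¹ = f ^ n * q := by
  induction n with
  | zero => simp
  | succ n ih =>
    have hc : x * f ^ n = f ^ n * x := (show Commute x f from hxf).pow_right n
    calc x ^ (n + 1) * q * (x ^ (n + 1))⁻¹ = x * (x ^ n * q * (x ^ n)⁻¹) * x⁻¹ := by
          rw [pow_succ']; group
      _ = x * (f ^ n * q) * x⁻¹ := by rw [ih]
      _ = (x * f ^ n) * q * x⁻¹ := by group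
      _ = f ^ n * (x * q * x⁻¹) := by rw [hc]; group
      _ = f ^ n * (f * q) := by rw [hf]
      _ = f ^ (n + 1) * q := by rw [pow_succ]; group

theorem exists_pow_eq_one [Finite G] {F : Subgroup G} (hF : IsPGroup 2 F) :
    ∃ k : ℕ, ∀ f ∈ F, f ^ 2 ^ k = 1 := by
  obtain ⟨k, hk⟩ := IsPGroup.iff_card.1 hF
  refine ⟨k, fun f hf => ?_⟩
  have : (⟨f, hf⟩ : F) ^ Nat.card F = 1 := pow_card_eq_one'
  rw [hk] at this
  exact congrArg Subtype.val this

/-- If `x` centralises the `2`-group `F` and moves the elements of `Q` by elements of `F`, then a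
`2`-power of `x` centralises `Q`. -/
theorem exists_pow_comm [Finite G] {F : Subgroup G} (hF : IsPGroup 2 F) {x : G}
    (hxF : ∀ f ∈ F, x * f = f * x) {Q : Subgroup G} (hQ : ∀ q ∈ Q, x * q * x⁻¹ * q⁻¹ ∈ F) :
    ∃ k : ℕ, ∀ q ∈ Q, x ^ 2 ^ k * q = q * x ^ 2 ^ k := by
  obtain ⟨k, hk⟩ := exists_pow_eq_one hF
  refine ⟨k, fun q hq => ?_⟩
  have h1 := pow_conj_eq (x := x) (q := q) (f := x * q * x⁻¹ * q⁻¹) (by group) (hxF _ (hQ q hq)) (2 ^ k)
  rw [hk _ (hQ q hq), one_mul] at h1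
  calc x ^ 2 ^ k * q = (x ^ 2 ^ k * q * (x ^ 2 ^ k)⁻¹) * x ^ 2 ^ k := by group
    _ = q * x ^ 2 ^ k := by rw [h1]

/-- The elements of `C` moving the elements of `R` by elements of `F` (central in `C`). -/
def stab (C R F : Subgroup G) (hFC : C ≤ centralizer (F : Set G)) : Subgroup G where
  carrier := {x | x ∈ C ∧ ∀ r ∈ R, x * r * x⁻¹ * r⁻¹ ∈ F}
  one_mem' := ⟨one_mem _, fun r _ => by simp⟩
  mul_mem' := by
    rintro x y ⟨hx, hxr⟩ ⟨hy, hyr⟩
    refine ⟨mul_mem hx hy, fun r hr => ?_⟩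
    have h1 : x * (y * r * y⁻¹ * r⁻¹) * x⁻¹ = y * r * y⁻¹ * r⁻¹ := by
      have := mem_centralizer_iff.1 (hFC hx) _ (hyr r hr)
      rw [← this, mul_inv_cancel_right]
    have h2 : x * y * r * (x * y)⁻¹ * r⁻¹ =
        (x * (y * r * y⁻¹ * r⁻¹) * x⁻¹) * (x * r * x⁻¹ * r⁻¹) := by group
    rw [h2, h1]
    exact mul_mem (hyr r hr) (hxr r hr)
  inv_mem' := by
    rintro x ⟨hx, hxr⟩
    refine ⟨inv_mem hx, fun r hr => ?_⟩
    have h1 : x⁻¹ * (x * r * x⁻¹ * r⁻¹)⁻¹ * x = (x * r * x⁻¹ * r⁻¹)⁻¹ := by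
      have := mem_centralizer_iff.1 (hFC (inv_mem hx)) _ (inv_mem (hxr r hr))
      rw [← this, inv_mul_cancel_right]
    have h2 : x⁻¹ * r * x⁻¹⁻¹ * r⁻¹ = x⁻¹ * (x * r * x⁻¹ * r⁻¹)⁻¹ * x := by group
    rw [h2, h1]
    exact inv_mem (hxr r hr)

theorem mem_stab {C R F : Subgroup G} {hFC : C ≤ centralizer (F : Set G)} {x : G} :
    x ∈ stab C R F hFC ↔ x ∈ C ∧ ∀ r ∈ R, x * r * x⁻¹ * r⁻¹ ∈ F := Iff.rfl

/-- The stabiliser of the chain `O₂(C) ≥ F ≥ 1` in `C` (of characteristic 2) lies in `O₂(C)`. -/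
theorem le_o2_of_stab [Finite G] {C F V : Subgroup G} (hC : C ⊓ centralizer (o2 C : Set G) ≤ o2 C)
    (hF : IsPGroup 2 F) (hFC : C ≤ centralizer (F : Set G)) (hVC : V ≤ C)
    (hV : ∀ v ∈ V, ∀ r ∈ o2 C, v * r * v⁻¹ * r⁻¹ ∈ F) : V ≤ o2 C := by
  have h1 : V ≤ stab C (o2 C) F hFC := fun v hv => ⟨hVC hv, hV v hv⟩
  refine h1.trans (le_o2 (fun x hx => hx.1) ?_ ?_)
  · rintro ⟨x, hx, hxr⟩
    have hxF : ∀ f ∈ F, x * f = f * x := fun f hf => (mem_centralizer_iff.1 (hFC hx) f hf).symm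
    obtain ⟨k, hk⟩ := exists_pow_comm hF hxF hxr
    have h2 : x ^ 2 ^ k ∈ o2 C := hC ⟨pow_mem hx _, mem_centralizer_iff.2 fun r hr => (hk r hr).symm⟩
    obtain ⟨l, hl⟩ := exists_pow_eq_one (o2_isPGroup C)
    refine ⟨k + l, Subtype.ext ?_⟩
    change x ^ 2 ^ (k + l) = 1
    rw [pow_add, pow_mul]
    exact hl _ h2
  · intro c hc
    have hcn := le_normalizer_o2 C hc
    have key : ∀ c ∈ C, ∀ x ∈ stab C (o2 C) F hFC, c * x * c⁻¹ ∈ stab C (o2 C) F hFC := by
      rintro c hc x ⟨hx, hxr⟩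
      refine ⟨mul_mem (mul_mem hc hx) (inv_mem hc), fun r hr => ?_⟩
      have hr' : c⁻¹ * r * c ∈ o2 C := by
        have := (mem_normalizer_iff.1 (inv_mem (le_normalizer_o2 C hc)) r).1 hr
        rwa [inv_inv] at this
      have h3 := hxr _ hr'
      have h4 : c * (x * (c⁻¹ * r * c) * x⁻¹ * (c⁻¹ * r * c)⁻¹) * c⁻¹ =
          x * (c⁻¹ * r * c) * x⁻¹ * (c⁻¹ * r * c)⁻¹ := by
        have := mem_centralizer_iff.1 (hFC hc) _ h3
        rw [← this, mul_inv_cancel_right]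
      have h5 : c * x * c⁻¹ * r * (c * x * c⁻¹)⁻¹ * r⁻¹ =
          c * (x * (c⁻¹ * r * c) * x⁻¹ * (c⁻¹ * r * c)⁻¹) * c⁻¹ := by group
      rw [h5, h4]
      exact h3
    rw [mem_normalizer_iff]
    intro x
    refine ⟨key c hc x, fun hx => ?_⟩
    have h6 := key c⁻¹ (inv_mem hc) _ hx
    have e : c⁻¹ * (c * x * c⁻¹) * c⁻¹⁻¹ = x := by group
    rwa [e] at h6

/-- A normal subgroup of a group of characteristic 2 has characteristic 2 (inside `G`). -/
theorem char2_of_normal [Finite G] {N X : Subgroup G}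
    (hN : N ⊓ centralizer (o2 N : Set G) ≤ o2 N) (hXN : X ≤ N)
    (hn : N ≤ normalizer (X : Set G)) : X ⊓ centralizer (o2 X : Set G) ≤ o2 X := by
  set K := X ⊓ centralizer (o2 X : Set G) with hK
  have hNo : N ≤ normalizer (o2 X : Set G) := hn.trans (Cfsg.Agent.ZN.normalizer_le_normalizer_o2 X)
  have hKn : ∀ n ∈ N, ∀ x ∈ K, n * x * n⁻¹ ∈ K := by
    rintro n hnN x ⟨hx, hxc⟩
    refine ⟨(mem_normalizer_iff.1 (hn hnN) x).1 hx, ?_⟩
    replace hxc := mem_centralizer_iff.1 hxc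
    refine mem_centralizer_iff.2 fun r hr => ?_
    have hr' : n⁻¹ * r * n ∈ o2 X := by
      have := (mem_normalizer_iff.1 (inv_mem (hNo hnN)) r).1 hr
      rwa [inv_inv] at this
    have h3 := hxc _ hr'
    calc r * (n * x * n⁻¹) = n * ((n⁻¹ * r * n) * x) * n⁻¹ := by group
      _ = n * (x * (n⁻¹ * r * n)) * n⁻¹ := by rw [h3]
      _ = n * x * n⁻¹ * r := by group
  have hKN : N ≤ normalizer (K : Set G) := by
    intro n hnN
    rw [mem_normalizer_iff]
    intro x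
    refine ⟨hKn n hnN x, fun hx => ?_⟩
    have h6 := hKn n⁻¹ (inv_mem hnN) _ hx
    have e : n⁻¹ * (n * x * n⁻¹) * n⁻¹⁻¹ = x := by group
    rwa [e] at h6
  -- `K ∩ O₂(N) ≤ O₂(X)`
  have h1 : K ⊓ o2 N ≤ o2 X := by
    refine le_o2 (inf_le_left.trans inf_le_left) ((o2_isPGroup N).to_le inf_le_right) ?_
    intro x hx
    rw [mem_normalizer_iff]
    have key : ∀ x ∈ X, ∀ y ∈ K ⊓ o2 N, x * y * x⁻¹ ∈ K ⊓ o2 N := fun x hx y hy =>
      ⟨hKn x (hXN hx) y hy.1, (mem_normalizer_iff.1 (le_normalizer_o2 N (hXN hx)) y).1 hy.2⟩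
    intro y
    refine ⟨key x hx y, fun hy => ?_⟩
    have h6 := key x⁻¹ (inv_mem hx) _ hy
    have e : x⁻¹ * (x * y * x⁻¹) * x⁻¹⁻¹ = y := by group
    rwa [e] at h6
  refine le_o2 inf_le_left ?_ (hXN.trans hKN)
  rintro ⟨x, hx⟩
  have h2 : ∀ r ∈ o2 N, x * r * x⁻¹ * r⁻¹ ∈ K ⊓ o2 N := by
    intro r hr
    refine mem_inf.2 ⟨?_, mul_mem ((mem_normalizer_iff.1 (le_normalizer_o2 N (hXN hx.1)) r).1 hr)
      (inv_mem hr)⟩
    have h3 := hKn r (o2_le N hr) x⁻¹ (inv_mem hx)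
    have e : x * r * x⁻¹ * r⁻¹ = x * (r * x⁻¹ * r⁻¹) := by group
    rw [e]
    exact mul_mem hx h3
  obtain ⟨k, hk⟩ := exists_pow_comm ((o2_isPGroup N).to_le inf_le_right : IsPGroup 2 ↥(K ⊓ o2 N))
    (fun f hf => (mem_centralizer_iff.1 hx.2 f (h1 hf)).symm) h2
  have h4 : x ^ 2 ^ k ∈ o2 N := hN ⟨pow_mem (hXN hx.1) _,
    mem_centralizer_iff.2 fun r hr => (hk r hr).symm⟩
  obtain ⟨l, hl⟩ := exists_pow_eq_one (o2_isPGroup N)
  refine ⟨k + l, Subtype.ext ?_⟩
  change x ^ 2 ^ (k + l) = 1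
  rw [pow_add, pow_mul]
  exact hl _ h4

theorem normalizer_le_normalizer_centralizer (F : Subgroup G) :
    normalizer (F : Set G) ≤ normalizer (centralizer (F : Set G) : Set G) := by
  have key : ∀ n ∈ normalizer (F : Set G), ∀ x ∈ centralizer (F : Set G),
      n * x * n⁻¹ ∈ centralizer (F : Set G) := by
    intro n hn x hx
    rw [mem_centralizer_iff] at hx ⊢
    intro f hf
    have hf' : n⁻¹ * f * n ∈ F := by
      have := (mem_normalizer_iff.1 (inv_mem hn) f).1 hf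
      rwa [inv_inv] at this
    have h3 := hx _ hf'
    calc f * (n * x * n⁻¹) = n * ((n⁻¹ * f * n) * x) * n⁻¹ := by group
      _ = n * (x * (n⁻¹ * f * n)) * n⁻¹ := by rw [h3]
      _ = n * x * n⁻¹ * f := by group
  intro n hn
  rw [mem_normalizer_iff]
  intro x
  refine ⟨key n hn x, fun hx => ?_⟩
  have h6 := key n⁻¹ (inv_mem hn) _ hx
  have e : n⁻¹ * (n * x * n⁻¹) * n⁻¹⁻¹ = x := by group
  rwa [e] at h6

theorem centralizer_le_normalizer' (F : Subgroup G) :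
    centralizer (F : Set G) ≤ normalizer (F : Set G) := by
  intro x hx
  rw [mem_normalizer_iff]
  rw [mem_centralizer_iff] at hx
  intro f
  constructor
  · intro hf
    rw [← hx f hf, mul_inv_cancel_right]
    exact hf
  · intro hf
    have h1 := hx _ hf
    have h2 : x * f * x⁻¹ = f := by
      have h3 : x * f * x⁻¹ * x = x * (x * f * x⁻¹) := h1
      have h4 : x * f = x * (x * f * x⁻¹) := by rw [← h3]; group
      exact (mul_left_cancel h4).symm
    rwa [h2] at hf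

/-- `C_G(F)` has characteristic 2 in a group of characteristic 2 type. -/
theorem char2_centralizer [Finite G] (hG : IsCharacteristicTwoType G) {F : Subgroup G}
    (hF : IsPGroup 2 F) (hF1 : F ≠ ⊥) :
    centralizer (F : Set G) ⊓ centralizer (o2 (centralizer (F : Set G)) : Set G) ≤
      o2 (centralizer (F : Set G)) :=
  char2_of_normal (char2_normalizer hG hF hF1) (centralizer_le_normalizer' F)
    (normalizer_le_normalizer_centralizer F)

/-- `O₂(C_G(F)) ≤ S` for `F` normal in the Sylow 2-subgroup `S`. -/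
theorem o2_centralizer_le (S : Sylow 2 G) {F : Subgroup G}
    (hSF : (S : Subgroup G) ≤ normalizer (F : Set G)) :
    o2 (centralizer (F : Set G)) ≤ (S : Subgroup G) := by
  have h0 : (S : Subgroup G) ≤ normalizer (o2 (centralizer (F : Set G)) : Set G) :=
    (hSF.trans (normalizer_le_normalizer_centralizer F)).trans
      (Cfsg.Agent.ZN.normalizer_le_normalizer_o2 _)
  have h1 : IsPGroup 2 ((S : Subgroup G) ⊔ o2 (centralizer (F : Set G)) : Subgroup G) :=
    IsPGroup.to_sup_of_normal_right' S.isPGroup' (o2_isPGroup _) h0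
  have h2 := S.is_maximal' h1 le_sup_left
  exact le_sup_right.trans h2.le

/-- **Lemma T.** -/
theorem lemmaT [Finite G] (S : Sylow 2 G) {F V : Subgroup G}
    (hc : centralizer (F : Set G) ⊓ centralizer (o2 (centralizer (F : Set G)) : Set G) ≤
      o2 (centralizer (F : Set G)))
    (hFV : F ≤ V) (hVS : V ≤ (S : Subgroup G)) (hSV : (S : Subgroup G) ≤ normalizer (V : Set G))
    (hSF : (S : Subgroup G) ≤ normalizer (F : Set G)) (hVV : V ≤ centralizer (V : Set G))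
    (h : V ⊓ o2 (centralizer (F : Set G)) ≤ F) : V ≤ F := by
  have hF : IsPGroup 2 F := S.isPGroup'.to_le (hFV.trans hVS)
  have hVC : V ≤ centralizer (F : Set G) := hVV.trans (centralizer_le hFV)
  have hFC : centralizer (F : Set G) ≤ centralizer (F : Set G) := le_rfl
  have h1 : V ≤ o2 (centralizer (F : Set G)) := by
    refine le_o2_of_stab hc hF hFC hVC fun v hv r hr => h (mem_inf.2 ⟨?_, ?_⟩)
    · have h2 := (mem_normalizer_iff.1 (hSV (o2_centralizer_le S hSF hr)) v⁻¹).1 (inv_mem hv)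
      have e : v * r * v⁻¹ * r⁻¹ = v * (r * v⁻¹ * r⁻¹) := by group
      rw [e]
      exact mul_mem hv h2
    · have h2 := (mem_normalizer_iff.1 (le_normalizer_o2 _ (hVC hv)) r).1 hr
      exact mul_mem h2 (inv_mem hr)
  exact (le_inf le_rfl h1).trans h

/-- **Lemma T** in a group of characteristic 2 type: `V ≤ O₂(C_G(F))` or
`F < V ∩ O₂(C_G(F)) < V`. -/
theorem lemmaT' [Finite G] (hG : IsCharacteristicTwoType G) (S : Sylow 2 G) {F V : Subgroup G}
    (hF1 : F ≠ ⊥) (hFV : F ≤ V) (hVS : V ≤ (S : Subgroup G))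
    (hSV : (S : Subgroup G) ≤ normalizer (V : Set G))
    (hSF : (S : Subgroup G) ≤ normalizer (F : Set G)) (hVV : V ≤ centralizer (V : Set G)) :
    V ≤ o2 (centralizer (F : Set G)) ∨
      (F < V ⊓ o2 (centralizer (F : Set G)) ∧ V ⊓ o2 (centralizer (F : Set G)) < V) := by
  have hF : IsPGroup 2 F := S.isPGroup'.to_le (hFV.trans hVS)
  have hc := char2_centralizer hG hF hF1
  by_cases hV : V ≤ o2 (centralizer (F : Set G))
  · exact Or.inl hV
  · refine Or.inr ⟨lt_of_le_of_ne (le_inf hFV (le_o2 ?_ hF ?_)) ?_,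
      lt_of_le_of_ne inf_le_left fun h => hV (h ▸ inf_le_right)⟩
    · exact hFV.trans (hVV.trans (centralizer_le hFV))
    · exact centralizer_le_normalizer' F
    · intro h
      have h2 := lemmaT S hc hFV hVS hSV hSF hVV h.ge
      exact hV (h2.trans (h.le.trans inf_le_right))

/-- `V ∩ O₂(C_G(F))` is invariant under everything normalising `V` and `F`. -/
theorem le_normalizer_inf (F V : Subgroup G) :
    normalizer (V : Set G) ⊓ normalizer (F : Set G) ≤
      normalizer ((V ⊓ o2 (centralizer (F : Set G)) : Subgroup G) : Set G) := by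
  intro x hx
  obtain ⟨h1, h2⟩ := mem_inf.1 hx
  have h3 := Cfsg.Agent.ZN.normalizer_le_normalizer_o2 _ (normalizer_le_normalizer_centralizer F h2)
  rw [mem_normalizer_iff] at h1 h3 ⊢
  intro y
  exact and_congr (h1 y) (h3 y)

end Cfsg.Agent.Omega.NOne.LemmaT
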