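import Cfsg.Agent.Omega.NOne.Choice

/-!
# NO-1, the frame without a bound on `|A|` (text #12527 (T)): the input of (BT)

`V` elementary abelian, `C` of characteristic 2, `Q = O₂(C)` normalises `V ≤ C`, `v ∈ V - Q` arbitrary.
`exists_near`: there is `g ∈ C` such that for `E = V ∩ Q`, `F = E^g`, `D = E ∩ E^g`: `D ≠ E` and
`Near V E D F v`.
-/

set_option autoImplicit false

namespace Cfsg.Agent.Omega.NOne.NearFF

open Subgroup Cfsg Cfsg.Agent.Omega.NoFF.Basic Cfsg.Agent.Omega.NOne.Frame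
open Cfsg.Agent.MinSimple.VModule
open Cfsg.Agent.ZN (o2)
open scoped Pointwise

universe u

variable {G : Type u} [Group G]

/-- The input of the near-FF theorem (BT).  Commutators are `[w, f] = w f w⁻¹ f⁻¹`. -/
structure Near (V E D F : Subgroup G) (v : G) : Prop where
  DE : D ≤ E
  DF : D ≤ F
  EV : E ≤ V
  vV : v ∈ V
  vE : v ∉ E
  Vcomm : V ≤ centralizer (V : Set G)
  Vsq : ∀ w ∈ V, w ^ 2 = 1
  Fcomm : F ≤ centralizer (F : Set G)
  Fsq : ∀ f ∈ F, f ^ 2 = 1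
  comm : ∀ w ∈ V, ∀ f ∈ F, w * f * w⁻¹ * f⁻¹ ∈ E
  ED : ∀ e ∈ E, ∀ f ∈ F, e * f * e⁻¹ * f⁻¹ ∈ D
  inj : ∀ f ∈ F, v * f * v⁻¹ * f⁻¹ ∈ D → f ∈ D
  card : D.relIndex F = D.relIndex E

/-- `[w, f] = w f w⁻¹ f⁻¹` -/
def c (w f : G) : G := w * f * w⁻¹ * f⁻¹

/-- `β_w(f, f') = [w, f, f']` -/
def beta (w f f' : G) : G := c (c w f) f'

theorem c_def (w f : G) : c w f = w * f * w⁻¹ * f⁻¹ := rfl

namespace Near

variable {V E D F : Subgroup G} {v : G} (h : Near V E D F v)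
include h

theorem DV : D ≤ V := h.DE.trans h.EV

theorem Dcent {d f : G} (hd : d ∈ D) (hf : f ∈ F) : d * f = f * d :=
  comm_of_le_centralizer h.Fcomm (h.DF hd) hf

theorem V_comm {x y : G} (hx : x ∈ V) (hy : y ∈ V) : x * y = y * x :=
  comm_of_le_centralizer h.Vcomm hx hy

theorem c_mem {w f : G} (hw : w ∈ V) (hf : f ∈ F) : c w f ∈ E := h.comm w hw f hf

theorem c_memV {w f : G} (hw : w ∈ V) (hf : f ∈ F) : c w f ∈ V := h.EV (h.c_mem hw hf)

theorem c_memD {e f : G} (he : e ∈ E) (hf : f ∈ F) : c e f ∈ D := h.ED e he f hf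

theorem beta_mem {w f f' : G} (hw : w ∈ V) (hf : f ∈ F) (hf' : f' ∈ F) : beta w f f' ∈ D :=
  h.c_memD (h.c_mem hw hf) hf'

theorem c_D {d f : G} (hd : d ∈ D) (hf : f ∈ F) : c d f = 1 := by
  rw [c, h.Dcent hd hf, mul_inv_cancel_right, mul_inv_cancel]

theorem inv_V {w : G} (hw : w ∈ V) : w⁻¹ = w := by
  have := h.Vsq w hw
  rw [pow_two] at this
  exact inv_eq_of_mul_eq_one_left this

theorem inv_F {f : G} (hf : f ∈ F) : f⁻¹ = f := by
  have := h.Fsq f hf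
  rw [pow_two] at this
  exact inv_eq_of_mul_eq_one_left this

theorem F_norm_V : F ≤ normalizer (V : Set G) := by
  refine le_normalizer_of_comm fun f hf w hw => ?_
  have h1 := inv_mem (h.c_memV hw hf)
  have e : (c w f)⁻¹ = f * w * f⁻¹ * w⁻¹ := by rw [c]; group
  rwa [e] at h1

theorem F_norm_E : F ≤ normalizer (E : Set G) := by
  refine le_normalizer_of_comm fun f hf w hw => ?_
  have h1 := inv_mem (h.c_mem (h.EV hw) hf)
  have e : (c w f)⁻¹ = f * w * f⁻¹ * w⁻¹ := by rw [c]; group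
  rwa [e] at h1

/-- `[w w', f] = [w, f] [w', f]` -/
theorem c_mul_left {w w' f : G} (hw : w ∈ V) (hw' : w' ∈ V) (hf : f ∈ F) :
    c (w * w') f = c w f * c w' f := by
  have h1 : w * c w' f = c w' f * w := h.V_comm hw (h.c_memV hw' hf)
  have e : c (w * w') f = w * c w' f * (f * w⁻¹ * f⁻¹) := by rw [c, c]; group
  rw [e, h1]
  have e2 : c w' f * w * (f * w⁻¹ * f⁻¹) = c w' f * c w f := by rw [c, c]; group
  rw [e2]
  exact h.V_comm (h.c_memV hw' hf) (h.c_memV hw hf)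

/-- `[w, f f'] = [w, f] [w, f'] β_w(f', f)` -/
theorem c_mul_right {w f f' : G} (hw : w ∈ V) (hf : f ∈ F) (hf' : f' ∈ F) :
    c w (f * f') = c w f * c w f' * beta w f' f := by
  have e : c w (f * f') = c w f * (f * c w f' * f⁻¹) := by rw [c, c, c]; group
  have e1 : f * c w f' * f⁻¹ = (beta w f' f)⁻¹ * c w f' := by
    rw [beta, c_def (c w f')]; group
  have h1 : (beta w f' f)⁻¹ = beta w f' f := h.inv_V (h.DV (h.beta_mem hw hf' hf))
  rw [e, e1, h1, h.V_comm (h.DV (h.beta_mem hw hf' hf)) (h.c_memV hw hf'), mul_assoc]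

theorem beta_mul_left {w f f' f'' : G} (hw : w ∈ V) (hf : f ∈ F) (hf' : f' ∈ F) (hf'' : f'' ∈ F) :
    beta w (f * f') f'' = beta w f f'' * beta w f' f'' := by
  have hb := h.beta_mem hw hf' hf
  rw [beta, h.c_mul_right hw hf hf',
    h.c_mul_left (mul_mem (h.c_memV hw hf) (h.c_memV hw hf')) (h.DV hb) hf'',
    h.c_D hb hf'', mul_one, h.c_mul_left (h.c_memV hw hf) (h.c_memV hw hf') hf'']
  rfl

/-- `[e, f f'] = [e, f] [e, f']` for `e ∈ E` -/
theorem c_mul_right' {e f f' : G} (he : e ∈ E) (hf : f ∈ F) (hf' : f' ∈ F) :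
    c e (f * f') = c e f * c e f' := by
  rw [h.c_mul_right (h.EV he) hf hf']
  have : beta e f' f = 1 := h.c_D (h.c_memD he hf') hf
  rw [this, mul_one]

theorem beta_mul_right {w f f' f'' : G} (hw : w ∈ V) (hf : f ∈ F) (hf' : f' ∈ F) (hf'' : f'' ∈ F) :
    beta w f (f' * f'') = beta w f f' * beta w f f'' :=
  h.c_mul_right' (h.c_mem hw hf) hf' hf''

theorem beta_mul {w w' f f' : G} (hw : w ∈ V) (hw' : w' ∈ V) (hf : f ∈ F) (hf' : f' ∈ F) :
    beta (w * w') f f' = beta w f f' * beta w' f f' := by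
  rw [beta, h.c_mul_left hw hw' hf, h.c_mul_left (h.c_memV hw hf) (h.c_memV hw' hf) hf']
  rfl

/-- `β_w` is alternating. -/
theorem beta_self {w f : G} (hw : w ∈ V) (hf : f ∈ F) : beta w f f = 1 := by
  have h1 := h.c_memV hw hf
  have h2 := h.inv_V h1
  have hff : f * f = 1 := by rw [← pow_two]; exact h.Fsq f hf
  have hfw : f * w * f⁻¹ ∈ V := norm_mem (h.F_norm_V hf) hw
  have hw1 := h.inv_V hw
  have hf1 := h.inv_F hf
  have hfw1 := h.V_comm hw hfw
  have e : c w f = w * (f * w * f⁻¹) := by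
    rw [c]
    conv_lhs => rw [hw1]
    group
  rw [beta, c_def, h2, e]
  have e2 : w * (f * w * f⁻¹) * f * (w * (f * w * f⁻¹)) * f⁻¹ =
      w * (f * w * f⁻¹) * ((f * w * f⁻¹) * (f * f * w * f⁻¹ * f⁻¹)) := by group
  have e3 : f * f * w * f⁻¹ * f⁻¹ = w := by rw [hf1, hff, one_mul, mul_assoc, hff, mul_one]
  have e4 : (f * w * f⁻¹) * (f * w * f⁻¹) = 1 := by
    have := h.Vsq _ hfw
    rwa [pow_two] at this
  have e5 : w * w = 1 := by
    have := h.Vsq _ hw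
    rwa [pow_two] at this
  rw [e2, e3]
  calc w * (f * w * f⁻¹) * ((f * w * f⁻¹) * w) = w * ((f * w * f⁻¹) * (f * w * f⁻¹)) * w := by group
    _ = 1 := by rw [e4, mul_one, e5]

/-- `β_w` is symmetric. -/
theorem beta_comm {w f f' : G} (hw : w ∈ V) (hf : f ∈ F) (hf' : f' ∈ F) :
    beta w f f' = beta w f' f := by
  have h1 := h.beta_self hw (mul_mem hf hf')
  rw [h.beta_mul_left hw hf hf' (mul_mem hf hf'), h.beta_mul_right hw hf hf hf',
    h.beta_mul_right hw hf' hf hf', h.beta_self hw hf, h.beta_self hw hf', one_mul, mul_one] at h1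
  have h2 := h.inv_V (h.DV (h.beta_mem hw hf' hf))
  rw [← h2]
  exact eq_inv_of_mul_eq_one_left h1

/-- The kernel of `F` on `V` is `D`. -/
theorem F_inf_cent : F ⊓ centralizer (V : Set G) = D := by
  apply le_antisymm
  · intro f hf
    obtain ⟨hf1, hf2⟩ := mem_inf.1 hf
    refine h.inj f hf1 ?_
    rw [mem_centralizer_iff.1 hf2 v h.vV, mul_inv_cancel_right, mul_inv_cancel]
    exact one_mem _
  · intro d hd
    exact mem_inf.2 ⟨h.DF hd, h.Vcomm (h.DV hd)⟩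

/-- `F` acts semiregularly on `(vE)/D`. -/
theorem reg {e f : G} (he : e ∈ E) (hf : f ∈ F) (hc : (v * e) * f = f * (v * e)) : f ∈ D := by
  refine h.inj f hf ?_
  have h1 : c (v * e) f = 1 := by rw [c, hc, mul_inv_cancel_right, mul_inv_cancel]
  rw [h.c_mul_left h.vV (h.EV he) hf] at h1
  have h2 : c v f = (c e f)⁻¹ := eq_inv_of_mul_eq_one_left h1
  change c v f ∈ D
  rw [h2]
  exact inv_mem (h.c_memD he hf)

/-- The datum depends only on the coset `vE`. -/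
theorem mul_right {e : G} (he : e ∈ E) : Near V E D F (v * e) where
  DE := h.DE
  DF := h.DF
  EV := h.EV
  vV := mul_mem h.vV (h.EV he)
  vE := fun h1 => h.vE ((mul_mem_cancel_right he).1 h1)
  Vcomm := h.Vcomm
  Vsq := h.Vsq
  Fcomm := h.Fcomm
  Fsq := h.Fsq
  comm := h.comm
  ED := h.ED
  card := h.card
  inj := fun f hf h1 => by
    refine h.inj f hf ?_
    change c (v * e) f ∈ D at h1
    rw [h.c_mul_left h.vV (h.EV he) hf] at h1
    exact (mul_mem_cancel_right (h.c_memD he hf)).1 h1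

/-- `[v, F] D = E`: for every `e ∈ E` there is `f ∈ F` with `[v, f] e⁻¹ ∈ D`. -/
theorem surj [Finite G] {e : G} (he : e ∈ E) : ∃ f ∈ F, c v f * e⁻¹ ∈ D := by
  classical
  let DF' : Subgroup F := D.subgroupOf F
  let DE' : Subgroup E := D.subgroupOf E
  let φ : F → E := fun f => ⟨c v f, h.c_mem h.vV f.2⟩
  have key : ∀ a b : F, (φ a)⁻¹ * φ b ∈ DE' ↔ c v ((a : G)⁻¹ * b) ∈ D := by
    intro a b
    have ha : (a : G)⁻¹ = a := h.inv_F a.2
    rw [ha, h.c_mul_right h.vV a.2 b.2]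
    rw [mul_mem_cancel_right (h.beta_mem h.vV b.2 a.2)]
    have h1 : (c v a)⁻¹ = c v a := h.inv_V (h.c_memV h.vV a.2)
    change (c v a)⁻¹ * c v b ∈ D ↔ _
    rw [h1]
  let ψ : F ⧸ DF' → E ⧸ DE' := Quotient.map' φ (by
    intro a b hab
    rw [QuotientGroup.leftRel_apply] at hab ⊢
    rw [key]
    have h1 : ((a : G)⁻¹ * b) ∈ D := hab
    have h2 := h.c_D h1 (one_mem F)
    rw [c_def, h.V_comm h.vV (h.DV h1), mul_inv_cancel_right, mul_inv_cancel]
    exact one_mem _)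
  have hinj : Function.Injective ψ := by
    intro x y
    refine Quotient.inductionOn₂' x y fun a b hab => ?_
    have h1 : Quotient.mk'' (φ a) = (Quotient.mk'' (φ b) : E ⧸ DE') := hab
    rw [Quotient.eq'', QuotientGroup.leftRel_apply, key] at h1
    rw [Quotient.eq'', QuotientGroup.leftRel_apply]
    exact h.inj _ (mul_mem (inv_mem a.2) b.2) h1
  have hsurj : Function.Surjective ψ := by
    have hcard : Nat.card (E ⧸ DE') ≤ Nat.card (F ⧸ DF') := by
      have : DF'.index = DE'.index := h.card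
      rw [← Subgroup.index, ← Subgroup.index, this]
    exact (hinj.bijective_of_nat_card_le hcard).2
  obtain ⟨x, hx⟩ := hsurj (Quotient.mk'' ⟨e, he⟩)
  revert hx
  refine Quotient.inductionOn' x fun a ha => ⟨a, a.2, ?_⟩
  have h1 : Quotient.mk'' (φ a) = (Quotient.mk'' ⟨e, he⟩ : E ⧸ DE') := ha
  rw [Quotient.eq'', QuotientGroup.leftRel_apply] at h1
  have h2 : (c v a)⁻¹ * e ∈ D := h1
  have h3 : (c v a)⁻¹ = c v a := h.inv_V (h.c_memV h.vV a.2)
  rw [h3] at h2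
  rwa [h.inv_V (h.EV he)]

end Near

/-! ### From the frame -/

section Frame

variable {V Q : Subgroup G} {v g : G}

/-- `V₁ = E⟨v⟩`, `E = V ∩ Q` -/
abbrev V1 (V Q : Subgroup G) (v : G) : Subgroup G := (V ⊓ Q) ⊔ zpowers v

theorem V1_le (hv : v ∈ V) : V1 V Q v ≤ V := sup_le inf_le_left (zpowers_le.2 hv)

theorem mem_V1 (hVc : V ≤ centralizer (V : Set G)) (hv : v ∈ V) (hv2 : v ^ 2 = 1) {x : G}
    (hx : x ∈ V1 V Q v) : ∃ e ∈ V ⊓ Q, x = e ∨ x = e * v := by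
  have hn : zpowers v ≤ normalizer ((V ⊓ Q : Subgroup G) : Set G) := by
    refine le_normalizer_of_comm fun a ha b hb => ?_
    have h1 : a * b = b * a := comm_of_le_centralizer hVc (zpowers_le.2 hv ha) hb.1
    rw [h1, mul_inv_cancel_right, mul_inv_cancel]
    exact one_mem _
  have h3 : x ∈ (((V ⊓ Q) ⊔ zpowers v : Subgroup G) : Set G) := hx
  rw [Subgroup.coe_mul_of_right_le_normalizer_left _ _ hn] at h3
  obtain ⟨e, he, f, hf, rfl⟩ := h3
  refine ⟨e, he, ?_⟩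
  obtain ⟨k, rfl⟩ := mem_zpowers_iff.1 hf
  rcases Int.even_or_odd' k with ⟨m, rfl | rfl⟩
  · left
    have : v ^ (2 * m) = 1 := by
      rw [zpow_mul]
      have : v ^ (2 : ℤ) = 1 := by exact_mod_cast hv2
      rw [this, one_zpow]
    change e * v ^ (2 * m) = e
    rw [this, mul_one]
  · right
    have : v ^ (2 * m + 1) = v := by
      rw [zpow_add, zpow_mul, zpow_one]
      have : v ^ (2 : ℤ) = 1 := by exact_mod_cast hv2
      rw [this, one_zpow, one_mul]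
    change e * v ^ (2 * m + 1) = e * v
    rw [this]

theorem V1_inf (hVc : V ≤ centralizer (V : Set G)) (hv : v ∈ V) (hv2 : v ^ 2 = 1) (hvQ : v ∉ Q) :
    V1 V Q v ⊓ Q = V ⊓ Q := by
  apply le_antisymm
  · intro x hx
    obtain ⟨hx1, hx2⟩ := mem_inf.1 hx
    obtain ⟨e, he, rfl | rfl⟩ := mem_V1 hVc hv hv2 hx1
    · exact he
    · exact absurd ((mul_mem_cancel_left (mem_inf.1 he).2).1 hx2) hvQ
  · exact le_inf le_sup_left inf_le_right

/-- The frame for `V₁ = E⟨v⟩`. -/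
theorem fr_V1 (hVc : V ≤ centralizer (V : Set G)) (hQV : Q ≤ normalizer (V : Set G))
    (hVQ : V ≤ normalizer (Q : Set G)) (hv : v ∈ V) (gQ : MulAut.conj g • Q = Q)
    (gX : g ∈ X (V1 V Q v) g) : Fr (V1 V Q v) Q g where
  comm := comm_mono hVc (V1_le hv) (V1_le hv)
  QV := by
    have : V1 V Q v ≤ normalizer (Q : Set G) := (V1_le hv).trans hVQ
    refine le_normalizer_of_comm fun a ha b hb => mem_sup_left ?_
    have h1 := inv_mem (comm_mem_inf hVQ hQV (V1_le hv hb) ha)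
    have e : (b * a * b⁻¹ * a⁻¹)⁻¹ = a * b * a⁻¹ * b⁻¹ := by group
    rwa [e] at h1
  VQ := (V1_le hv).trans hVQ
  gQ := gQ
  gX := gX

/-- `Near` from the frame. -/
theorem near_of_fr [Finite G] (hVc : V ≤ centralizer (V : Set G)) (hV2 : ∀ w ∈ V, w ^ 2 = 1)
    (hQV : Q ≤ normalizer (V : Set G)) (hVQ : V ≤ normalizer (Q : Set G)) (hv : v ∈ V)
    (hvQ : v ∉ Q) (h : Fr (V1 V Q v) Q g) :
    Near V (V ⊓ Q) ((V ⊓ Q) ⊓ MulAut.conj g • (V ⊓ Q)) (MulAut.conj g • (V ⊓ Q)) v := by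
  have hE : E (V1 V Q v) Q = V ⊓ Q := V1_inf hVc hv (hV2 v hv) hvQ
  have hE' : E' (V1 V Q v) Q g = MulAut.conj g • (V ⊓ Q) := by rw [E', V1_inf hVc hv (hV2 v hv) hvQ]
  have hD : D (V1 V Q v) Q g = (V ⊓ Q) ⊓ MulAut.conj g • (V ⊓ Q) := by rw [D, hE, hE']
  rw [← hD, ← hE']
  have hc : ∀ {x : G}, x ∈ E' (V1 V Q v) Q g → x ^ 2 = 1 := by
    intro x hx
    rw [hE'] at hx
    obtain ⟨y, hy, rfl⟩ := mem_conj'.1 hx
    rw [conj_pow, hV2 y hy.1, mul_one, mul_inv_cancel]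
  refine ⟨?_, inf_le_right, inf_le_left, hv, fun h1 => hvQ h1.2, hVc, hV2, ?_, fun f hf => hc hf,
    ?_, ?_, ?_, ?_⟩
  · rw [D, hE]; exact inf_le_left
  · exact comm_mono h.comm' Fr.E'_le_V' Fr.E'_le_V'
  · intro w hw f hf
    exact comm_mem_inf hVQ hQV hw (h.E'_le_Q hf)
  · intro e he f hf
    rw [← hE] at he
    exact h.comm_EE' he hf
  · intro f hf hfD
    have hf2 : f ^ 2 = 1 := hc hf
    have hXD : X (V1 V Q v) g ≤ normalizer ((D (V1 V Q v) Q g : Subgroup G) : Set G) := by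
      refine le_normalizer_of_comm fun x hx d hd => ?_
      rw [h.D_cent hd hx, mul_inv_cancel_right, mul_inv_cancel]
      exact one_mem _
    -- elements of `⟨f⟩`
    have hz : ∀ x : G, x * f * x⁻¹ * f⁻¹ ∈ D (V1 V Q v) Q g → x ∈ X (V1 V Q v) g →
        ∀ w ∈ zpowers f, x * w * x⁻¹ * w⁻¹ ∈ D (V1 V Q v) Q g := by
      intro x hx _ w hw
      obtain ⟨k, rfl⟩ := mem_zpowers_iff.1 hw
      have hf2' : f ^ (2 : ℤ) = 1 := by exact_mod_cast hf2
      rcases Int.even_or_odd' k with ⟨m, rfl | rfl⟩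
      · rw [zpow_mul, hf2', one_zpow, mul_one, mul_inv_cancel, one_mul, inv_one]
        exact one_mem _
      · rw [zpow_add, zpow_mul, zpow_one, hf2', one_zpow, one_mul]
        exact hx
    have h1 : X (V1 V Q v) g ≤ stab (X (V1 V Q v) g) (zpowers f) (D (V1 V Q v) Q g) hXD := by
      refine sup_le (sup_le ?_ (zpowers_le.2 ?_)) ?_
      · intro e he
        have he1 : e ∈ X (V1 V Q v) g := mem_sup_left (mem_sup_left he)
        exact ⟨he1, hz e (by rw [← hE] at he; exact h.comm_EE' he hf) he1⟩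
      · have hv1 : v ∈ X (V1 V Q v) g := mem_sup_left (mem_sup_right (mem_zpowers v))
        exact ⟨hv1, hz v hfD hv1⟩
      · intro x hx
        have hx1 : x ∈ X (V1 V Q v) g := mem_sup_right hx
        refine ⟨hx1, hz x ?_ hx1⟩
        have h2 : x * f = f * x := comm_of_le_centralizer h.comm' hx (Fr.E'_le_V' hf)
        rw [h2, mul_inv_cancel_right, mul_inv_cancel]
        exact one_mem _
    have h2 := (h1 (inv_mem h.gX)).2 f (mem_zpowers f)
    rw [inv_inv] at h2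
    have h3 : g⁻¹ * f * g ∈ E (V1 V Q v) Q := mem_conj.1 hf
    have h4 : f⁻¹ ∈ E (V1 V Q v) Q :=
      (mul_mem_cancel_left h3).1 (inf_le_left (a := E (V1 V Q v) Q) h2)
    exact mem_inf.2 ⟨inv_mem_iff.1 h4, hf⟩
  · have h1 := relIndex_mul_relIndex ⊥ (D (V1 V Q v) Q g) (E' (V1 V Q v) Q g) bot_le inf_le_right
    have h2 := relIndex_mul_relIndex ⊥ (D (V1 V Q v) Q g) (E (V1 V Q v) Q) bot_le inf_le_left
    simp only [relIndex_bot_left] at h1 h2
    rw [← hE]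
    rw [Fr.card_E', ← h2] at h1
    exact Nat.eq_of_mul_eq_mul_left Nat.card_pos h1

/-- The frame for `V₁`, all facts together. -/
structure Fin (V Q : Subgroup G) (v g : G) : Prop where
  fr : Fr (V1 V Q v) Q g
  near : Near V (V ⊓ Q) ((V ⊓ Q) ⊓ MulAut.conj g • (V ⊓ Q)) (MulAut.conj g • (V ⊓ Q)) v
  near' : Near (MulAut.conj g • V) (MulAut.conj g • (V ⊓ Q)) ((V ⊓ Q) ⊓ MulAut.conj g • (V ⊓ Q))
    (V ⊓ Q) (g * v * g⁻¹)
  ne : (V ⊓ Q) ⊓ MulAut.conj g • (V ⊓ Q) ≠ V ⊓ Q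
  cent : ∀ x ∈ V ⊔ MulAut.conj g • V, ∀ d ∈ (V ⊓ Q) ⊓ MulAut.conj g • (V ⊓ Q), x * d = d * x

/-- The image of a `Near` datum under `x ↦ g x g⁻¹`. -/
theorem Near.conj {V E D F : Subgroup G} {v : G} (h : Near V E D F v) (g : G) :
    Near (MulAut.conj g • V) (MulAut.conj g • E) (MulAut.conj g • D) (MulAut.conj g • F)
      (g * v * g⁻¹) where
  DE := conj_le_iff.2 h.DE
  DF := conj_le_iff.2 h.DF
  EV := conj_le_iff.2 h.EV
  vV := Frame.conj_mem h.vV
  vE := fun h1 => h.vE (by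
    rw [mem_conj] at h1
    have e : g⁻¹ * (g * v * g⁻¹) * g = v := by group
    rwa [e] at h1)
  Vcomm := conj_le_centralizer h.Vcomm
  Vsq := fun w hw => by
    obtain ⟨x, hx, rfl⟩ := mem_conj'.1 hw
    rw [conj_pow, h.Vsq x hx, mul_one, mul_inv_cancel]
  Fcomm := conj_le_centralizer h.Fcomm
  Fsq := fun w hw => by
    obtain ⟨x, hx, rfl⟩ := mem_conj'.1 hw
    rw [conj_pow, h.Fsq x hx, mul_one, mul_inv_cancel]
  comm := fun w hw f hf => by
    obtain ⟨x, hx, rfl⟩ := mem_conj'.1 hw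
    obtain ⟨y, hy, rfl⟩ := mem_conj'.1 hf
    have e : g * x * g⁻¹ * (g * y * g⁻¹) * (g * x * g⁻¹)⁻¹ * (g * y * g⁻¹)⁻¹ =
        g * (x * y * x⁻¹ * y⁻¹) * g⁻¹ := by group
    rw [e]
    exact Frame.conj_mem (h.comm x hx y hy)
  ED := fun w hw f hf => by
    obtain ⟨x, hx, rfl⟩ := mem_conj'.1 hw
    obtain ⟨y, hy, rfl⟩ := mem_conj'.1 hf
    have e : g * x * g⁻¹ * (g * y * g⁻¹) * (g * x * g⁻¹)⁻¹ * (g * y * g⁻¹)⁻¹ =
        g * (x * y * x⁻¹ * y⁻¹) * g⁻¹ := by group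
    rw [e]
    exact Frame.conj_mem (h.ED x hx y hy)
  inj := fun f hf h1 => by
    obtain ⟨y, hy, rfl⟩ := mem_conj'.1 hf
    have e : g * v * g⁻¹ * (g * y * g⁻¹) * (g * v * g⁻¹)⁻¹ * (g * y * g⁻¹)⁻¹ =
        g * (v * y * v⁻¹ * y⁻¹) * g⁻¹ := by group
    rw [e, mem_conj] at h1
    have e2 : g⁻¹ * (g * (v * y * v⁻¹ * y⁻¹) * g⁻¹) * g = v * y * v⁻¹ * y⁻¹ := by group
    rw [e2] at h1
    exact Frame.conj_mem (h.inj y hy h1)
  card := by
    have h1 : ∀ A : Subgroup G, MulAut.conj g • A = A.map (MulAut.conj g).toMonoidHom := fun A => rfl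
    rw [h1, h1, h1, relIndex_map_map_of_injective _ _ (MulAut.conj g).injective,
      relIndex_map_map_of_injective _ _ (MulAut.conj g).injective]
    exact h.card

theorem conj_inv_conj (g : G) (A : Subgroup G) : MulAut.conj g⁻¹ • (MulAut.conj g • A) = A := by
  rw [conj_conj, inv_mul_cancel, map_one, one_smul]

theorem conj_V1 (gQ : MulAut.conj g • Q = Q) :
    V1 (MulAut.conj g • V) Q (g * v * g⁻¹) = MulAut.conj g • V1 V Q v := by
  have h1 : MulAut.conj g • (V ⊓ Q) = MulAut.conj g • V ⊓ Q := by rw [Subgroup.smul_inf, gQ]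
  have h2 : MulAut.conj g • zpowers v = zpowers (g * v * g⁻¹) := by
    change (zpowers v).map (MulAut.conj g).toMonoidHom = _
    rw [MonoidHom.map_zpowers]
    rfl
  rw [V1, V1, Choice.conj_sup, h1, h2]

theorem fr_symm (h : Fr (V1 V Q v) Q g) :
    Fr (V1 (MulAut.conj g • V) Q (g * v * g⁻¹)) Q g⁻¹ := by
  rw [conj_V1 h.gQ]
  refine ⟨h.comm', h.QV', h.V'Q, ?_, ?_⟩
  · conv_lhs => rw [← h.gQ]
    exact conj_inv_conj g Q
  · rw [conj_inv_conj, sup_comm]
    exact inv_mem h.gX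

theorem near'_of_fr [Finite G] (hVc : V ≤ centralizer (V : Set G)) (hV2 : ∀ w ∈ V, w ^ 2 = 1)
    (hQV : Q ≤ normalizer (V : Set G)) (hVQ : V ≤ normalizer (Q : Set G)) (hv : v ∈ V)
    (hvQ : v ∉ Q) (h : Fr (V1 V Q v) Q g) :
    Near (MulAut.conj g • V) (MulAut.conj g • (V ⊓ Q)) ((V ⊓ Q) ⊓ MulAut.conj g • (V ⊓ Q))
      (V ⊓ Q) (g * v * g⁻¹) := by
  have h2 := fr_symm h
  have gQ' : MulAut.conj g⁻¹ • Q = Q := h2.gQ
  have hgn := h.g_mem_norm
  have hQV' : Q ≤ normalizer ((MulAut.conj g • V : Subgroup G) : Set G) := by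
    intro q hq
    have hq' : g⁻¹ * q * g ∈ Q := norm_mem' hgn hq
    have h1 := hQV hq'
    rw [mem_normalizer_iff] at h1 ⊢
    intro x
    rw [mem_conj, mem_conj, h1]
    have e : g⁻¹ * q * g * (g⁻¹ * x * g) * (g⁻¹ * q * g)⁻¹ = g⁻¹ * (q * x * q⁻¹) * g := by group
    rw [e]
  have hVQ' : MulAut.conj g • V ≤ normalizer (Q : Set G) := by
    intro x hx
    obtain ⟨v, hv, rfl⟩ := mem_conj'.1 hx
    exact mul_mem (mul_mem hgn (hVQ hv)) (inv_mem hgn)
  have hV2' : ∀ w ∈ MulAut.conj g • V, w ^ 2 = 1 := fun w hw => by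
    obtain ⟨x, hx, rfl⟩ := mem_conj'.1 hw
    rw [conj_pow, hV2 x hx, mul_one, mul_inv_cancel]
  have hvQ' : g * v * g⁻¹ ∉ Q := fun h1 => hvQ (by
    have := norm_mem' hgn h1
    have e : g⁻¹ * (g * v * g⁻¹) * g = v := by group
    rwa [e] at this)
  have h3 := near_of_fr (conj_le_centralizer hVc) hV2' hQV' hVQ' (Frame.conj_mem hv) hvQ' h2
  have e1 : MulAut.conj g • V ⊓ Q = MulAut.conj g • (V ⊓ Q) := by rw [Subgroup.smul_inf, h.gQ]
  rw [e1, conj_inv_conj] at h3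
  rw [inf_comm (V ⊓ Q)]
  exact h3

theorem cent_of_fr (hVc : V ≤ centralizer (V : Set G)) :
    ∀ x ∈ V ⊔ MulAut.conj g • V, ∀ d ∈ (V ⊓ Q) ⊓ MulAut.conj g • (V ⊓ Q), x * d = d * x := by
  intro x hx d hd
  obtain ⟨hd1, hd2⟩ := mem_inf.1 hd
  have h1 : V ⊔ MulAut.conj g • V ≤ centralizer {d} := by
    refine sup_le (fun y hy => ?_) (fun y hy => ?_)
    · rw [mem_centralizer_singleton_iff]
      exact comm_of_le_centralizer hVc hy (mem_inf.1 hd1).1
    · rw [mem_centralizer_singleton_iff]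
      exact comm_of_le_centralizer (conj_le_centralizer hVc) hy (conj_le_iff.2 inf_le_left hd2)
  exact mem_centralizer_singleton_iff.1 (h1 hx)

theorem ne_of_fr [Finite G] {C : Subgroup G} (hVc : V ≤ centralizer (V : Set G))
    (hV2 : ∀ w ∈ V, w ^ 2 = 1) (hv : v ∈ V) (hvQ : v ∉ Q) (hQ2 : IsPGroup 2 Q)
    (hC : C ⊓ centralizer (Q : Set G) ≤ Q) (hVC : V ≤ C) (hg : g ∈ C)
    (h : Fr (V1 V Q v) Q g) (hX : ¬ IsPGroup 2 (X (V1 V Q v) g)) :
    (V ⊓ Q) ⊓ MulAut.conj g • (V ⊓ Q) ≠ V ⊓ Q := by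
  intro heq
  apply hX
  have hE : E (V1 V Q v) Q = V ⊓ Q := V1_inf hVc hv (hV2 v hv) hvQ
  have hE' : E' (V1 V Q v) Q g = MulAut.conj g • (V ⊓ Q) := by rw [E', V1_inf hVc hv (hV2 v hv) hvQ]
  have hD : D (V1 V Q v) Q g = V ⊓ Q := by rw [D, hE, hE', heq]
  have hE'E : MulAut.conj g • (V ⊓ Q) = V ⊓ Q := by
    have h1 : V ⊓ Q ≤ MulAut.conj g • (V ⊓ Q) := by
      intro x hx
      rw [← heq] at hx
      exact (mem_inf.1 hx).2
    exact (Subgroup.eq_of_le_of_card_ge h1 (by rw [Choice.card_conj])).symm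
  have hW : W (V1 V Q v) Q g = D (V1 V Q v) Q g := by rw [W, hE, hE', hE'E, hD, sup_idem]
  have hXC : X (V1 V Q v) g ≤ C :=
    sup_le ((V1_le hv).trans hVC) (Choice.conj_le_of_mem ((V1_le hv).trans hVC) hg)
  rintro ⟨x, hx⟩
  obtain ⟨k, hk⟩ := h.exists_pow_eq_one hQ2 hC hXC hx (fun w hw => by
    have hw' : w ∈ D (V1 V Q v) Q g := hW ▸ hw
    rw [h.D_cent hw' hx, mul_inv_cancel_right, mul_inv_cancel]
    exact one_mem _)
  exact ⟨k, Subtype.ext hk⟩

/-- **The frame without a bound on `|A|`.**  `C` of characteristic 2, `V ≤ C` elementary abelian,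
normalised by `Q = O₂(C)`, `v ∈ V - Q`. -/
theorem exists_near [Finite G] {C : Subgroup G} (hC : C ⊓ centralizer (o2 C : Set G) ≤ o2 C)
    (hVC : V ≤ C) (hVc : V ≤ centralizer (V : Set G)) (hV2 : ∀ w ∈ V, w ^ 2 = 1)
    (hQV : o2 C ≤ normalizer (V : Set G)) (hv : v ∈ V) (hvQ : v ∉ o2 C) :
    ∃ g ∈ C, Fin V (o2 C) v g ∧ ¬ IsPGroup 2 (X (V1 V (o2 C) v) g) ∧
      ∀ y ∈ C, Nat.card (X (V1 V (o2 C) v) y) < Nat.card (X (V1 V (o2 C) v) g) →
        IsPGroup 2 (X (V1 V (o2 C) v) y) := by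
  have hV1C : V1 V (o2 C) v ≤ C := (V1_le hv).trans hVC
  have hV1o : ¬ V1 V (o2 C) v ≤ o2 C := fun h1 => hvQ (h1 (mem_sup_right (mem_zpowers v)))
  obtain ⟨g, hg, hgX, hX2, hmin⟩ := Choice.exists_g hV1C hV1o
  have hVQ : V ≤ normalizer (o2 C : Set G) := hVC.trans (le_normalizer_o2 C)
  have gQ : MulAut.conj g • o2 C = o2 C := by
    have := le_normalizer_o2 C hg
    ext x
    rw [mem_conj, mem_normalizer_iff.1 this]
    have e : g * (g⁻¹ * x * g) * g⁻¹ = x := by group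
    rw [e]
  have hfr := fr_V1 hVc hQV hVQ hv gQ hgX
  exact ⟨g, hg, ⟨hfr, near_of_fr hVc hV2 hQV hVQ hv hvQ hfr, near'_of_fr hVc hV2 hQV hVQ hv hvQ hfr,
    ne_of_fr hVc hV2 hv hvQ (o2_isPGroup C) hC hVC hg hfr hX2, cent_of_fr hVc⟩, hX2, hmin⟩

/-- Every subgroup of `V ∩ Q` centralised by `g` lies in `D`. -/
theorem le_D {Z : Subgroup G} (hZ : Z ≤ V ⊓ Q) (hg : ∀ z ∈ Z, g * z = z * g) :
    Z ≤ (V ⊓ Q) ⊓ MulAut.conj g • (V ⊓ Q) := by
  refine le_inf hZ fun z hz => mem_conj.2 ?_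
  have e : g⁻¹ * z * g = z := by rw [mul_assoc, ← hg z hz, inv_mul_cancel_left]
  rw [e]
  exact hZ hz

end Frame

/-! ### The symbols: the trace map -/

namespace Near

variable {V E D F : Subgroup G} {v : G} (h : Near V E D F v)
include h

theorem c_V_D {w d : G} (hw : w ∈ V) (hd : d ∈ D) : c w d = 1 := by
  rw [c, h.V_comm hw (h.DV hd), mul_inv_cancel_right, mul_inv_cancel]

theorem beta_D_right {w f d : G} (hw : w ∈ V) (hf : f ∈ F) (hd : d ∈ D) : beta w f d = 1 :=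
  h.c_V_D (h.c_memV hw hf) hd

theorem beta_D_left {w d f : G} (hw : w ∈ V) (hd : d ∈ D) : beta w d f = 1 := by
  rw [beta, h.c_V_D hw hd, c, one_mul, inv_one, mul_one, mul_inv_cancel]

theorem beta_inv {w f f' : G} (hw : w ∈ V) (hf : f ∈ F) (hf' : f' ∈ F) :
    (beta w f f')⁻¹ = beta w f f' := h.inv_V (h.DV (h.beta_mem hw hf hf'))

end Near

/-- Both faces of the frame. -/
structure Pair (V V' E F D : Subgroup G) (v v' : G) : Prop where
  one : Near V E D F v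
  two : Near V' F D E v'

theorem Fin.pair {V Q : Subgroup G} {v g : G} (h : Fin V Q v g) :
    Pair V (MulAut.conj g • V) (V ⊓ Q) (MulAut.conj g • (V ⊓ Q))
      ((V ⊓ Q) ⊓ MulAut.conj g • (V ⊓ Q)) v (g * v * g⁻¹) := ⟨h.near, h.near'⟩

/-- `τ f = [v', [v, f]]` -/
def tau (v v' f : G) : G := c v' (c v f)

theorem c_inv (x y : G) : (c x y)⁻¹ = c y x := by
  rw [c, c]; group

namespace Pair

variable {V V' E F D : Subgroup G} {v v' : G} (h : Pair V V' E F D v v')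
include h

theorem symm : Pair V' V F E D v' v := ⟨h.two, h.one⟩

theorem tau_mem {f : G} (hf : f ∈ F) : tau v v' f ∈ F :=
  h.two.c_mem h.two.vV (h.one.c_mem h.one.vV hf)

theorem tau_inj {f : G} (hf : f ∈ F) (h1 : tau v v' f ∈ D) : f ∈ D :=
  h.one.inj f hf (h.two.inj _ (h.one.c_mem h.one.vV hf) h1)

/-- `β_v(f, f') = [[v, f], f']` and `β_{v'}(e, e') = [[v', e], e']` are related. -/
theorem beta_tau_aux {e f : G} (he : e ∈ E) (hf : f ∈ F) :
    beta v f (c v' e) = beta v' e (c v f) := by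
  have h1 : beta v' e (c v f) = (beta v f (c v' e))⁻¹ := by
    rw [beta, beta, c_inv]
  rw [h1, h.one.beta_inv h.one.vV hf (h.two.c_mem h.two.vV he)]

/-- `τ` is self-adjoint for `β_v`. -/
theorem beta_tau {f f' : G} (hf : f ∈ F) (hf' : f' ∈ F) :
    beta v (tau v v' f) f' = beta v f (tau v v' f') := by
  have he := h.one.c_mem h.one.vV hf
  have he' := h.one.c_mem h.one.vV hf'
  rw [h.one.beta_comm h.one.vV (h.tau_mem hf) hf', tau, tau, h.beta_tau_aux he hf',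
    h.beta_tau_aux he' hf, h.two.beta_comm h.two.vV he he']

/-- `β_v(f, τ f) = 1` -/
theorem beta_self_tau {f : G} (hf : f ∈ F) : beta v f (tau v v' f) = 1 := by
  rw [tau, h.beta_tau_aux (h.one.c_mem h.one.vV hf) hf]
  exact h.two.beta_self h.two.vV (h.one.c_mem h.one.vV hf)

theorem tau_iter_mem {f : G} (hf : f ∈ F) (n : ℕ) : (tau v v')^[n] f ∈ F := by
  induction n with
  | zero => exact hf
  | succ n ih => rw [Function.iterate_succ_apply']; exact h.tau_mem ih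

theorem beta_tau_iter {f f' : G} (hf : f ∈ F) (hf' : f' ∈ F) (n : ℕ) :
    beta v ((tau v v')^[n] f) f' = beta v f ((tau v v')^[n] f') := by
  induction n generalizing f f' with
  | zero => rfl
  | succ n ih =>
    rw [Function.iterate_succ_apply', h.beta_tau (h.tau_iter_mem hf n) hf', ih hf (h.tau_mem hf'),
      ← Function.iterate_succ_apply]

/-- `β_v(f, τⁿ f) = 1` for all `n` -/
theorem beta_self_tau_iter {f : G} (hf : f ∈ F) (n : ℕ) : beta v f ((tau v v')^[n] f) = 1 := by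
  rcases Nat.even_or_odd' n with ⟨m, rfl | rfl⟩
  · rw [two_mul, Function.iterate_add_apply, ← h.beta_tau_iter hf (h.tau_iter_mem hf m)]
    exact h.one.beta_self h.one.vV (h.tau_iter_mem hf m)
  · rw [two_mul, add_assoc, Function.iterate_add_apply, ← h.beta_tau_iter hf (h.tau_iter_mem hf _),
      Function.iterate_succ_apply']
    exact h.beta_self_tau (h.tau_iter_mem hf m)

/-- `τ` is additive modulo `D`. -/
theorem tau_mul {f f' : G} (hf : f ∈ F) (hf' : f' ∈ F) :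
    ∃ d ∈ D, tau v v' (f * f') = tau v v' f * tau v v' f' * d := by
  have he := h.one.c_mem h.one.vV hf
  have he' := h.one.c_mem h.one.vV hf'
  have hb := h.one.beta_mem h.one.vV hf' hf
  refine ⟨beta v' (c v f') (c v f), h.two.beta_mem h.two.vV he' he, ?_⟩
  rw [tau, h.one.c_mul_right h.one.vV hf hf',
    h.two.c_mul_right h.two.vV (mul_mem he he') (h.two.DF hb), h.two.c_V_D h.two.vV hb, mul_one,
    h.two.beta_D_left h.two.vV hb, mul_one, h.two.c_mul_right h.two.vV he he']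
  rfl

theorem tau_D {d : G} (hd : d ∈ D) : tau v v' d = 1 := by
  rw [tau, h.one.c_V_D h.one.vV hd, c, mul_one, mul_inv_cancel, one_mul, inv_one]

end Pair

/-! ### The maps `θ_w` -/

namespace Near

variable {V E D F : Subgroup G} {v : G} (h : Near V E D F v)
include h

/-- The relation `h = θ_w f`, i.e. `[w, f] ≡ [v, h]` modulo `D`. -/
theorem exists_theta [Finite G] {w f : G} (hw : w ∈ V) (hf : f ∈ F) :
    ∃ k ∈ F, c v k * (c w f)⁻¹ ∈ D := h.surj (h.c_mem hw hf)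

/-- `β_v(θ_w f, f') = β_w(f, f')` -/
theorem beta_theta {w f k f' : G} (hw : w ∈ V) (hf : f ∈ F) (hf' : f' ∈ F)
    (hth : c v k * (c w f)⁻¹ ∈ D) : beta v k f' = beta w f f' := by
  have h1 : c v k = c v k * (c w f)⁻¹ * c w f := by rw [inv_mul_cancel_right]
  rw [beta, h1, h.c_mul_left (h.DV hth) (h.c_memV hw hf) hf', h.c_D hth hf', one_mul]
  rfl

/-- `θ_w` is self-adjoint for `β_v`. -/
theorem theta_adj {w f k f' k' : G} (hw : w ∈ V) (hf : f ∈ F) (hf' : f' ∈ F) (hk' : k' ∈ F)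
    (hth : c v k * (c w f)⁻¹ ∈ D) (hth' : c v k' * (c w f')⁻¹ ∈ D) :
    beta v k f' = beta v f k' := by
  rw [h.beta_theta hw hf hf' hth, h.beta_comm hw hf hf', ← h.beta_theta hw hf' hf hth',
    h.beta_comm h.vV hk' hf]

/-- `β_v(θ_w f, f) = 1` -/
theorem theta_self {w f k : G} (hw : w ∈ V) (hf : f ∈ F)
    (hth : c v k * (c w f)⁻¹ ∈ D) : beta v k f = 1 := by
  rw [h.beta_theta hw hf hf hth, h.beta_self hw hf]

end Near

end Cfsg.Agent.Omega.NOne.NearFF
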