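import Cfsg.Agent.Omega.NOne.DZero
import Cfsg.Agent.Omega.NOne.LemmaT
import Cfsg.Agent.MinSimple.CosetFam

/-!
# NO-1, THEOREM D0: the instance (helper302)

`G` of characteristic 2 type, `S` a Sylow 2-subgroup with `Ω₁ Z(S) = ⟨z 0⟩`, `S ≤ M ≤ N(V)`,
`V = {1} ∪ {z i} ∪ {z i z j}` of order 16 with `M` inducing `A₅` or `S₅` on the five points `z i`
(`V = O₄⁻(2)`-module).  If `V ≰ O₂(C(z 0))`, then `O₂(C(z 0))` is extraspecial:
`Large (o2 (centralizer {z 0})) (z 0)`.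
-/

set_option autoImplicit false

namespace Cfsg.Agent.Omega.NOne.DZeroPts

open Subgroup Cfsg Cfsg.Agent.ZN
open Cfsg.Agent.MinSimple.VModule (o2_isPGroup)
open Cfsg.Agent.Omega.NOne.DZero
open scoped Pointwise

set_option maxRecDepth 100000 in
theorem two_elt : ∀ i : Fin 5, ∀ σ : Equiv.Perm (Fin 5), σ i = i →
    (∀ j, j ≠ i → σ j ≠ j ∧ σ (σ j) = j) ∨ σ = 1 ∨
      ∃ τ : Equiv.Perm (Fin 5), τ i = i ∧ Equiv.Perm.sign τ = 1 ∧
        (σ * (τ * σ * τ⁻¹)) ^ 3 = 1 ∧ σ * (τ * σ * τ⁻¹) ≠ 1 := by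
  decide +kernel

set_option maxRecDepth 100000 in
theorem two_trans : ∀ i j k a b : Fin 5, [i, j, k].Nodup → [i, a, b].Nodup →
    ∃ τ : Equiv.Perm (Fin 5), τ i = i ∧ τ j = a ∧ τ k = b ∧ Equiv.Perm.sign τ = 1 := by
  decide +kernel

universe u

variable {G : Type u} [Group G]

/-- The five singular vectors of an `O₄⁻(2)`-module `V` with `M` inducing `A₅` or `S₅`. -/
structure Pts (M V : Subgroup G) (z : Fin 5 → G) : Prop where
  mem : ∀ i, z i ∈ V
  gen : ∀ v ∈ V, v = 1 ∨ (∃ i, v = z i) ∨ ∃ i j, i ≠ j ∧ v = z i * z j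
  inj : Function.Injective z
  ne_one : ∀ i, z i ≠ 1
  sq : ∀ i, z i * z i = 1
  comm : ∀ i j, z i * z j = z j * z i
  prod : ∀ a b c d e : Fin 5, [a, b, c, d, e].Nodup → z a * z b * z c * z d = z e
  perm : ∀ m ∈ M, ∃ σ : Equiv.Perm (Fin 5), ∀ j, m * z j * m⁻¹ = z (σ j)
  alt : ∀ σ : Equiv.Perm (Fin 5), Equiv.Perm.sign σ = 1 → ∃ m ∈ M, ∀ j, m * z j * m⁻¹ = z (σ j)

/-- `C(x)` -/
abbrev CC (x : G) : Subgroup G := centralizer ((zpowers x : Subgroup G) : Set G)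

/-- `O₂(C(x))` -/
abbrev QQ (x : G) : Subgroup G := o2 (CC x)

/-- `⟨(V ∩ O₂(C(x)))^{C(x)}⟩` -/
def QS (V : Subgroup G) (x : G) : Subgroup G :=
  closure {y | ∃ c ∈ CC x, ∃ e ∈ V ⊓ QQ x, y = c * e * c⁻¹}

theorem mem_CC {x g : G} : g ∈ CC x ↔ g * x = x * g := by
  rw [CC, mem_centralizer_iff]
  constructor
  · intro h
    exact (h x (mem_zpowers x)).symm
  · rintro h y ⟨n, rfl⟩
    exact ((show Commute g x from h).zpow_right n).symm

theorem CC_eq (x : G) : CC x = centralizer ({x} : Set G) := by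
  ext g
  rw [mem_CC, mem_centralizer_singleton_iff]

theorem conj_smul_zpowers (g x : G) : MulAut.conj g • zpowers x = zpowers (g * x * g⁻¹) := by
  rw [Cfsg.Agent.MinSimple.CosetFam.conj_smul_def, MonoidHom.map_zpowers]
  rfl

theorem conj_mem_iff {g x : G} {H : Subgroup G} :
    g * x * g⁻¹ ∈ MulAut.conj g • H ↔ x ∈ H := by
  rw [Cfsg.Agent.MinSimple.CosetGraph.mem_conj_smul]
  have e : g⁻¹ * (g * x * g⁻¹) * g = x := by group
  rw [e]

theorem CC_conj (g x : G) : CC (g * x * g⁻¹) = MulAut.conj g • CC x := by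
  rw [CC, ← conj_smul_zpowers, Cfsg.Agent.MinSimple.CosetFam.centralizer_conj]

theorem QQ_conj (g x : G) : QQ (g * x * g⁻¹) = MulAut.conj g • QQ x := by
  rw [QQ, CC_conj, Cfsg.Agent.MinSimple.CosetFam.o2_conj]

theorem mem_CC_conj {g x y : G} : g * y * g⁻¹ ∈ CC (g * x * g⁻¹) ↔ y ∈ CC x := by
  rw [CC_conj, conj_mem_iff]

theorem mem_QQ_conj {g x y : G} : g * y * g⁻¹ ∈ QQ (g * x * g⁻¹) ↔ y ∈ QQ x := by
  rw [QQ_conj, conj_mem_iff]

theorem QQ_le (x : G) : QQ x ≤ CC x := o2_le _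

theorem QQ_norm {x c : G} (hc : c * x = x * c) {y : G} (hy : y ∈ QQ x) : c * y * c⁻¹ ∈ QQ x := by
  have h1 := (mem_QQ_conj (g := c)).2 hy
  rwa [comm_conj hc] at h1

theorem QS_conj {V : Subgroup G} {g x y : G} (hg : g ∈ normalizer (V : Set G)) (hy : y ∈ QS V x) :
    g * y * g⁻¹ ∈ QS V (g * x * g⁻¹) := by
  unfold QS at hy
  induction hy using closure_induction with
  | mem y hy =>
    obtain ⟨c, hc, e, he, rfl⟩ := hy
    refine subset_closure ⟨g * c * g⁻¹, mem_CC_conj.2 hc, g * e * g⁻¹,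
      ⟨(mem_normalizer_iff.1 hg e).1 he.1, mem_QQ_conj.2 he.2⟩, by group⟩
  | one => simpa using one_mem _
  | mul a b _ _ ha hb =>
    have e : g * (a * b) * g⁻¹ = (g * a * g⁻¹) * (g * b * g⁻¹) := by group
    rw [e]; exact mul_mem ha hb
  | inv a _ ha =>
    have e : g * a⁻¹ * g⁻¹ = (g * a * g⁻¹)⁻¹ := by group
    rw [e]; exact inv_mem ha

theorem QS_norm {V : Subgroup G} {c x y : G} (hc : c * x = x * c) (hy : y ∈ QS V x) :
    c * y * c⁻¹ ∈ QS V x := by
  unfold QS at hy ⊢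
  induction hy using closure_induction with
  | mem y hy =>
    obtain ⟨d, hd, e, he, rfl⟩ := hy
    exact subset_closure ⟨c * d, mul_mem (mem_CC.2 hc) hd, e, he, by group⟩
  | one => simpa using one_mem _
  | mul a b _ _ ha hb =>
    have e : c * (a * b) * c⁻¹ = (c * a * c⁻¹) * (c * b * c⁻¹) := by group
    rw [e]; exact mul_mem ha hb
  | inv a _ ha =>
    have e : c * a⁻¹ * c⁻¹ = (c * a * c⁻¹)⁻¹ := by group
    rw [e]; exact inv_mem ha

theorem QS_le (V : Subgroup G) (x : G) : QS V x ≤ QQ x := by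
  unfold QS
  rw [closure_le]
  rintro y ⟨c, hc, e, he, rfl⟩
  exact QQ_norm (mem_CC.1 hc) he.2

theorem mem_QS {V : Subgroup G} {x e : G} (he : e ∈ V) (he' : e ∈ QQ x) : e ∈ QS V x :=
  subset_closure ⟨1, one_mem _, e, ⟨he, he'⟩, by group⟩

theorem z_mem_QQ {x : G} (hx : x * x = 1) : x ∈ QQ x := by
  have h1 : zpowers x ≤ QQ x := by
    refine le_o2 ?_ ?_ ?_
    · rw [zpowers_le]; exact mem_CC.2 rfl
    · rintro ⟨y, hy⟩
      obtain ⟨n, rfl⟩ := mem_zpowers_iff.1 hy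
      refine ⟨1, Subtype.ext ?_⟩
      change (x ^ n) ^ 2 ^ 1 = 1
      rw [pow_one, ← zpow_natCast, ← zpow_mul, mul_comm, zpow_mul]
      have : x ^ (2 : ℤ) = 1 := by rw [zpow_two]; exact hx
      rw [Nat.cast_ofNat, this, one_zpow]
    · exact LemmaT.centralizer_le_normalizer' _
  exact h1 (mem_zpowers x)

/-- local data at the point `z i` -/
structure Loc (M V : Subgroup G) (z : Fin 5 → G) (T : Subgroup G) (i : Fin 5) : Prop where
  TM : T ≤ M
  pg : IsPGroup 2 T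
  cz : ∀ t ∈ T, t * z i = z i * t
  QT : QQ (z i) ≤ T
  Z : ∀ x ∈ T, (∀ s ∈ T, x * s = s * x) → x * x = 1 → x = 1 ∨ x = z i
  char2 : ∀ g, g * z i = z i * g → (∀ x ∈ QQ (z i), g * x = x * g) → g ∈ QQ (z i)
  VQ : ¬ V ≤ QQ (z i)
  E : ∃ e ∈ V ⊓ QQ (z i), e ≠ 1 ∧ e ≠ z i

/-- transport of the local data -/
theorem Loc.conj {M V : Subgroup G} {z : Fin 5 → G} {T : Subgroup G} {i j : Fin 5}
    (h : Loc M V z T i) (hMV : M ≤ normalizer (V : Set G)) {m : G} (hm : m ∈ M)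
    (hij : m * z i * m⁻¹ = z j) : Loc M V z (MulAut.conj m • T) j := by
  have hVm : ∀ {v}, v ∈ V ↔ m * v * m⁻¹ ∈ V := fun {v} => mem_normalizer_iff.1 (hMV hm) v
  have back : ∀ y : G, ∃ x, y = m * x * m⁻¹ := fun y => ⟨m⁻¹ * y * m, by group⟩
  have hcomm : ∀ {a b : G}, m * a * m⁻¹ * (m * b * m⁻¹) = m * b * m⁻¹ * (m * a * m⁻¹) ↔
      a * b = b * a := by
    intro a b
    have e1 : m * a * m⁻¹ * (m * b * m⁻¹) = m * (a * b) * m⁻¹ := by group
    have e2 : m * b * m⁻¹ * (m * a * m⁻¹) = m * (b * a) * m⁻¹ := by group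
    rw [e1, e2]
    exact ⟨fun h => mul_left_cancel (mul_right_cancel h), fun h => by rw [h]⟩
  have hQ : QQ (z j) = MulAut.conj m • QQ (z i) := by rw [← hij, QQ_conj]
  refine ⟨?_, ?_, ?_, ?_, ?_, ?_, ?_, ?_⟩
  · intro y hy
    obtain ⟨x, rfl⟩ := back y
    exact mul_mem (mul_mem hm (h.TM (conj_mem_iff.1 hy))) (inv_mem hm)
  · exact h.pg.map _
  · intro y hy
    obtain ⟨x, rfl⟩ := back y
    rw [← hij]
    exact hcomm.2 (h.cz x (conj_mem_iff.1 hy))
  · intro y hy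
    obtain ⟨x, rfl⟩ := back y
    rw [hQ, conj_mem_iff] at hy
    exact conj_mem_iff.2 (h.QT hy)
  · intro y hy hys hy2
    obtain ⟨x, rfl⟩ := back y
    have h1 : x * x = 1 := by
      calc x * x = m⁻¹ * (m * x * m⁻¹ * (m * x * m⁻¹)) * m := by group
        _ = 1 := by rw [hy2]; group
    rcases h.Z x (conj_mem_iff.1 hy) (fun s hs => hcomm.1 (hys _ (conj_mem_iff.2 hs))) h1 with
      rfl | rfl
    · left; group
    · right; exact hij
  · intro y hy hys
    obtain ⟨x, rfl⟩ := back y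
    rw [← hij] at hy
    rw [hQ, conj_mem_iff]
    refine h.char2 x (hcomm.1 hy) fun w hw => hcomm.1 (hys _ ?_)
    rw [hQ, conj_mem_iff]; exact hw
  · intro hV
    apply h.VQ
    intro v hv
    have h1 := hV (hVm.1 hv)
    rwa [hQ, conj_mem_iff] at h1
  · obtain ⟨e, he, he1, he2⟩ := h.E
    refine ⟨m * e * m⁻¹, ⟨hVm.1 he.1, ?_⟩, ?_, ?_⟩
    · rw [hQ]; exact conj_mem_iff.2 he.2
    · intro h1
      apply he1
      calc e = m⁻¹ * (m * e * m⁻¹) * m := by group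
        _ = 1 := by rw [h1]; group
    · intro h1
      apply he2
      rw [← hij] at h1
      exact mul_left_cancel (mul_right_cancel h1)

section Facts

variable {M V : Subgroup G} {z : Fin 5 → G}

theorem nodup3 {i j k : Fin 5} (h1 : i ≠ j) (h2 : i ≠ k) (h3 : j ≠ k) : [i, j, k].Nodup := by
  simp [h1, h2, h3]

/-- the points outside `z i` are not in `O₂(C(z i))` -/
theorem not_mem (h : Pts M V z) {T : Subgroup G} {i : Fin 5} (hl : Loc M V z T i) {j : Fin 5}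
    (hji : j ≠ i) : z j ∉ QQ (z i) := by
  intro hj
  apply hl.VQ
  have hall : ∀ k, z k ∈ QQ (z i) := by
    intro k
    by_cases hki : k = i
    · rw [hki]; exact z_mem_QQ (h.sq i)
    obtain ⟨a, ha1, ha2⟩ : ∃ a : Fin 5, a ≠ i ∧ a ≠ j := by
      have : ∀ i k : Fin 5, ∃ b : Fin 5, b ≠ i ∧ b ≠ k := by decide
      exact this i j
    obtain ⟨b, hb1, hb2⟩ : ∃ b : Fin 5, b ≠ i ∧ b ≠ k := by
      have : ∀ i k : Fin 5, ∃ b : Fin 5, b ≠ i ∧ b ≠ k := by decide
      exact this i k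
    obtain ⟨τ, h1, h2, -, h4⟩ := two_trans i j a k b (nodup3 (Ne.symm hji) (Ne.symm ha1) (Ne.symm ha2))
      (nodup3 (Ne.symm hki) (Ne.symm hb1) (Ne.symm hb2))
    obtain ⟨m, hm, hmz⟩ := h.alt τ h4
    have h5 := (mem_QQ_conj (g := m)).2 hj
    rwa [hmz, hmz, h1, h2] at h5
  intro v hv
  rcases h.gen v hv with rfl | ⟨k, rfl⟩ | ⟨k, l, -, rfl⟩
  · exact one_mem _
  · exact hall k
  · exact mul_mem (hall k) (hall l)

/-- `z j z k ∈ O₂(C(z i))` for `j, k ≠ i` -/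
theorem pair_mem (h : Pts M V z) {T : Subgroup G} {i : Fin 5} (hl : Loc M V z T i) {j k : Fin 5}
    (hji : j ≠ i) (hki : k ≠ i) (hjk : j ≠ k) : z j * z k ∈ QQ (z i) := by
  have hz := z_mem_QQ (h.sq i)
  obtain ⟨e, he, he1, he2⟩ := hl.E
  -- some pair outside `i` is in `QQ (z i)`
  obtain ⟨a, b, hai, hbi, hab, hmem⟩ : ∃ a b, a ≠ i ∧ b ≠ i ∧ a ≠ b ∧ z a * z b ∈ QQ (z i) := by
    rcases h.gen e he.1 with rfl | ⟨a, rfl⟩ | ⟨a, b, hab, rfl⟩
    · exact absurd rfl he1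
    · have hai : a ≠ i := fun h => he2 (by rw [h])
      exact absurd he.2 (not_mem h hl hai)
    · by_cases hai : a = i
      · subst hai
        have h1 : z b ∈ QQ (z a) := by
          have h2 := mul_mem hz he.2
          rwa [← mul_assoc, h.sq, one_mul] at h2
        exact absurd h1 (not_mem h hl (Ne.symm hab))
      by_cases hbi : b = i
      · subst hbi
        have h1 : z a ∈ QQ (z b) := by
          have h2 := mul_mem he.2 hz
          rwa [mul_assoc, h.sq, mul_one] at h2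
        exact absurd h1 (not_mem h hl hab)
      exact ⟨a, b, hai, hbi, hab, he.2⟩
  obtain ⟨τ, h1, h2, h3, h4⟩ := two_trans i a b j k (nodup3 (Ne.symm hai) (Ne.symm hbi) hab)
    (nodup3 (Ne.symm hji) (Ne.symm hki) hjk)
  obtain ⟨m, hm, hmz⟩ := h.alt τ h4
  have h5 := (mem_QQ_conj (g := m)).2 hmem
  have e : m * (z a * z b) * m⁻¹ = (m * z a * m⁻¹) * (m * z b * m⁻¹) := by group
  rwa [e, hmz, hmz, hmz, h1, h2, h3] at h5

/-- the permutation induced by an element fixing `z i` fixes `i` -/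
theorem fix_of (h : Pts M V z) {i : Fin 5} {q : G} {σ : Equiv.Perm (Fin 5)}
    (hσ : ∀ j, q * z j * q⁻¹ = z (σ j)) (hq : q * z i = z i * q) : σ i = i := by
  apply h.inj
  rw [← hσ, comm_conj hq]

/-- `O₂(C(z i))` acts on the other four points as a subgroup of the Klein four-group. -/
theorem act_four [Finite G] (h : Pts M V z) {T : Subgroup G} {i : Fin 5} (hl : Loc M V z T i) {q : G}
    (hq : q ∈ QQ (z i)) {σ : Equiv.Perm (Fin 5)} (hσ : ∀ j, q * z j * q⁻¹ = z (σ j)) :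
    (∀ j, j ≠ i → σ j ≠ j ∧ σ (σ j) = j) ∨ σ = 1 := by
  rcases two_elt i σ (fix_of h hσ (hl.cz q (hl.QT hq))) with h1 | h1 | ⟨τ, h1, h2, h3, h4⟩
  · exact Or.inl h1
  · exact Or.inr h1
  exfalso
  obtain ⟨m, hm, hmz⟩ := h.alt τ h2
  set ρ := σ * (τ * σ * τ⁻¹) with hρ
  have hq' : m * q * m⁻¹ ∈ QQ (z i) := by
    have h5 := (mem_QQ_conj (g := m)).2 hq
    rwa [hmz, h1] at h5
  have hmi : ∀ j, m⁻¹ * z j * m⁻¹⁻¹ = z (τ⁻¹ j) := by
    intro j
    have h5 := hmz (τ⁻¹ j)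
    rw [show τ (τ⁻¹ j) = j from τ.apply_symm_apply j] at h5
    rw [← h5]; group
  have hr : ∀ j, (q * (m * q * m⁻¹)) * z j * (q * (m * q * m⁻¹))⁻¹ = z (ρ j) := by
    intro j
    calc (q * (m * q * m⁻¹)) * z j * (q * (m * q * m⁻¹))⁻¹ =
        q * (m * (q * (m⁻¹ * z j * m⁻¹⁻¹) * q⁻¹) * m⁻¹) * q⁻¹ := by group
      _ = z (ρ j) := by
        rw [hmi, hσ, hmz, hσ, hρ]
        simp only [Equiv.Perm.coe_mul, Function.comp_apply]
  have hrn : ∀ n : ℕ, ∀ j, (q * (m * q * m⁻¹)) ^ n * z j * ((q * (m * q * m⁻¹)) ^ n)⁻¹ =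
      z ((ρ ^ n) j) := by
    intro n
    induction n with
    | zero => intro j; simp
    | succ n ih =>
      intro j
      have e : (q * (m * q * m⁻¹)) ^ (n + 1) * z j * ((q * (m * q * m⁻¹)) ^ (n + 1))⁻¹ =
          (q * (m * q * m⁻¹)) ^ n * ((q * (m * q * m⁻¹)) * z j * (q * (m * q * m⁻¹))⁻¹) *
            ((q * (m * q * m⁻¹)) ^ n)⁻¹ := by
        rw [pow_succ]; group
      rw [e, hr, ih, pow_succ]; rfl
  obtain ⟨n, hn⟩ := o2_isPGroup (CC (z i)) ⟨q * (m * q * m⁻¹), mul_mem hq hq'⟩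
  have hn' : (q * (m * q * m⁻¹)) ^ 2 ^ n = 1 := congrArg Subtype.val hn
  have h5 : ρ ^ 2 ^ n = 1 := by
    ext1 j
    apply h.inj
    rw [← hrn, hn']; simp
  have h6 : orderOf ρ ∣ 2 ^ n := orderOf_dvd_of_pow_eq_one h5
  have h7 : orderOf ρ ∣ 3 := orderOf_dvd_of_pow_eq_one h3
  have h8 : orderOf ρ ∣ 1 := by
    have hc : Nat.Coprime (2 ^ n) 3 := Nat.Coprime.pow_left n (by norm_num)
    rw [← hc.gcd_eq_one]
    exact Nat.dvd_gcd h6 h7
  exact h4 (orderOf_eq_one_iff.1 (Nat.dvd_one.1 h8))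

/-- `[O₂(C(z i)), V ∩ O₂(C(z i))] ≤ ⟨z i⟩` -/
theorem comm_E [Finite G] (h : Pts M V z) {T : Subgroup G} {i : Fin 5} (hl : Loc M V z T i) {q e : G}
    (hq : q ∈ QQ (z i)) (he : e ∈ V ⊓ QQ (z i)) : q * e * q⁻¹ = e ∨ q * e * q⁻¹ = z i * e := by
  have hqz : q * z i = z i * q := hl.cz q (hl.QT hq)
  obtain ⟨σ, hσ⟩ := h.perm q (hl.TM (hl.QT hq))
  have hz := z_mem_QQ (h.sq i)
  rcases h.gen e he.1 with rfl | ⟨a, rfl⟩ | ⟨a, b, hab, rfl⟩
  · left; group
  · by_cases hai : a = i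
    · subst hai
      exact Or.inl (comm_conj hqz)
    · exact absurd he.2 (not_mem h hl hai)
  · by_cases hai : a = i
    · subst hai
      have h1 : z b ∈ QQ (z a) := by
        have h2 := mul_mem hz he.2
        rwa [← mul_assoc, h.sq, one_mul] at h2
      exact absurd h1 (not_mem h hl (Ne.symm hab))
    by_cases hbi : b = i
    · subst hbi
      have h1 : z a ∈ QQ (z b) := by
        have h2 := mul_mem he.2 hz
        rwa [mul_assoc, h.sq, mul_one] at h2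
      exact absurd h1 (not_mem h hl hab)
    have e1 : q * (z a * z b) * q⁻¹ = z (σ a) * z (σ b) := by
      calc q * (z a * z b) * q⁻¹ = (q * z a * q⁻¹) * (q * z b * q⁻¹) := by group
        _ = _ := by rw [hσ, hσ]
    rw [e1]
    have hi : σ i = i := fix_of h hσ hqz
    rcases act_four h hl hq hσ with h1 | h1
    · obtain ⟨a1, a2⟩ := h1 a hai
      obtain ⟨b1, b2⟩ := h1 b hbi
      by_cases hab' : σ a = b
      · left
        rw [hab'] at a2
        rw [hab', a2, h.comm]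
      · right
        have hba' : σ b ≠ a := fun h2 => hab' (by rw [← h2, b2])
        have hne : σ a ≠ σ b := fun h2 => hab (σ.injective h2)
        have hai' : σ a ≠ i := fun h2 => hai (σ.injective (h2.trans hi.symm))
        have hbi' : σ b ≠ i := fun h2 => hbi (σ.injective (h2.trans hi.symm))
        have h2 := h.prod i a b (σ a) (σ b) (by
          simp [Ne.symm hai, Ne.symm hbi, Ne.symm hai', Ne.symm hbi', hab, Ne.symm a1, Ne.symm hba',
            Ne.symm hab', Ne.symm b1, hne])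
        rw [← h2]
        have h3 : z (σ a) * (z i * z a * z b * z (σ a)) = z i * (z a * z b) := by
          calc z (σ a) * (z i * z a * z b * z (σ a)) =
              (z (σ a) * z i) * z a * z b * z (σ a) := by group
            _ = z i * (z (σ a) * z a) * z b * z (σ a) := by rw [h.comm (σ a) i]; group
            _ = z i * z a * (z (σ a) * z b) * z (σ a) := by rw [h.comm (σ a) a]; group
            _ = z i * (z a * z b) * (z (σ a) * z (σ a)) := by rw [h.comm (σ a) b]; group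
            _ = z i * (z a * z b) := by rw [h.sq, mul_one]
        exact h3
    · left; rw [h1]; rfl

/-- `[QS, O₂(C(z i))] ≤ ⟨z i⟩` -/
theorem comm_QS [Finite G] (h : Pts M V z) {T : Subgroup G} {i : Fin 5} (hl : Loc M V z T i) {x : G}
    (hx : x ∈ QS V (z i)) : ∀ y ∈ QQ (z i), x * y * x⁻¹ = y ∨ x * y * x⁻¹ = z i * y := by
  have hzz := h.sq i
  have hQz : ∀ y ∈ QQ (z i), y * z i = z i * y := fun y hy => hl.cz y (hl.QT hy)
  have hx' := hx
  unfold QS at hx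
  induction hx using closure_induction with
  | mem x hx =>
    obtain ⟨c, hc, e, he, rfl⟩ := hx
    intro y hy
    have hc' := mem_CC.1 hc
    have hci : c⁻¹ * z i = z i * c⁻¹ := by
      rw [inv_mul_eq_iff_eq_mul, ← mul_assoc, hc', mul_assoc, mul_inv_cancel, mul_one]
    have hy' := QQ_norm hci hy
    have h1 := comm_E h hl hy' he
    -- `e y' e⁻¹ ∈ {y', z y'}`
    have h2 : e * (c⁻¹ * y * c⁻¹⁻¹) * e⁻¹ = c⁻¹ * y * c⁻¹⁻¹ ∨
        e * (c⁻¹ * y * c⁻¹⁻¹) * e⁻¹ = z i * (c⁻¹ * y * c⁻¹⁻¹) := by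
      rcases h1 with h1 | h1
      · left; exact comm_conj (conj_comm h1).symm
      · right
        have h3 : (c⁻¹ * y * c⁻¹⁻¹) * e = z i * e * (c⁻¹ * y * c⁻¹⁻¹) := by
          rw [← h1]; group
        have h4 : e * (c⁻¹ * y * c⁻¹⁻¹) = z i * ((c⁻¹ * y * c⁻¹⁻¹) * e) := by
          rw [h3]
          calc e * (c⁻¹ * y * c⁻¹⁻¹) = 1 * (e * (c⁻¹ * y * c⁻¹⁻¹)) := by rw [one_mul]
            _ = z i * z i * (e * (c⁻¹ * y * c⁻¹⁻¹)) := by rw [hzz]
            _ = z i * (z i * e * (c⁻¹ * y * c⁻¹⁻¹)) := by group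
        rw [h4]; group
    have e1 : c * e * c⁻¹ * y * (c * e * c⁻¹)⁻¹ = c * (e * (c⁻¹ * y * c⁻¹⁻¹) * e⁻¹) * c⁻¹ := by
      group
    rw [e1]
    rcases h2 with h2 | h2
    · left; rw [h2]; group
    · right
      rw [h2]
      calc c * (z i * (c⁻¹ * y * c⁻¹⁻¹)) * c⁻¹ = (c * z i) * (c⁻¹ * y) := by group
        _ = z i * y := by rw [hc']; group
  | one => intro y _; left; group
  | mul a b ha0 hb0 ha hb =>
    intro y hy
    have e : a * b * y * (a * b)⁻¹ = a * (b * y * b⁻¹) * a⁻¹ := by group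
    rw [e]
    rcases hb hb0 y hy with h1 | h1
    · rw [h1]; exact ha ha0 y hy
    · rw [h1]
      have e2 : a * (z i * y) * a⁻¹ = z i * (a * y * a⁻¹) := by
        calc a * (z i * y) * a⁻¹ = (a * z i) * y * a⁻¹ := by group
          _ = z i * (a * y * a⁻¹) := by rw [hQz a (QS_le V _ ha0)]; group
      rw [e2]
      rcases ha ha0 y hy with h2 | h2
      · right; rw [h2]
      · left; rw [h2, ← mul_assoc, hzz, one_mul]
  | inv a ha0 ha =>
    intro y hy
    rcases ha ha0 y hy with h1 | h1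
    · left
      calc a⁻¹ * y * a⁻¹⁻¹ = a⁻¹ * (a * y * a⁻¹) * a := by rw [h1]; group
        _ = y := by group
    · right
      have h2 : a * (z i * y) * a⁻¹ = y := by
        calc a * (z i * y) * a⁻¹ = (a * z i) * y * a⁻¹ := by group
          _ = z i * (a * y * a⁻¹) := by rw [hQz a (QS_le V _ ha0)]; group
          _ = y := by rw [h1, ← mul_assoc, hzz, one_mul]
      calc a⁻¹ * y * a⁻¹⁻¹ = a⁻¹ * (a * (z i * y) * a⁻¹) * a := by rw [h2]; group
        _ = z i * y := by group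

/-- `QS` moves a point -/
theorem exists_move [Finite G] (h : Pts M V z) (hMV : M ≤ normalizer (V : Set G)) {T : Subgroup G}
    {i : Fin 5} (hl : Loc M V z T i) : ∃ u ∈ QS V (z i), ∃ j, u * z j ≠ z j * u := by
  by_contra hcon
  push Not at hcon
  apply hl.VQ
  have hVcomm : ∀ v ∈ V, ∀ u ∈ QS V (z i), v * u = u * v := by
    intro v hv u hu
    rcases h.gen v hv with rfl | ⟨a, rfl⟩ | ⟨a, b, -, rfl⟩
    · simp
    · exact (hcon u hu a).symm
    · calc z a * z b * u = z a * (z b * u) := by group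
        _ = (z a * u) * z b := by rw [← hcon u hu b]; group
        _ = u * (z a * z b) := by rw [← hcon u hu a]; group
  have hVz : ∀ v ∈ V, v * z i = z i * v := by
    intro v hv
    rcases h.gen v hv with rfl | ⟨a, rfl⟩ | ⟨a, b, -, rfl⟩
    · simp
    · exact h.comm a i
    · calc z a * z b * z i = z a * (z b * z i) := by group
        _ = (z a * z i) * z b := by rw [h.comm b i]; group
        _ = z i * (z a * z b) := by rw [h.comm a i]; group
  -- the stabiliser of `Q ≥ QS ≥ 1` in `C(z i)`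
  let B : Subgroup G :=
    { carrier := {x | x ∈ CC (z i) ∧ (∀ u ∈ QS V (z i), x * u = u * x) ∧
        ∀ q ∈ QQ (z i), x * q * x⁻¹ * q⁻¹ ∈ QS V (z i)}
      one_mem' := ⟨one_mem _, fun u _ => by simp, fun q _ => by simp⟩
      mul_mem' := by
        rintro x y ⟨hx1, hx2, hx3⟩ ⟨hy1, hy2, hy3⟩
        refine ⟨mul_mem hx1 hy1, fun u hu => ?_, fun q hq => ?_⟩
        · calc x * y * u = x * (y * u) := by group
            _ = (x * u) * y := by rw [hy2 u hu]; group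
            _ = u * (x * y) := by rw [hx2 u hu]; group
        · have e : x * y * q * (x * y)⁻¹ * q⁻¹ =
              (x * (y * q * y⁻¹ * q⁻¹) * x⁻¹) * (x * q * x⁻¹ * q⁻¹) := by group
          rw [e, comm_conj (hx2 _ (hy3 q hq))]
          exact mul_mem (hy3 q hq) (hx3 q hq)
      inv_mem' := by
        rintro x ⟨hx1, hx2, hx3⟩
        have hx2' : ∀ u ∈ QS V (z i), x⁻¹ * u = u * x⁻¹ := by
          intro u hu
          rw [inv_mul_eq_iff_eq_mul, ← mul_assoc, hx2 u hu, mul_assoc, mul_inv_cancel, mul_one]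
        refine ⟨inv_mem hx1, hx2', fun q hq => ?_⟩
        have e : x⁻¹ * q * x⁻¹⁻¹ * q⁻¹ = x⁻¹ * (x * q * x⁻¹ * q⁻¹)⁻¹ * x⁻¹⁻¹ := by group
        rw [e, comm_conj (hx2' _ (inv_mem (hx3 q hq)))]
        exact inv_mem (hx3 q hq) }
  have hB : B ≤ QQ (z i) := by
    refine le_o2 (fun x hx => hx.1) ?_ ?_
    · rintro ⟨x, hx1, hx2, hx3⟩
      obtain ⟨k, hk⟩ := LemmaT.exists_pow_comm
        ((o2_isPGroup (CC (z i))).to_le (QS_le V (z i)) : IsPGroup 2 ↥(QS V (z i))) hx2 hx3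
      have h2 : x ^ 2 ^ k ∈ QQ (z i) :=
        hl.char2 _ (mem_CC.1 (pow_mem hx1 _)) fun r hr => hk r hr
      obtain ⟨l, hl'⟩ := LemmaT.exists_pow_eq_one (o2_isPGroup (CC (z i)))
      refine ⟨k + l, Subtype.ext ?_⟩
      change x ^ 2 ^ (k + l) = 1
      rw [pow_add, pow_mul]
      exact hl' _ h2
    · have key : ∀ c ∈ CC (z i), ∀ x ∈ B, c * x * c⁻¹ ∈ B := by
        rintro c hc x ⟨hx1, hx2, hx3⟩
        have hc' := mem_CC.1 hc
        have hci : c⁻¹ * z i = z i * c⁻¹ := by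
          rw [inv_mul_eq_iff_eq_mul, ← mul_assoc, hc', mul_assoc, mul_inv_cancel, mul_one]
        refine ⟨mul_mem (mul_mem hc hx1) (inv_mem hc), fun u hu => ?_, fun q hq => ?_⟩
        · have h1 := hx2 _ (QS_norm hci hu)
          calc c * x * c⁻¹ * u = c * (x * (c⁻¹ * u * c⁻¹⁻¹)) * c⁻¹ := by group
            _ = c * ((c⁻¹ * u * c⁻¹⁻¹) * x) * c⁻¹ := by rw [h1]
            _ = u * (c * x * c⁻¹) := by group
        · have h1 := QS_norm hc' (hx3 _ (QQ_norm hci hq))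
          have e : c * x * c⁻¹ * q * (c * x * c⁻¹)⁻¹ * q⁻¹ =
              c * (x * (c⁻¹ * q * c⁻¹⁻¹) * x⁻¹ * (c⁻¹ * q * c⁻¹⁻¹)⁻¹) * c⁻¹ := by group
          rw [e]; exact h1
      intro c hc
      rw [mem_normalizer_iff]
      intro x
      refine ⟨key c hc x, fun hx => ?_⟩
      have h6 := key c⁻¹ (inv_mem hc) _ hx
      have e : c⁻¹ * (c * x * c⁻¹) * c⁻¹⁻¹ = x := by group
      rwa [e] at h6
  intro v hv
  refine hB ⟨mem_CC.2 (hVz v hv), hVcomm v hv, fun q hq => ?_⟩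
  have h1 : v * q * v⁻¹ * q⁻¹ ∈ V := by
    have e : v * q * v⁻¹ * q⁻¹ = v * (q * v⁻¹ * q⁻¹) := by group
    rw [e]
    exact mul_mem hv ((mem_normalizer_iff.1 (hMV (hl.TM (hl.QT hq))) _).1 (inv_mem hv))
  exact mem_QS h1 (mul_mem (QQ_norm (hVz v hv) hq) (inv_mem hq))

/-- the swaps -/
theorem exists_swap [Finite G] (h : Pts M V z) (hMV : M ≤ normalizer (V : Set G)) {T : Subgroup G}
    {i : Fin 5} (hl : Loc M V z T i) {j k l m : Fin 5} (hn : [i, j, k, l, m].Nodup) :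
    ∃ u ∈ QS V (z i), u * z j * u⁻¹ = z k ∧ u * z k * u⁻¹ = z j ∧ u * z l * u⁻¹ = z m ∧
      u * z m * u⁻¹ = z l := by
  have hn' := hn
  simp only [List.nodup_cons, List.mem_cons, List.not_mem_nil, or_false, not_or, not_false_eq_true,
    List.nodup_nil, and_true] at hn
  obtain ⟨⟨hij, hik, hil, him⟩, ⟨hjk, hjl, hjm⟩, ⟨hkl, hkm⟩, hlm⟩ := hn
  obtain ⟨u₀, hu₀, j₀, hj₀⟩ := exists_move h hMV hl
  obtain ⟨σ₀, hσ₀⟩ := h.perm u₀ (hl.TM (hl.QT (QS_le V _ hu₀)))
  have hi₀ : σ₀ i = i := fix_of h hσ₀ (hl.cz _ (hl.QT (QS_le V _ hu₀)))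
  have hgood : ∀ j, j ≠ i → σ₀ j ≠ j ∧ σ₀ (σ₀ j) = j := by
    rcases act_four h hl (QS_le V _ hu₀) hσ₀ with h1 | h1
    · exact h1
    · exfalso
      apply hj₀
      apply conj_comm
      rw [hσ₀, h1]; rfl
  obtain ⟨h1, h2⟩ := hgood j (Ne.symm hij)
  have h3 : σ₀ j ≠ i := fun h3 => hij (σ₀.injective (hi₀.trans h3.symm))
  obtain ⟨τ, t1, t2, t3, t4⟩ := two_trans i j (σ₀ j) j k
    (nodup3 hij (Ne.symm h3) (Ne.symm h1)) (nodup3 hij hik hjk)
  obtain ⟨n, hn, hnz⟩ := h.alt τ t4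
  set u := n * u₀ * n⁻¹ with hu
  have huQ : u ∈ QS V (z i) := by
    have h5 := QS_conj (hMV hn) hu₀
    rwa [hnz, t1] at h5
  have hujk : u * z j * u⁻¹ = z k := by
    have e : n⁻¹ * z j * n = z j := by
      have h5 := hnz j
      rw [t2] at h5
      calc n⁻¹ * z j * n = n⁻¹ * (n * z j * n⁻¹) * n := by rw [h5]
        _ = z j := by group
    calc u * z j * u⁻¹ = n * (u₀ * (n⁻¹ * z j * n) * u₀⁻¹) * n⁻¹ := by rw [hu]; group
      _ = z k := by rw [e, hσ₀, hnz, t3]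
  obtain ⟨σ, hσ⟩ := h.perm u (hl.TM (hl.QT (QS_le V _ huQ)))
  have hi : σ i = i := fix_of h hσ (hl.cz _ (hl.QT (QS_le V _ huQ)))
  have hjk' : σ j = k := h.inj (by rw [← hσ, hujk])
  have hgood' : ∀ j, j ≠ i → σ j ≠ j ∧ σ (σ j) = j := by
    rcases act_four h hl (QS_le V _ huQ) hσ with h1 | h1
    · exact h1
    · exfalso
      rw [h1] at hjk'
      exact hjk hjk'
  have hkj : σ k = j := by rw [← hjk']; exact (hgood' j (Ne.symm hij)).2
  obtain ⟨l1, l2⟩ := hgood' l (Ne.symm hil)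
  have hli : σ l ≠ i := fun h5 => hil (σ.injective (hi.trans h5.symm))
  have hlj : σ l ≠ j := fun h5 => hkl (σ.injective (hkj.trans h5.symm))
  have hlk : σ l ≠ k := fun h5 => hjl (σ.injective (hjk'.trans h5.symm))
  have hcases : ∀ i j k l m : Fin 5, [i, j, k, l, m].Nodup → ∀ n, [i, j, k, l, n].Nodup → n = m := by
    decide
  have hlm' : σ l = m := hcases i j k l m hn' _ (by
    simp [hij, hik, hil, hjk, hjl, hkl, Ne.symm hli, Ne.symm hlj, Ne.symm hlk, Ne.symm l1])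
  have hml : σ m = l := by rw [← hlm']; exact l2
  exact ⟨u, huQ, hujk, by rw [hσ, hkj], by rw [hσ, hlm'], by rw [hσ, hml]⟩

/-- `min` -/
theorem min_mem [Finite G] (h : Pts M V z) {T : Subgroup G} {i : Fin 5} (hl : Loc M V z T i)
    {Y : Subgroup G} (hY : Y ≤ QQ (z i))
    (hn : ∀ m ∈ M, m * z i = z i * m → ∀ y ∈ Y, m * y * m⁻¹ ∈ Y) (hne : Y ≠ ⊥) : z i ∈ Y := by
  have hYT : Y ≤ T := hY.trans hl.QT
  have : Fact (Nat.Prime 2) := ⟨Nat.prime_two⟩
  have : Group.IsNilpotent T := hl.pg.isNilpotent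
  have hN : (Y.subgroupOf T).Normal := ⟨fun y hy t => by
    rw [mem_subgroupOf] at hy ⊢
    exact hn t (hl.TM t.2) (hl.cz t t.2) y hy⟩
  have hNb : Y.subgroupOf T ≠ ⊥ := by
    intro h1
    apply hne
    rw [eq_bot_iff]
    intro y hy
    have h2 : (⟨y, hYT hy⟩ : T) ∈ Y.subgroupOf T := mem_subgroupOf.2 hy
    rw [h1, mem_bot] at h2
    exact mem_bot.2 (congrArg Subtype.val h2)
  have h1 := Cfsg.Agent.Lib.NormalAbelian.normal_inf_center_ne_bot (Y.subgroupOf T) hNb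
  obtain ⟨⟨x, hxT⟩, hx, hx1⟩ : ∃ x : T, x ∈ Y.subgroupOf T ⊓ center T ∧ x ≠ 1 := by
    by_contra hcon
    push Not at hcon
    exact h1 (eq_bot_iff.2 fun x hx => mem_bot.2 (hcon x hx))
  have hx1' : x ≠ 1 := fun h => hx1 (Subtype.ext h)
  obtain ⟨hxY, hxZ⟩ := mem_inf.1 hx
  rw [mem_subgroupOf] at hxY
  have hxc : ∀ s ∈ T, x * s = s * x := by
    intro s hs
    have := mem_center_iff.1 hxZ ⟨s, hs⟩
    exact (congrArg Subtype.val this).symm
  -- an involution in `⟨x⟩`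
  obtain ⟨k, hk⟩ := (IsPGroup.iff_orderOf.1 hl.pg) ⟨x, hxT⟩
  have hk' : orderOf x = 2 ^ k := by
    rw [← hk, ← orderOf_submonoid]
  have hk0 : k ≠ 0 := by
    rintro rfl
    rw [pow_zero, orderOf_eq_one_iff] at hk'
    exact hx1' hk'
  obtain ⟨k, rfl⟩ := Nat.exists_eq_succ_of_ne_zero hk0
  have hy2 : x ^ 2 ^ k * x ^ 2 ^ k = 1 := by
    rw [← pow_add, ← two_mul, ← pow_succ', ← Nat.succ_eq_add_one, ← hk']
    exact pow_orderOf_eq_one x
  have hy1 : x ^ 2 ^ k ≠ 1 := by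
    intro h5
    have h6 := orderOf_dvd_of_pow_eq_one h5
    rw [hk', Nat.succ_eq_add_one, Nat.pow_dvd_pow_iff_le_right (by norm_num)] at h6
    omega
  rcases hl.Z (x ^ 2 ^ k) (pow_mem hxT _) (fun s hs => (show Commute x s from hxc s hs).pow_left _) hy2
    with h5 | h5
  · exact absurd h5 hy1
  · rw [← h5]; exact pow_mem hxY _

end Facts

/-- The local data at `z 0` -/
theorem loc_zero [Finite G] (hG : IsCharacteristicTwoType G) (S : Sylow 2 G) {M V : Subgroup G}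
    {z : Fin 5 → G} (h : Pts M V z) (hMV : M ≤ normalizer (V : Set G)) (hSM : (S : Subgroup G) ≤ M)
    (hVS : V ≤ (S : Subgroup G)) (hzS : ∀ s ∈ (S : Subgroup G), s * z 0 = z 0 * s)
    (hZ : ∀ x ∈ (S : Subgroup G), (∀ s ∈ (S : Subgroup G), x * s = s * x) → x * x = 1 →
      x = 1 ∨ x = z 0)
    (hVQ : ¬ V ≤ o2 (centralizer ({z 0} : Set G))) : Loc M V z (S : Subgroup G) 0 := by
  have hSF : (S : Subgroup G) ≤ CC (z 0) := fun s hs => mem_CC.2 (hzS s hs)
  have hSF' : (S : Subgroup G) ≤ normalizer ((zpowers (z 0) : Subgroup G) : Set G) :=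
    hSF.trans (LemmaT.centralizer_le_normalizer' _)
  have hF : IsPGroup 2 (zpowers (z 0)) := by
    refine S.isPGroup'.to_le ?_
    rw [zpowers_le]
    exact hVS (h.mem 0)
  have hF1 : (zpowers (z 0) : Subgroup G) ≠ ⊥ := by
    rw [Ne, zpowers_eq_bot]; exact h.ne_one 0
  have hVV : V ≤ centralizer (V : Set G) := by
    have hc : ∀ v ∈ V, ∀ i, v * z i = z i * v := by
      intro v hv i
      rcases h.gen v hv with rfl | ⟨a, rfl⟩ | ⟨a, b, -, rfl⟩
      · simp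
      · exact h.comm a i
      · calc z a * z b * z i = z a * (z b * z i) := by group
          _ = (z a * z i) * z b := by rw [h.comm b i]; group
          _ = z i * (z a * z b) := by rw [h.comm a i]; group
    intro v hv
    rw [mem_centralizer_iff]
    intro w hw
    rcases h.gen w hw with rfl | ⟨a, rfl⟩ | ⟨a, b, -, rfl⟩
    · simp
    · exact (hc v hv a).symm
    · calc z a * z b * v = z a * (z b * v) := by group
        _ = (z a * v) * z b := by rw [← hc v hv b]; group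
        _ = v * (z a * z b) := by rw [← hc v hv a]; group
  refine ⟨hSM, S.isPGroup', hzS, LemmaT.o2_centralizer_le S hSF', hZ, ?_, ?_, ?_⟩
  · intro g hg hgx
    refine LemmaT.char2_centralizer hG hF hF1 (mem_inf.2 ⟨mem_CC.2 hg, ?_⟩)
    rw [mem_centralizer_iff]
    exact fun x hx => (hgx x hx).symm
  · rwa [QQ, CC_eq]
  · have hz0 : z 0 ∈ QQ (z 0) := z_mem_QQ (h.sq 0)
    rcases LemmaT.lemmaT' hG S hF1 (by rw [zpowers_le]; exact h.mem 0) hVS (hSM.trans hMV) hSF' hVV with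
      h1 | ⟨h1, -⟩
    · exfalso
      apply hVQ
      rw [← CC_eq]; exact h1
    · obtain ⟨e, he, he'⟩ := SetLike.exists_of_lt h1
      refine ⟨e, he, ?_, ?_⟩
      · rintro rfl
        exact he' (one_mem _)
      · rintro rfl
        exact he' (mem_zpowers _)

/-- The configuration `DZ`. -/
theorem dz [Finite G] (hG : IsCharacteristicTwoType G) (S : Sylow 2 G) {M V : Subgroup G}
    {z : Fin 5 → G} (h : Pts M V z) (hMV : M ≤ normalizer (V : Set G)) (hSM : (S : Subgroup G) ≤ M)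
    (hVS : V ≤ (S : Subgroup G)) (hzS : ∀ s ∈ (S : Subgroup G), s * z 0 = z 0 * s)
    (hZ : ∀ x ∈ (S : Subgroup G), (∀ s ∈ (S : Subgroup G), x * s = s * x) → x * x = 1 →
      x = 1 ∨ x = z 0)
    (hVQ : ¬ V ≤ o2 (centralizer ({z 0} : Set G))) :
    DZ M z (fun i => QQ (z i)) (fun i => QS V (z i)) := by
  have h0 := loc_zero hG S h hMV hSM hVS hzS hZ hVQ
  have hloc : ∀ i, ∃ T, Loc M V z T i := by
    intro i
    obtain ⟨τ, ht, hti⟩ : ∃ τ : Equiv.Perm (Fin 5), τ 0 = i ∧ Equiv.Perm.sign τ = 1 := by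
      have key : ∀ i : Fin 5, ∃ a b : Fin 5, [a, 0, b].Nodup ∧ ∃ c, [a, i, c].Nodup := by decide
      obtain ⟨a, b, h1, c, h2⟩ := key i
      obtain ⟨τ, -, t2, -, t4⟩ := two_trans a 0 b i c h1 h2
      exact ⟨τ, t2, t4⟩
    obtain ⟨m, hm, hmz⟩ := h.alt τ hti
    exact ⟨_, h0.conj hMV hm (by rw [hmz, ht])⟩
  choose T hT using hloc
  exact
    { inj := h.inj
      ne_one := h.ne_one
      sq := h.sq
      comm := h.comm
      prod := h.prod
      QM := fun i => (hT i).QT.trans (hT i).TM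
      perm := fun m hm i => by
        obtain ⟨σ, hσ⟩ := h.perm m hm
        exact ⟨σ i, hσ i⟩
      eqQ := fun m _ i j hij x hx => by
        have h1 := (mem_QQ_conj (g := m)).2 hx
        rwa [hij] at h1
      eqQs := fun m hm i j hij x hx => by
        have h1 := QS_conj (hMV hm) hx
        rwa [hij] at h1
      nQ := fun i c hc x hx => QQ_norm hc hx
      nQs := fun i c hc x hx => QS_norm hc hx
      le := fun i => QS_le V _
      zmem := fun i => mem_QS (h.mem i) (z_mem_QQ (h.sq i))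
      Qz := fun i x hx => (hT i).cz x ((hT i).QT hx)
      comQ := fun i x hx y hy => by
        rcases comm_QS h (hT i) hx y hy with h1 | h1
        · exact Or.inl (conj_comm h1)
        · right
          calc x * y = x * y * x⁻¹ * x := by group
            _ = z i * (y * x) := by rw [h1]; group
      pair := fun i j k hji hki hjk =>
        mem_QS (mul_mem (h.mem j) (h.mem k)) (pair_mem h (hT i) hji hki hjk)
      swap := fun i j k l m hn => exists_swap h hMV (hT i) hn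
      min := fun i Y hY hn hne => min_mem h (hT i) hY hn hne }

open Cfsg.Agent.Co2Type.Quad in
/-- **THEOREM D0.** -/
theorem large [Finite G] (hG : IsCharacteristicTwoType G) (S : Sylow 2 G) {M V : Subgroup G}
    {z : Fin 5 → G} (h : Pts M V z) (hMV : M ≤ normalizer (V : Set G)) (hSM : (S : Subgroup G) ≤ M)
    (hVS : V ≤ (S : Subgroup G)) (hzS : ∀ s ∈ (S : Subgroup G), s * z 0 = z 0 * s)
    (hZ : ∀ x ∈ (S : Subgroup G), (∀ s ∈ (S : Subgroup G), x * s = s * x) → x * x = 1 →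
      x = 1 ∨ x = z 0)
    (hVQ : ¬ V ≤ o2 (centralizer ({z 0} : Set G))) :
    Large (o2 (centralizer ({z 0} : Set G))) (z 0) := by
  have h1 := dz hG S h hMV hSM hVS hzS hZ hVQ
  have h0 := loc_zero hG S h hMV hSM hVS hzS hZ hVQ
  have h2 := h1.large 0 h0.char2
  have e : QQ (z 0) = o2 (centralizer ({z 0} : Set G)) := by rw [QQ, CC_eq]
  rwa [e] at h2

end Cfsg.Agent.Omega.NOne.DZeroPts
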