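import Cfsg.Agent.Omega.NOne.LemmaT
import Cfsg.Agent.Omega.NoFF.Basic

/-!
# NO-1, the frame for a pair `V`, `V^g` (text #11359 (1))

`V` abelian, `Q` and `V` normalise each other, `g` normalises `Q` and lies in `X = ⟨V, V^g⟩`.
`E = V ∩ Q`, `E^g`, `W = E E^g`, `D = E ∩ E^g`.
-/

set_option autoImplicit false

namespace Cfsg.Agent.Omega.NOne.Frame

open Subgroup Cfsg.Agent.Omega.NoFF.Basic
open scoped Pointwise

universe u

variable {G : Type u} [Group G]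

/-- The situation of text #11359 (1); `g` acts by `x ↦ g x g⁻¹`. -/
structure Fr (V Q : Subgroup G) (g : G) : Prop where
  comm : V ≤ centralizer (V : Set G)
  QV : Q ≤ normalizer (V : Set G)
  VQ : V ≤ normalizer (Q : Set G)
  gQ : MulAut.conj g • Q = Q
  gX : g ∈ V ⊔ MulAut.conj g • V

/-- `E = V ∩ Q` -/
abbrev E (V Q : Subgroup G) : Subgroup G := V ⊓ Q

/-- `E^g` -/
abbrev E' (V Q : Subgroup G) (g : G) : Subgroup G := MulAut.conj g • (V ⊓ Q)

/-- `V^g` -/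
abbrev V' (V : Subgroup G) (g : G) : Subgroup G := MulAut.conj g • V

/-- `X = ⟨V, V^g⟩` -/
abbrev X (V : Subgroup G) (g : G) : Subgroup G := V ⊔ MulAut.conj g • V

/-- `D = E ∩ E^g` -/
abbrev D (V Q : Subgroup G) (g : G) : Subgroup G := E V Q ⊓ E' V Q g

/-- `W = ⟨E, E^g⟩` -/
abbrev W (V Q : Subgroup G) (g : G) : Subgroup G := E V Q ⊔ E' V Q g

section General

theorem mem_conj' {g x : G} {H : Subgroup G} : x ∈ MulAut.conj g • H ↔ ∃ h ∈ H, x = g * h * g⁻¹ := by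
  rw [mem_conj]
  constructor
  · intro h
    exact ⟨_, h, by group⟩
  · rintro ⟨h, hh, rfl⟩
    have e : g⁻¹ * (g * h * g⁻¹) * g = h := by group
    rwa [e]

theorem conj_mem {g x : G} {H : Subgroup G} (h : x ∈ H) : g * x * g⁻¹ ∈ MulAut.conj g • H :=
  mem_conj'.2 ⟨x, h, rfl⟩

theorem comm_of_le_centralizer {A B : Subgroup G} (h : A ≤ centralizer (B : Set G)) {a b : G}
    (ha : a ∈ A) (hb : b ∈ B) : a * b = b * a := (mem_centralizer_iff.1 (h ha) b hb).symm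

theorem le_centralizer_of_comm {A B : Subgroup G} (h : ∀ a ∈ A, ∀ b ∈ B, a * b = b * a) :
    A ≤ centralizer (B : Set G) := fun a ha => mem_centralizer_iff.2 fun b hb => (h a ha b hb).symm

theorem norm_mem {A : Subgroup G} {x a : G} (hx : x ∈ normalizer (A : Set G)) (ha : a ∈ A) :
    x * a * x⁻¹ ∈ A := (mem_normalizer_iff.1 hx a).1 ha

theorem norm_mem' {A : Subgroup G} {x a : G} (hx : x ∈ normalizer (A : Set G)) (ha : a ∈ A) :
    x⁻¹ * a * x ∈ A := by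
  have := (mem_normalizer_iff.1 (inv_mem hx) a).1 ha
  rwa [inv_inv] at this

/-- `[A, B] ≤ A ∩ B` for subgroups normalising each other. -/
theorem comm_mem_inf {A B : Subgroup G} (hAB : A ≤ normalizer (B : Set G))
    (hBA : B ≤ normalizer (A : Set G)) {a b : G} (ha : a ∈ A) (hb : b ∈ B) :
    a * b * a⁻¹ * b⁻¹ ∈ A ⊓ B := by
  refine mem_inf.2 ⟨?_, mul_mem (norm_mem (hAB ha) hb) (inv_mem hb)⟩
  have e : a * b * a⁻¹ * b⁻¹ = a * (b * a⁻¹ * b⁻¹) := by group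
  rw [e]
  exact mul_mem ha (norm_mem (hBA hb) (inv_mem ha))

/-- If `A` moves the elements of `B` by elements of `B`, then `A` normalises `B`. -/
theorem le_normalizer_of_comm {A B : Subgroup G} (h : ∀ a ∈ A, ∀ b ∈ B, a * b * a⁻¹ * b⁻¹ ∈ B) :
    A ≤ normalizer (B : Set G) := by
  have key : ∀ a ∈ A, ∀ b ∈ B, a * b * a⁻¹ ∈ B := fun a ha b hb => by
    have := mul_mem (h a ha b hb) hb
    rwa [inv_mul_cancel_right] at this
  intro a ha
  rw [mem_normalizer_iff]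
  intro b
  refine ⟨key a ha b, fun hb => ?_⟩
  have h6 := key a⁻¹ (inv_mem ha) _ hb
  have e : a⁻¹ * (a * b * a⁻¹) * a⁻¹⁻¹ = b := by group
  rwa [e] at h6

/-- The elements of `X` moving the elements of `W` by elements of `W₀` (`W₀` normalised by `X`). -/
def stab (X W W₀ : Subgroup G) (hX : X ≤ normalizer (W₀ : Set G)) : Subgroup G where
  carrier := {x | x ∈ X ∧ ∀ w ∈ W, x * w * x⁻¹ * w⁻¹ ∈ W₀}
  one_mem' := ⟨one_mem _, fun r _ => by simp⟩
  mul_mem' := by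
    rintro x y ⟨hx, hxr⟩ ⟨hy, hyr⟩
    refine ⟨mul_mem hx hy, fun r hr => ?_⟩
    have h2 : x * y * r * (x * y)⁻¹ * r⁻¹ =
        (x * (y * r * y⁻¹ * r⁻¹) * x⁻¹) * (x * r * x⁻¹ * r⁻¹) := by group
    rw [h2]
    exact mul_mem (norm_mem (hX hx) (hyr r hr)) (hxr r hr)
  inv_mem' := by
    rintro x ⟨hx, hxr⟩
    refine ⟨inv_mem hx, fun r hr => ?_⟩
    have h2 : x⁻¹ * r * x⁻¹⁻¹ * r⁻¹ = x⁻¹ * (x * r * x⁻¹ * r⁻¹)⁻¹ * x := by group
    rw [h2]
    exact norm_mem' (hX hx) (inv_mem (hxr r hr))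

end General

namespace Fr

variable {V Q : Subgroup G} {g : G} (h : Fr V Q g)
include h

theorem E'_eq : E' V Q g = MulAut.conj g • V ⊓ Q := by
  rw [E', Subgroup.smul_inf, h.gQ]

theorem g_mem_norm : g ∈ normalizer (Q : Set G) := by
  rw [mem_normalizer_iff]
  intro x
  constructor
  · intro hx
    have := conj_mem (g := g) hx
    rwa [h.gQ] at this
  · intro hx
    rw [← h.gQ, mem_conj] at hx
    have e : g⁻¹ * (g * x * g⁻¹) * g = x := by group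
    rwa [e] at hx

theorem QV' : Q ≤ normalizer ((V' V g : Subgroup G) : Set G) := by
  intro q hq
  have hq' : g⁻¹ * q * g ∈ Q := norm_mem' h.g_mem_norm hq
  have h1 := h.QV hq'
  rw [mem_normalizer_iff] at h1 ⊢
  intro x
  rw [mem_conj, mem_conj, h1]
  have e : g⁻¹ * q * g * (g⁻¹ * x * g) * (g⁻¹ * q * g)⁻¹ = g⁻¹ * (q * x * q⁻¹) * g := by group
  rw [e]

theorem V'Q : V' V g ≤ normalizer (Q : Set G) := by
  intro x hx
  obtain ⟨v, hv, rfl⟩ := mem_conj'.1 hx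
  exact mul_mem (mul_mem h.g_mem_norm (h.VQ hv)) (inv_mem h.g_mem_norm)

theorem comm' : V' V g ≤ centralizer ((V' V g : Subgroup G) : Set G) := conj_le_centralizer h.comm

/-- `[V, Q] ≤ E` -/
theorem comm_VQ {v q : G} (hv : v ∈ V) (hq : q ∈ Q) : v * q * v⁻¹ * q⁻¹ ∈ E V Q :=
  comm_mem_inf h.VQ h.QV hv hq

/-- `[V^g, Q] ≤ E^g` -/
theorem comm_V'Q {v q : G} (hv : v ∈ V' V g) (hq : q ∈ Q) : v * q * v⁻¹ * q⁻¹ ∈ E' V Q g := by
  rw [h.E'_eq]
  exact comm_mem_inf h.V'Q h.QV' hv hq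

omit h in
theorem E_le_V : E V Q ≤ V := inf_le_left

omit h in
theorem E_le_Q : E V Q ≤ Q := inf_le_right

omit h in
theorem E'_le_V' : E' V Q g ≤ V' V g := conj_le_iff.2 inf_le_left

theorem E'_le_Q : E' V Q g ≤ Q := by rw [h.E'_eq]; exact inf_le_right

theorem W_le_Q : W V Q g ≤ Q := sup_le E_le_Q h.E'_le_Q

/-- `D` is centralised by `X`. -/
theorem D_cent {d x : G} (hd : d ∈ D V Q g) (hx : x ∈ X V g) : x * d = d * x := by
  have h1 : X V g ≤ centralizer ((D V Q g : Subgroup G) : Set G) := by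
    refine sup_le (h.comm.trans (centralizer_le ?_)) (h.comm'.trans (centralizer_le ?_))
    · exact fun d hd => hd.1.1
    · exact fun d hd => E'_le_V' hd.2
  exact comm_of_le_centralizer h1 hx hd

/-- `C_{E^g}(V) ≤ D` -/
theorem mem_D_of_E' {x : G} (hx : x ∈ E' V Q g) (hxV : ∀ v ∈ V, x * v = v * x) : x ∈ D V Q g := by
  refine mem_inf.2 ⟨?_, hx⟩
  have h1 : X V g ≤ centralizer {x} := by
    refine sup_le (fun v hv => ?_) (fun v hv => ?_)
    · rw [mem_centralizer_singleton_iff]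
      exact (hxV v hv).symm
    · rw [mem_centralizer_singleton_iff]
      exact comm_of_le_centralizer h.comm' hv (E'_le_V' hx)
  have h2 := h1 h.gX
  rw [mem_centralizer_singleton_iff] at h2
  have h3 := mem_conj.1 hx
  have e : g⁻¹ * x * g = x := by rw [mul_assoc, ← h2]; group
  rwa [e] at h3

/-- `C_E(V^g) ≤ D` -/
theorem mem_D_of_E {x : G} (hx : x ∈ E V Q) (hxV : ∀ v ∈ V' V g, x * v = v * x) :
    x ∈ D V Q g := by
  refine mem_inf.2 ⟨hx, ?_⟩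
  have h1 : X V g ≤ centralizer {x} := by
    refine sup_le (fun v hv => ?_) (fun v hv => ?_)
    · rw [mem_centralizer_singleton_iff]
      exact comm_of_le_centralizer h.comm hv hx.1
    · rw [mem_centralizer_singleton_iff]
      exact (hxV v hv).symm
  have h2 := h1 h.gX
  rw [mem_centralizer_singleton_iff] at h2
  refine mem_conj.2 ?_
  have e : g⁻¹ * x * g = x := by rw [mul_assoc, ← h2]; group
  rwa [e]

/-- `[E, E^g] ≤ D` -/
theorem comm_EE' {x y : G} (hx : x ∈ E V Q) (hy : y ∈ E' V Q g) : x * y * x⁻¹ * y⁻¹ ∈ D V Q g := by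
  refine mem_inf.2 ⟨h.comm_VQ hx.1 (h.E'_le_Q hy), ?_⟩
  have h1 := inv_mem (h.comm_V'Q (E'_le_V' hy) (E_le_Q hx))
  have e : (y * x * y⁻¹ * x⁻¹)⁻¹ = x * y * x⁻¹ * y⁻¹ := by group
  rwa [e] at h1

/-- `Q` normalises `E`. -/
theorem Q_le_norm_E : Q ≤ normalizer ((E V Q : Subgroup G) : Set G) := by
  intro q hq
  have h1 := h.QV hq
  have h2 : q ∈ normalizer (Q : Set G) := le_normalizer hq
  rw [mem_normalizer_iff] at h1 h2 ⊢
  exact fun x => and_congr (h1 x) (h2 x)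

theorem Q_le_norm_E' : Q ≤ normalizer ((E' V Q g : Subgroup G) : Set G) := by
  rw [h.E'_eq]
  intro q hq
  have h1 := h.QV' hq
  have h2 : q ∈ normalizer (Q : Set G) := le_normalizer hq
  rw [mem_normalizer_iff] at h1 h2 ⊢
  exact fun x => and_congr (h1 x) (h2 x)

theorem mem_W {w : G} : w ∈ W V Q g ↔ ∃ e ∈ E V Q, ∃ f ∈ E' V Q g, e * f = w := by
  constructor
  · intro hw
    have h1 : E' V Q g ≤ normalizer ((E V Q : Subgroup G) : Set G) := h.E'_le_Q.trans h.Q_le_norm_E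
    have h2 := Subgroup.coe_mul_of_right_le_normalizer_left (E V Q) (E' V Q g) h1
    have h3 : w ∈ ((E V Q ⊔ E' V Q g : Subgroup G) : Set G) := hw
    rw [h2] at h3
    obtain ⟨e, he, f, hf, rfl⟩ := h3
    exact ⟨e, he, f, hf, rfl⟩
  · rintro ⟨e, he, f, hf, rfl⟩
    exact mul_mem (mem_sup_left he) (mem_sup_right hf)

/-- `X` moves the elements of `Q` by elements of `W`. -/
theorem V_norm_W : V ≤ normalizer ((W V Q g : Subgroup G) : Set G) :=
  le_normalizer_of_comm fun _ hv _ hw => mem_sup_left (h.comm_VQ hv (h.W_le_Q hw))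

theorem V'_norm_W : V' V g ≤ normalizer ((W V Q g : Subgroup G) : Set G) :=
  le_normalizer_of_comm fun _ hv _ hw => mem_sup_right (h.comm_V'Q hv (h.W_le_Q hw))

/-- `W` is normal in `X`. -/
theorem X_norm_W : X V g ≤ normalizer ((W V Q g : Subgroup G) : Set G) := sup_le h.V_norm_W h.V'_norm_W

/-- `[Q, X] ≤ W` -/
theorem comm_XQ {x q : G} (hx : x ∈ X V g) (hq : q ∈ Q) : x * q * x⁻¹ * q⁻¹ ∈ W V Q g := by
  have h1 : X V g ≤ stab (X V g) Q (W V Q g) h.X_norm_W := by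
    refine sup_le (fun v hv => ?_) (fun v hv => ?_)
    · exact ⟨mem_sup_left hv, fun q hq => mem_sup_left (h.comm_VQ hv hq)⟩
    · exact ⟨mem_sup_right hv, fun q hq => mem_sup_right (h.comm_V'Q hv hq)⟩
  exact (h1 hx).2 q hq

theorem X_norm_Q : X V g ≤ normalizer (Q : Set G) := sup_le h.VQ h.V'Q

/-- `g` maps `E` to `E^g`, and `g e g⁻¹ ∈ e W`. -/
theorem comm_gE {e : G} (he : e ∈ E V Q) : g * e * g⁻¹ * e⁻¹ ∈ W V Q g := h.comm_XQ h.gX he.2

/-- The kernel of `X` on `W / D` is a `2`-group, `Q` containing its centralizer in `C ≥ X`. -/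
theorem exists_pow_eq_one [Finite G] {C : Subgroup G} (hQ2 : IsPGroup 2 Q)
    (hC : C ⊓ centralizer (Q : Set G) ≤ Q) (hXC : X V g ≤ C) {x : G} (hx : x ∈ X V g)
    (hxW : ∀ w ∈ W V Q g, x * w * x⁻¹ * w⁻¹ ∈ D V Q g) : ∃ k : ℕ, x ^ 2 ^ k = 1 := by
  have hW2 : IsPGroup 2 (W V Q g) := hQ2.to_le h.W_le_Q
  have hD2 : IsPGroup 2 (D V Q g) := hQ2.to_le (inf_le_left.trans E_le_Q)
  obtain ⟨k, hk⟩ := LemmaT.exists_pow_comm hD2 (fun d hd => h.D_cent hd hx) hxW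
  have hy : x ^ 2 ^ k ∈ X V g := pow_mem hx _
  obtain ⟨l, hl⟩ := LemmaT.exists_pow_comm hW2 hk (fun q hq => h.comm_XQ hy hq)
  have h1 : (x ^ 2 ^ k) ^ 2 ^ l ∈ Q := hC (mem_inf.2 ⟨hXC (pow_mem hy _),
    mem_centralizer_iff.2 fun q hq => (hl q hq).symm⟩)
  obtain ⟨m, hm⟩ := LemmaT.exists_pow_eq_one hQ2
  refine ⟨k + l + m, ?_⟩
  rw [pow_add, pow_add, pow_mul, pow_mul]
  exact hm _ h1

/-- `[C_Q(V), E^g] ≤ D` -/
theorem comm_CQ {c y : G} (hc : c ∈ Q) (hcV : ∀ v ∈ V, c * v = v * c) (hy : y ∈ E' V Q g) :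
    c * y * c⁻¹ * y⁻¹ ∈ D V Q g := by
  refine h.mem_D_of_E' (mul_mem (norm_mem (h.Q_le_norm_E' hc) hy) (inv_mem hy)) fun v hv => ?_
  have hyV : y ∈ normalizer (V : Set G) := h.QV (h.E'_le_Q hy)
  have h1 : ∀ v ∈ V, (y * c⁻¹ * y⁻¹) * v = v * (y * c⁻¹ * y⁻¹) := by
    intro v hv
    have h2 : y⁻¹ * v * y ∈ V := norm_mem' hyV hv
    have h3 := hcV _ h2
    have h4 : c⁻¹ * (y⁻¹ * v * y) = (y⁻¹ * v * y) * c⁻¹ := by
      have e : c⁻¹ * (c * (y⁻¹ * v * y)) * c⁻¹ = c⁻¹ * (y⁻¹ * v * y * c) * c⁻¹ := by rw [h3]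
      have e1 : c⁻¹ * (c * (y⁻¹ * v * y)) * c⁻¹ = (y⁻¹ * v * y) * c⁻¹ := by group
      have e2 : c⁻¹ * (y⁻¹ * v * y * c) * c⁻¹ = c⁻¹ * (y⁻¹ * v * y) := by group
      rw [e1, e2] at e
      exact e.symm
    calc (y * c⁻¹ * y⁻¹) * v = y * (c⁻¹ * (y⁻¹ * v * y)) * y⁻¹ := by group
      _ = y * ((y⁻¹ * v * y) * c⁻¹) * y⁻¹ := by rw [h4]
      _ = v * (y * c⁻¹ * y⁻¹) := by group
  have e : c * y * c⁻¹ * y⁻¹ = c * (y * c⁻¹ * y⁻¹) := by group
  rw [e, mul_assoc, h1 v hv, ← mul_assoc, hcV v hv, mul_assoc]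

/-- `[V, E^g] ≤ E` -/
theorem comm_VE' {v y : G} (hv : v ∈ V) (hy : y ∈ E' V Q g) : v * y * v⁻¹ * y⁻¹ ∈ E V Q :=
  h.comm_VQ hv (h.E'_le_Q hy)

/-- `D` is centralised by `E^g` and by `E` and by `W`. -/
theorem D_cent_W {d w : G} (hd : d ∈ D V Q g) (hw : w ∈ W V Q g) : w * d = d * w := by
  obtain ⟨e, he, f, hf, rfl⟩ := h.mem_W.1 hw
  have h1 := h.D_cent hd (mem_sup_left (E_le_V he) : e ∈ X V g)
  have h2 := h.D_cent hd (mem_sup_right (E'_le_V' hf) : f ∈ X V g)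
  rw [mul_assoc, h2, ← mul_assoc, h1, mul_assoc]

/-- `V` centralises `E`. -/
theorem comm_VE {v e : G} (hv : v ∈ V) (he : e ∈ E V Q) : v * e = e * v :=
  comm_of_le_centralizer h.comm hv he.1

/-- `g` conjugates `D` trivially. -/
theorem g_cent_D {d : G} (hd : d ∈ D V Q g) : g * d = d * g := h.D_cent hd h.gX

omit h in
theorem card_E' : Nat.card (E' V Q g) = Nat.card (E V Q) :=
  Nat.card_congr (Subgroup.equivSMul (MulAut.conj g) (V ⊓ Q)).symm.toEquiv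

omit h in
/-- `|V : D| = |V : E| |E : D|` -/
theorem relIndex_V : (D V Q g).relIndex V = (D V Q g).relIndex (E V Q) * (E V Q).relIndex V :=
  (relIndex_mul_relIndex _ _ _ inf_le_left inf_le_left).symm

end Fr

end Cfsg.Agent.Omega.NOne.Frame
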