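import Cfsg.Agent.Omega.NOne.Nat
import Cfsg.Agent.Omega.NatPair.Mod

/-!
# LEMMA NAT: products of natural `SL₂(F)`-modules

`NatProd F ι V`: coordinates `V = (F²)^ι` such that every element of `SL₂(F)^ι` is induced by an element of `G`.
For `w : ι → F²`, all `w i ≠ 0`:

* `D.lin w` : `l = ∏ F w_i`;
* `D.Eh w` : `Ê`, the elements inducing an element of `∏ C_{SL₂(F)}(w_i)`;
* `D.tor w` : the group generated by the elements inducing an element of `∏ N_{SL₂(F)}(F w_i)`.

`D.Trans S`: `S` permutes the factors transitively.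

* `NatProd.nat` : `[V, R] = C_V(R) = l` for `R ≤ Ê` normalised by `S`, nontrivial on `V`;
* `NatProd.irr` : a subgroup of `V` containing `l`, normalised by `S` and `D.tor w`, is `l` or `V`
  (`|F| > 2` or `|ι| = 1`);
* `NatProd.card` : `|Ê : C_Ê(V)| ≤ |V : l|`;
* **`NatProd.main`** : LEMMA NAT.
-/

set_option autoImplicit false
set_option linter.unusedSectionVars false

namespace Cfsg.Agent.Omega.NOne.NatProd

open Subgroup Cfsg.Agent.Lib.SL2Mat Cfsg.Agent.Omega.NatPair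
open Cfsg.Agent.ZN (o2)
open Cfsg.Agent.MinSimple.VModule
open Cfsg.Agent.Omega.NOne.Frame (norm_mem norm_mem' comm_of_le_centralizer le_centralizer_of_comm)
open scoped commutatorElement

variable {G : Type*} [Group G] {F : Type*} [Field F]

/-! ### `SL₂(F)` -/

theorem dt_ap' (B : Matrix.SpecialLinearGroup (Fin 2) F) (w x : Fin 2 → F) :
    dt (ap B w) (ap B x) = dt w x := by
  unfold dt
  rw [ap_zero', ap_zero', ap_one', ap_one']
  linear_combination (w 0 * x 1 - w 1 * x 0) * det_eq B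

theorem exists_dt {w : Fin 2 → F} (hw : w ≠ 0) : ∃ x, dt w x = 1 := by
  by_cases h0 : w 0 = 0
  · have h1 : w 1 ≠ 0 := fun h1 => hw (ext2 h0 h1)
    refine ⟨![-(w 1)⁻¹, 0], ?_⟩
    unfold dt
    simp [h1]
  · refine ⟨![0, (w 0)⁻¹], ?_⟩
    unfold dt
    simp [h0]

/-- elements of `SL₂(F)` are given on a basis -/
theorem exists_basis' {w x w' x' : Fin 2 → F} (h : dt w x ≠ 0) (h' : dt w' x' = dt w x) :
    ∃ B : Matrix.SpecialLinearGroup (Fin 2) F, ap B w = w' ∧ ap B x = x' := by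
  have h0 : w 0 * x 1 - w 1 * x 0 ≠ 0 := h
  have h0' : w' 0 * x' 1 - w' 1 * x' 0 = w 0 * x 1 - w 1 * x 0 := h'
  refine ⟨mk ((w' 0 * x 1 - x' 0 * w 1) / (w 0 * x 1 - w 1 * x 0))
    ((x' 0 * w 0 - w' 0 * x 0) / (w 0 * x 1 - w 1 * x 0))
    ((w' 1 * x 1 - x' 1 * w 1) / (w 0 * x 1 - w 1 * x 0))
    ((x' 1 * w 0 - w' 1 * x 0) / (w 0 * x 1 - w 1 * x 0)) ?_, ?_, ?_⟩
  · rw [div_mul_div_comm, div_mul_div_comm, ← sub_div, div_eq_one_iff_eq (mul_ne_zero h0 h0)]
    linear_combination (w 0 * x 1 - w 1 * x 0) * h0'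
  · apply ext2
    · rw [ap_zero', mk_00, mk_01, div_mul_eq_mul_div, div_mul_eq_mul_div, ← add_div, div_eq_iff h0]
      ring
    · rw [ap_one', mk_10, mk_11, div_mul_eq_mul_div, div_mul_eq_mul_div, ← add_div, div_eq_iff h0]
      ring
  · apply ext2
    · rw [ap_zero', mk_00, mk_01, div_mul_eq_mul_div, div_mul_eq_mul_div, ← add_div, div_eq_iff h0]
      ring
    · rw [ap_one', mk_10, mk_11, div_mul_eq_mul_div, div_mul_eq_mul_div, ← add_div, div_eq_iff h0]
      ring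

/-- an element of `SL₂(F)` fixing `w ≠ 0` is a transvection -/
theorem exists_transv {w : Fin 2 → F} (hw : w ≠ 0) {B : Matrix.SpecialLinearGroup (Fin 2) F}
    (hB : ap B w = w) : ∃ t : F, ∀ x, ap B x = x + (t * dt w x) • w := by
  obtain ⟨u, hu⟩ := exists_dt hw
  have h1 : dt w (ap B u - u) = 0 := by
    have h2 := dt_ap' B w u
    rw [hB] at h2
    unfold dt at h2 ⊢
    rw [Pi.sub_apply, Pi.sub_apply]
    linear_combination h2
  obtain ⟨t, ht⟩ := exists_smul_of_dt hw h1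
  have ht' : ap B u = u + t • w := by rw [← ht]; abel
  refine ⟨t, fun x => ?_⟩
  obtain ⟨a, b, rfl⟩ := exists_comb (by rw [hu]; exact one_ne_zero : dt w u ≠ 0) x
  have h3 : dt w (a • w + b • u) = b := by
    rw [dt_add, dt_smul, dt_smul, hu]
    unfold dt; ring
  rw [h3, ap_add, ap_smul, ap_smul, hB, ht', smul_add, smul_smul, mul_comm t b]
  abel

/-! ### Products of natural modules -/

/-- `V = (F²)^ι`, and all elements of `SL₂(F)^ι` are induced by elements of `G`. -/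
structure _root_.Cfsg.Agent.Omega.NOne.NatProd (F : Type*) [Field F] (ι : Type*) (V : Subgroup G) where
  e : (ι → Fin 2 → F) → G
  e_add : ∀ x y, e (x + y) = e x * e y
  e_inj : Function.Injective e
  mem_iff : ∀ g, g ∈ V ↔ ∃ x, e x = g
  lift : ∀ A : ι → Matrix.SpecialLinearGroup (Fin 2) F, ∃ g, ∀ x, g * e x * g⁻¹ = e fun i => ap (A i) (x i)

section Main

variable {ι : Type*} {V : Subgroup G} (D : NatProd F ι V)
include D

/-- `g` acts as `A` -/
def Ind (g : G) (A : ι → Matrix.SpecialLinearGroup (Fin 2) F) : Prop :=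
  ∀ x, g * D.e x * g⁻¹ = D.e fun i => ap (A i) (x i)

theorem e_zero : D.e 0 = 1 := by
  have := D.e_add 0 0
  rw [add_zero] at this
  exact left_eq_mul.1 this

theorem e_neg (x : ι → Fin 2 → F) : D.e (-x) = (D.e x)⁻¹ := by
  rw [eq_inv_iff_mul_eq_one, ← D.e_add, neg_add_cancel, D.e_zero]

theorem e_sub (x y : ι → Fin 2 → F) : D.e (x - y) = D.e x * (D.e y)⁻¹ := by
  rw [sub_eq_add_neg, D.e_add, D.e_neg]

theorem e_mem (x : ι → Fin 2 → F) : D.e x ∈ V := (D.mem_iff _).2 ⟨x, rfl⟩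

theorem comm_V : V ≤ centralizer (V : Set G) := by
  refine le_centralizer_of_comm fun a ha b hb => ?_
  obtain ⟨x, rfl⟩ := (D.mem_iff a).1 ha
  obtain ⟨y, rfl⟩ := (D.mem_iff b).1 hb
  rw [← D.e_add, ← D.e_add, add_comm]

variable {D}

theorem Ind.one : D.Ind 1 (fun _ => 1) := fun x => by
  simp only [ap_one]; group

theorem Ind.mul {g h : G} {A B : ι → Matrix.SpecialLinearGroup (Fin 2) F} (hg : D.Ind g A)
    (hh : D.Ind h B) : D.Ind (g * h) (fun i => A i * B i) := fun x => by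
  have e1 : g * h * D.e x * (g * h)⁻¹ = g * (h * D.e x * h⁻¹) * g⁻¹ := by group
  rw [e1, hh, hg]
  simp only [ap_mul]

theorem Ind.inv {g : G} {A : ι → Matrix.SpecialLinearGroup (Fin 2) F} (hg : D.Ind g A) :
    D.Ind g⁻¹ (fun i => (A i)⁻¹) := fun x => by
  have h1 := hg fun i => ap (A i)⁻¹ (x i)
  simp only [ap_ap_inv] at h1
  rw [← h1]; group

theorem Ind.mem_normalizer {g : G} {A : ι → Matrix.SpecialLinearGroup (Fin 2) F} (hg : D.Ind g A) :
    g ∈ normalizer (V : Set G) := by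
  rw [Subgroup.mem_normalizer_iff]
  intro n
  constructor
  · intro hn
    obtain ⟨x, rfl⟩ := (D.mem_iff n).1 hn
    rw [hg]; exact D.e_mem _
  · intro hn
    obtain ⟨x, hx⟩ := (D.mem_iff _).1 hn
    have h1 := hg.inv x
    rw [hx] at h1
    have h2 : g⁻¹ * (g * n * g⁻¹) * g⁻¹⁻¹ = n := by group
    rw [h2] at h1
    rw [h1]; exact D.e_mem _

variable (D)

/-- `l = ∏ F w_i` -/
def lin (w : ι → Fin 2 → F) : Subgroup G where
  carrier := {g | ∃ c : ι → F, D.e (fun i => c i • w i) = g}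
  mul_mem' := by
    rintro _ _ ⟨c, rfl⟩ ⟨d, rfl⟩
    refine ⟨fun i => c i + d i, ?_⟩
    rw [← D.e_add]
    congr 1
    funext i
    rw [add_smul]; rfl
  one_mem' := ⟨fun _ => 0, by
    rw [← D.e_zero]
    congr 1
    funext i
    rw [zero_smul]; rfl⟩
  inv_mem' := by
    rintro _ ⟨c, rfl⟩
    refine ⟨fun i => - c i, ?_⟩
    rw [← D.e_neg]
    congr 1
    funext i
    rw [neg_smul]; rfl

theorem mem_lin {w : ι → Fin 2 → F} {x : ι → Fin 2 → F} :
    D.e x ∈ D.lin w ↔ ∀ i, ∃ c : F, x i = c • w i := by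
  constructor
  · rintro ⟨c, hc⟩ i
    exact ⟨c i, (congrFun (D.e_inj hc) i).symm⟩
  · intro h
    choose c hc using h
    exact ⟨c, congrArg D.e (funext fun i => (hc i).symm)⟩

theorem lin_le (w : ι → Fin 2 → F) : D.lin w ≤ V := by
  rintro _ ⟨c, rfl⟩
  exact D.e_mem _

/-- `Ê` -/
def Eh (w : ι → Fin 2 → F) : Subgroup G where
  carrier := {g | ∃ A, (∀ i, ap (A i) (w i) = w i) ∧ D.Ind g A}
  mul_mem' := by
    rintro g h ⟨A, hA, hg⟩ ⟨B, hB, hh⟩
    exact ⟨_, fun i => by rw [ap_mul, hB, hA], hg.mul hh⟩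
  one_mem' := ⟨_, fun i => ap_one _, Ind.one⟩
  inv_mem' := by
    rintro g ⟨A, hA, hg⟩
    refine ⟨_, fun i => ?_, hg.inv⟩
    have := ap_inv_ap (A i) (w i)
    rwa [hA] at this

/-- the group generated by the elements inducing an element of `∏ N_{SL₂(F)}(F w_i)` -/
def tor (w : ι → Fin 2 → F) : Subgroup G :=
  closure {g | ∃ A, (∀ i, ∃ c : F, c ≠ 0 ∧ ap (A i) (w i) = c • w i) ∧ D.Ind g A}

theorem tor_le (w : ι → Fin 2 → F) : D.tor w ≤ normalizer (V : Set G) := by
  refine (closure_le _).2 ?_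
  rintro g ⟨A, -, hg⟩
  exact hg.mem_normalizer

theorem tor_le_lin (w : ι → Fin 2 → F) : D.tor w ≤ normalizer (D.lin w : Set G) := by
  refine (closure_le _).2 ?_
  have key : ∀ g : G, (∃ A, (∀ i, ∃ c : F, c ≠ 0 ∧ ap (A i) (w i) = c • w i) ∧ D.Ind g A) →
      ∀ x ∈ D.lin w, g * x * g⁻¹ ∈ D.lin w := by
    rintro g ⟨A, hA, hg⟩ _ ⟨c, rfl⟩
    rw [hg, mem_lin]
    intro i
    obtain ⟨d, -, hd⟩ := hA i
    exact ⟨c i * d, by rw [ap_smul, hd, smul_smul]⟩
  rintro g ⟨A, hA, hg⟩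
  refine (Subgroup.mem_normalizer_iff).2 fun x => ⟨key g ⟨A, hA, hg⟩ x, fun hx => ?_⟩
  have h1 := key g⁻¹ ⟨_, fun i => ?_, hg.inv⟩ _ hx
  · have e : g⁻¹ * (g * x * g⁻¹) * g⁻¹⁻¹ = x := by group
    rwa [e] at h1
  · obtain ⟨d, hd0, hd⟩ := hA i
    refine ⟨d⁻¹, inv_ne_zero hd0, ?_⟩
    have h2 := ap_inv_ap (A i) (w i)
    rw [hd, ap_smul] at h2
    exact (eq_inv_smul_iff₀ hd0).2 h2

/-- `S` permutes the factors transitively. -/
def Trans [DecidableEq ι] (S : Subgroup G) : Prop :=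
  ∀ i j, ∃ s ∈ S, ∀ y, ∃ z, s * D.e (Pi.single i y) * s⁻¹ = D.e (Pi.single j z)

variable [DecidableEq ι]

variable {D} in
theorem Ind.single {g : G} {A : ι → Matrix.SpecialLinearGroup (Fin 2) F} (hg : D.Ind g A) (i : ι)
    (y : Fin 2 → F) : g * D.e (Pi.single i y) * g⁻¹ = D.e (Pi.single i (ap (A i) y)) := by
  rw [hg]
  congr 1
  funext j
  by_cases h : j = i
  · subst h
    rw [Pi.single_eq_same, Pi.single_eq_same]
  · rw [Pi.single_eq_of_ne h, Pi.single_eq_of_ne h]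
    apply ext2
    · rw [ap_zero']; simp
    · rw [ap_one']; simp

theorem e_single_sub (i : ι) (x y : Fin 2 → F) :
    D.e (Pi.single i (x - y)) = D.e (Pi.single i x) * (D.e (Pi.single i y))⁻¹ := by
  rw [← D.e_sub, Pi.single_sub]

/-- A subgroup containing all the factors contains `V`. -/
theorem e_mem_of_single [Fintype ι] {U : Subgroup G} {x : ι → Fin 2 → F}
    (h : ∀ i, D.e (Pi.single i (x i)) ∈ U) : D.e x ∈ U := by
  have h1 : x = ∑ i, Pi.single i (x i) := (Finset.univ_sum_single x).symm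
  rw [h1]
  refine Finset.sum_induction (fun i => Pi.single i (x i)) (fun y => D.e y ∈ U) ?_ ?_ fun i _ => h i
  · intro a b ha hb
    rw [D.e_add]
    exact mul_mem ha hb
  · rw [D.e_zero]
    exact one_mem U

variable {D}

/-- **(nat)** -/
theorem nat [Fintype ι] {w : ι → Fin 2 → F} (hw : ∀ i, w i ≠ 0) {S R : Subgroup G} (hT : D.Trans S)
    (hR : R ≤ D.Eh w) (hSR : S ≤ normalizer (R : Set G)) (hne : ¬ R ≤ centralizer (V : Set G)) :
    ⁅V, R⁆ = D.lin w ∧ V ⊓ centralizer (R : Set G) = D.lin w := by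
  -- an element of `R` nontrivial on some factor
  obtain ⟨r, hr, i, y, hy⟩ : ∃ r ∈ R, ∃ i, ∃ y, r * D.e (Pi.single i y) * r⁻¹ ≠ D.e (Pi.single i y) := by
    by_contra hc
    push Not at hc
    refine hne fun r hr => mem_centralizer_iff.2 fun v hv => ?_
    obtain ⟨A, hA, hrA⟩ := hR hr
    obtain ⟨x, rfl⟩ := (D.mem_iff v).1 hv
    have h1 : ∀ i, ap (A i) (x i) = x i := fun i => by
      have h2 := hc r hr i (x i)
      rw [hrA.single] at h2
      have h3 := congrFun (D.e_inj h2) i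
      rwa [Pi.single_eq_same, Pi.single_eq_same] at h3
    have h4 := hrA x
    simp only [h1] at h4
    calc D.e x * r = r * D.e x * r⁻¹ * r := by rw [h4]
      _ = r * D.e x := by group
  -- hence on every factor
  have key : ∀ j, ∃ r ∈ R, ∃ A, (∀ i, ap (A i) (w i) = w i) ∧ D.Ind r A ∧
      ∃ t : F, t ≠ 0 ∧ ∀ x, ap (A j) x = x + (t * dt (w j) x) • w j := by
    intro j
    obtain ⟨s, hs, hsy⟩ := hT i j
    obtain ⟨z, hz⟩ := hsy y
    have hr' : s * r * s⁻¹ ∈ R := norm_mem (hSR hs) hr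
    obtain ⟨A, hA, hrA⟩ := hR hr'
    obtain ⟨t, ht⟩ := exists_transv (hw j) (hA j)
    refine ⟨_, hr', A, hA, hrA, t, ?_, ht⟩
    rintro rfl
    have h1 : ap (A j) z = z := by rw [ht]; simp
    have h2 := hrA.single j z
    rw [h1, ← hz] at h2
    apply hy
    have h3 : s * (r * D.e (Pi.single i y) * r⁻¹) * s⁻¹ = s * D.e (Pi.single i y) * s⁻¹ := by
      rw [← h2]; group
    exact mul_left_cancel (mul_right_cancel h3)
  constructor
  · refine le_antisymm ?_ ?_
    · rw [commutator_le]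
      intro v hv r hr
      obtain ⟨x, rfl⟩ := (D.mem_iff v).1 hv
      obtain ⟨A, hA, hrA⟩ := hR hr
      have e1 : ⁅D.e x, r⁆ = D.e (x - fun i => ap (A i) (x i)) := by
        rw [D.e_sub, ← hrA x, commutatorElement_def]; group
      rw [e1, mem_lin]
      intro i
      obtain ⟨t, ht⟩ := exists_transv (hw i) (hA i)
      refine ⟨-(t * dt (w i) (x i)), ?_⟩
      rw [Pi.sub_apply, ht, neg_smul]
      abel
    · rintro _ ⟨c, rfl⟩
      refine D.e_mem_of_single fun j => ?_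
      obtain ⟨r, hr, A, hA, hrA, t, ht0, ht⟩ := key j
      obtain ⟨u, hu⟩ := exists_dt (hw j)
      have h1 := commutator_mem_commutator (D.e_mem (Pi.single j ((-(c j * t⁻¹)) • u))) hr
      have e1 : ⁅D.e (Pi.single j ((-(c j * t⁻¹)) • u)), r⁆ = D.e (Pi.single j (c j • w j)) := by
        have h2 : c j • w j = (-(c j * t⁻¹)) • u - ap (A j) ((-(c j * t⁻¹)) • u) := by
          rw [ht, dt_smul, hu, mul_one]
          rw [sub_add_eq_sub_sub, sub_self, zero_sub, ← neg_smul]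
          congr 1
          field_simp
        rw [h2, e_single_sub, ← hrA.single j, commutatorElement_def]; group
      rwa [e1] at h1
  · refine le_antisymm ?_ ?_
    · rintro v ⟨hv, hvR⟩
      obtain ⟨x, rfl⟩ := (D.mem_iff v).1 hv
      rw [mem_lin]
      intro j
      obtain ⟨r, hr, A, hA, hrA, t, ht0, ht⟩ := key j
      have h1 := mem_centralizer_iff.1 hvR r hr
      have h2 := hrA x
      rw [h1, mul_inv_cancel_right] at h2
      have h3 : x j = ap (A j) (x j) := congrFun (D.e_inj h2) j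
      rw [ht, left_eq_add, smul_eq_zero, mul_eq_zero] at h3
      exact exists_smul_of_dt (hw j) ((h3.resolve_right (hw j)).resolve_left ht0)
    · refine le_inf (D.lin_le w) ?_
      rintro _ ⟨c, rfl⟩
      refine mem_centralizer_iff.2 fun r hr => ?_
      obtain ⟨A, hA, hrA⟩ := hR hr
      have h1 := hrA fun i => c i • w i
      simp only [ap_smul, hA] at h1
      calc r * D.e (fun i => c i • w i) = r * D.e (fun i => c i • w i) * r⁻¹ * r := by group
        _ = D.e (fun i => c i • w i) * r := by rw [h1]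

/-- **(irr)** -/
theorem irr [Fintype ι] {w : ι → Fin 2 → F} (hw : ∀ i, w i ≠ 0) {S U : Subgroup G} (hT : D.Trans S)
    (hF : (∃ c : F, c ≠ 0 ∧ c ≠ 1) ∨ Subsingleton ι) (hlU : D.lin w ≤ U) (hUV : U ≤ V)
    (hSU : S ≤ normalizer (U : Set G)) (hTU : D.tor w ≤ normalizer (U : Set G)) :
    U = D.lin w ∨ U = V := by
  by_contra hcon
  push Not at hcon
  obtain ⟨hc1, hc2⟩ := hcon
  -- an element outside `l`
  obtain ⟨x, hxU, i, hxi⟩ : ∃ x, D.e x ∈ U ∧ ∃ i, dt (w i) (x i) ≠ 0 := by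
    by_contra hc
    push Not at hc
    refine hc1 (le_antisymm (fun u hu => ?_) hlU)
    obtain ⟨x, rfl⟩ := (D.mem_iff u).1 (hUV hu)
    rw [mem_lin]
    exact fun i => exists_smul_of_dt (hw i) (hc x hu i)
  -- an element of a factor outside `l`
  obtain ⟨u, huU, hu⟩ : ∃ u, D.e (Pi.single i u) ∈ U ∧ dt (w i) u ≠ 0 := by
    rcases hF with ⟨c, hc0, hc1⟩ | hss
    · obtain ⟨B, hB, hB'⟩ := exists_basis' (w := w i) (x := x i) (w' := c⁻¹ • w i) (x' := c • x i) hxi
        (by unfold dt; simp only [Pi.smul_apply, smul_eq_mul]; field_simp)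
      obtain ⟨g, hg⟩ := D.lift (Pi.mulSingle i B)
      have hg' : D.Ind g (Pi.mulSingle i B) := hg
      have hgT : g ∈ D.tor w := by
        refine subset_closure ⟨_, fun j => ?_, hg'⟩
        by_cases hj : j = i
        · subst hj
          exact ⟨c⁻¹, inv_ne_zero hc0, by rw [Pi.mulSingle_eq_same, hB]⟩
        · exact ⟨1, one_ne_zero, by rw [Pi.mulSingle_eq_of_ne hj, ap_one, one_smul]⟩
      have h1 := mul_mem (norm_mem (hTU hgT) hxU) (inv_mem hxU)
      rw [hg', ← D.e_sub] at h1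
      refine ⟨(c - 1) • x i, ?_, ?_⟩
      · convert h1 using 2
        funext j
        by_cases hj : j = i
        · subst hj
          rw [Pi.single_eq_same, Pi.sub_apply, Pi.mulSingle_eq_same, hB', sub_smul, one_smul]
        · rw [Pi.single_eq_of_ne hj, Pi.sub_apply, Pi.mulSingle_eq_of_ne hj, ap_one, sub_self]
      · rw [dt_smul]
        exact mul_ne_zero (sub_ne_zero.2 hc1) hxi
    · refine ⟨x i, ?_, hxi⟩
      convert hxU using 2
      funext j
      obtain rfl : j = i := Subsingleton.elim _ _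
      rw [Pi.single_eq_same]
  -- the factor `i`
  have hi : ∀ y, D.e (Pi.single i y) ∈ U := by
    intro y
    by_cases hy : dt (w i) y = 0
    · refine hlU ((D.mem_lin).2 fun j => ?_)
      by_cases hj : j = i
      · subst hj
        rw [Pi.single_eq_same]
        exact exists_smul_of_dt (hw j) hy
      · exact ⟨0, by rw [Pi.single_eq_of_ne hj, zero_smul]⟩
    · obtain ⟨B, hB, hB'⟩ := exists_basis' (w := w i) (x := u)
        (w' := (dt (w i) u / dt (w i) y) • w i) (x' := y) hu (by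
          have h1 : dt ((dt (w i) u / dt (w i) y) • w i) y = (dt (w i) u / dt (w i) y) * dt (w i) y := by
            simp only [dt, Pi.smul_apply, smul_eq_mul]; ring
          rw [h1, div_mul_cancel₀ _ hy])
      obtain ⟨g, hg⟩ := D.lift (Pi.mulSingle i B)
      have hg' : D.Ind g (Pi.mulSingle i B) := hg
      have hgT : g ∈ D.tor w := by
        refine subset_closure ⟨_, fun j => ?_, hg'⟩
        by_cases hj : j = i
        · subst hj
          exact ⟨_, div_ne_zero hu hy, by rw [Pi.mulSingle_eq_same, hB]⟩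
        · exact ⟨1, one_ne_zero, by rw [Pi.mulSingle_eq_of_ne hj, ap_one, one_smul]⟩
      have h1 := norm_mem (hTU hgT) huU
      rwa [hg'.single, Pi.mulSingle_eq_same, hB'] at h1
  refine hc2 (le_antisymm hUV fun v hv => ?_)
  obtain ⟨x, rfl⟩ := (D.mem_iff v).1 hv
  refine D.e_mem_of_single fun j => ?_
  obtain ⟨s, hs, hsy⟩ := hT j i
  obtain ⟨z, hz⟩ := hsy (x j)
  have h1 := norm_mem' (hSU hs) (hi z)
  rw [← hz] at h1
  have e : s⁻¹ * (s * D.e (Pi.single j (x j)) * s⁻¹) * s = D.e (Pi.single j (x j)) := by group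
  rwa [e] at h1

variable (D)

theorem card_lin [Fintype ι] {w : ι → Fin 2 → F} (hw : ∀ i, w i ≠ 0) :
    Nat.card (D.lin w) = Nat.card (ι → F) := by
  refine (Nat.card_congr (Equiv.ofBijective
    (fun c : ι → F => (⟨D.e (fun i => c i • w i), c, rfl⟩ : D.lin w)) ⟨?_, ?_⟩)).symm
  · intro c d h
    funext i
    exact smul_left_injective F (hw i) (congrFun (D.e_inj (congrArg Subtype.val h)) i)
  · rintro ⟨_, c, rfl⟩
    exact ⟨c, rfl⟩

theorem card_V [Fintype ι] : Nat.card V = Nat.card (ι → F) ^ 2 := by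
  have h1 : Nat.card (ι → Fin 2 → F) = Nat.card V := by
    refine Nat.card_congr (Equiv.ofBijective (fun x => ⟨D.e x, D.e_mem x⟩) ⟨?_, ?_⟩)
    · intro x y h
      exact D.e_inj (congrArg Subtype.val h)
    · rintro ⟨v, hv⟩
      obtain ⟨x, rfl⟩ := (D.mem_iff v).1 hv
      exact ⟨x, rfl⟩
  rw [← h1, Nat.card_fun, Nat.card_fun, Nat.card_fun, ← pow_mul, ← pow_mul, mul_comm]
  simp

/-- `|V : l| = |l|` -/
theorem relIndex_lin [Finite G] [Fintype ι] {w : ι → Fin 2 → F} (hw : ∀ i, w i ≠ 0) :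
    (D.lin w).relIndex V = Nat.card (D.lin w) := by
  have h1 := relIndex_mul_relIndex ⊥ (D.lin w) V bot_le (D.lin_le w)
  rw [relIndex_bot_left, relIndex_bot_left, D.card_V, ← D.card_lin hw, sq] at h1
  exact Nat.eq_of_mul_eq_mul_left Nat.card_pos h1

/-- **(card)** -/
theorem card [Finite G] [Fintype ι] {w : ι → Fin 2 → F} (hw : ∀ i, w i ≠ 0) :
    (D.Eh w ⊓ centralizer (V : Set G)).relIndex (D.Eh w) ≤ (D.lin w).relIndex V := by
  rw [D.relIndex_lin hw, inf_relIndex_left, relIndex, index_eq_card]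
  choose u hu using fun i => exists_dt (hw i)
  have hmem : ∀ g ∈ D.Eh w, g * D.e u * g⁻¹ * (D.e u)⁻¹ ∈ D.lin w := by
    rintro g ⟨A, hA, hg⟩
    rw [hg, ← D.e_sub, mem_lin]
    intro i
    obtain ⟨t, ht⟩ := exists_transv (hw i) (hA i)
    exact ⟨t * dt (w i) (u i), by rw [Pi.sub_apply, ht, add_sub_cancel_left]⟩
  have hinj : ∀ g ∈ D.Eh w, ∀ h ∈ D.Eh w, g * D.e u * g⁻¹ = h * D.e u * h⁻¹ →
      g⁻¹ * h ∈ centralizer (V : Set G) := by
    rintro g ⟨A, hA, hg⟩ h ⟨B, hB, hh⟩ he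
    have h1 : ∀ i x, ap (A i) x = ap (B i) x := by
      intro i x
      rw [hg, hh] at he
      have h2 : ap (A i) (u i) = ap (B i) (u i) := congrFun (D.e_inj he) i
      obtain ⟨t, ht⟩ := exists_transv (hw i) (hA i)
      obtain ⟨s, hs⟩ := exists_transv (hw i) (hB i)
      rw [ht, hs, hu, mul_one, mul_one, add_right_inj] at h2
      rw [ht, hs, smul_left_injective F (hw i) h2]
    refine mem_centralizer_iff.2 fun v hv => ?_
    obtain ⟨x, rfl⟩ := (D.mem_iff v).1 hv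
    have h3 := hg x
    have h4 := hh x
    simp only [h1] at h3
    rw [← h4] at h3
    calc D.e x * (g⁻¹ * h) = g⁻¹ * (g * D.e x * g⁻¹) * h := by group
      _ = g⁻¹ * (h * D.e x * h⁻¹) * h := by rw [h3]
      _ = g⁻¹ * h * D.e x := by group
  refine Nat.card_le_card_of_injective
    (fun q : D.Eh w ⧸ (centralizer (V : Set G)).subgroupOf (D.Eh w) =>
      (⟨_, hmem (Quotient.out q : D.Eh w) (Quotient.out q).2⟩ : D.lin w)) ?_
  intro q q' hq
  have h1 := mul_right_cancel (congrArg Subtype.val hq)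
  have h2 := hinj _ (Quotient.out q).2 _ (Quotient.out q').2 h1
  rw [← QuotientGroup.out_eq' q, ← QuotientGroup.out_eq' q', QuotientGroup.eq, mem_subgroupOf]
  exact h2

variable {D}

/-- The hypothesis of LEMMA NAT for a minimal parabolic `P`. -/
theorem hyp [Finite G] [Fintype ι] (S : Sylow 2 G) {P : Subgroup G}
    (hP : MinSimple.MinParabolic.IsMinPar (S : Subgroup G) P)
    (hc : P ⊓ centralizer (o2 P : Set G) ≤ o2 P) (hVS : V ≤ (S : Subgroup G))
    (hSV : (S : Subgroup G) ≤ normalizer (V : Set G)) (hVQ : ¬ V ≤ o2 P)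
    {w : ι → Fin 2 → F} (hw : ∀ i, w i ≠ 0) (hT : D.Trans (S : Subgroup G))
    (hE : ⁅o2 P, oddGen P⁆ ≤ D.Eh w) :
    NatLem.Hyp (S : Subgroup G) P V (D.lin w) (D.Eh w) :=
  NatLem.Hyp.of_minPar S hP hc D.comm_V hVS hSV hVQ hE fun _ hR hSR hne => nat hw hT hR hSR hne

/-- **LEMMA NAT.** `G` of characteristic 2 type, `S ≤ P` a minimal parabolic, `V` a product of natural
`SL₂(F)`-modules permuted transitively by `S`, `V ≰ O₂(P)`, and `N = [O₂(P), O²(P)]` acts on `V` inside `Ê`.  Then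
`N` is abelian, `C_V(N) = V ∩ O₂(P)` and `|N : C_N(V)| ≤ |V : V ∩ O₂(P)|`. -/
theorem main [Finite G] [Fintype ι] (hG : Cfsg.IsCharacteristicTwoType G) (S : Sylow 2 G) {P : Subgroup G}
    (hP : MinSimple.MinParabolic.IsMinPar (S : Subgroup G) P)
    (hc : P ⊓ centralizer (o2 P : Set G) ≤ o2 P) (hVS : V ≤ (S : Subgroup G))
    (hSV : (S : Subgroup G) ≤ normalizer (V : Set G)) (hVQ : ¬ V ≤ o2 P)
    {w : ι → Fin 2 → F} (hw : ∀ i, w i ≠ 0) (hT : D.Trans (S : Subgroup G))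
    (hF : (∃ c : F, c ≠ 0 ∧ c ≠ 1) ∨ Subsingleton ι)
    (hE : ⁅o2 P, oddGen P⁆ ≤ D.Eh w) :
    NatLem.Out P V (D.lin w) ∧
      (NatLem.N P ⊓ centralizer (V : Set G)).relIndex (NatLem.N P) ≤ (V ⊓ o2 P).relIndex V := by
  have h := hyp S hP hc hVS hSV hVQ hw hT hE
  have hl : IsPGroup 2 (D.lin w) := S.isPGroup'.to_le ((D.lin_le w).trans hVS)
  have h1 := h.not_cent' (T := D.tor w) (MinSimple.Basic.char2_normalizer hG hl h.l_ne_bot)
    (MinPar.le_of_le_normalizer S (o2_isPGroup _) (h.S_norm_l.trans (le_normalizer_o2 _)))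
    (D.tor_le w) (D.tor_le_lin w) fun U h1 h2 h3 h4 => irr hw hT hF h1 h2 h3 h4
  have h2 := h.out h1
  refine ⟨h2, ?_⟩
  rw [h2.VQ]
  exact h.card_le (D.card hw)

end Main

/-! ### One factor -/

section One

variable {V : Subgroup G}

/-- one factor -/
def ofNatMod (M : NatMod F V) : NatProd F Unit V where
  e x := M.e (x ())
  e_add x y := M.e_add _ _
  e_inj x y h := by
    funext i
    exact M.e_inj h
  mem_iff g := by
    rw [M.mem_iff]
    exact ⟨fun ⟨x, hx⟩ => ⟨fun _ => x, hx⟩, fun ⟨x, hx⟩ => ⟨x (), hx⟩⟩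
  lift A := by
    obtain ⟨g, hg⟩ := M.lift (A ())
    exact ⟨g, fun x => hg _⟩

theorem trans_ofNatMod (M : NatMod F V) (S : Subgroup G) : (ofNatMod M).Trans S := by
  rintro ⟨⟩ ⟨⟩
  exact ⟨1, one_mem _, fun y => ⟨y, by group⟩⟩

end One

end Cfsg.Agent.Omega.NOne.NatProd
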