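import Cfsg.Agent.Omega.NOne.DPlusPts

/-!
# NO-1, `V = O₄⁺(2)`: coordinates (helper537)

`V = N₁ ⊗ N₂` as the group of bit vectors `Bool⁴`: `phi z : Bool⁴ → G`, `z p = phi z (vec p)`.  The
elements of `M` fixing `z (0, 0)` act as one of the eight elements `act8 b i j` of `D₈`.
-/

set_option autoImplicit false

namespace Cfsg.Agent.Omega.NOne.PlusVec

open Subgroup
open Cfsg.Agent.Omega.NOne.QuadPts (conj_comm comm_conj)
open Cfsg.Agent.Omega.NOne.DPlus
open Cfsg.Agent.Omega.NOne.DPlusPts

universe u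

variable {G : Type u} [Group G]

/-- bit vectors -/
abbrev B4 : Type := Bool × Bool × Bool × Bool

/-- sum of bit vectors -/
def add (v w : B4) : B4 := (v.1 ^^ w.1, v.2.1 ^^ w.2.1, v.2.2.1 ^^ w.2.2.1, v.2.2.2 ^^ w.2.2.2)

/-- the zero vector -/
def o : B4 := (false, false, false, false)

/-- the vector `z (0, 0)` -/
def z0 : B4 := (true, false, false, false)

/-- the nonsingular vector `e₀` -/
def e0 : B4 := (false, true, true, false)

/-- the nonsingular vector `e₀ z` -/
def e1 : B4 := (true, true, true, false)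

/-- the vector `a ⊗ b` -/
def vec : Fin 3 × Fin 3 → B4
  | (0, 0) => (true, false, false, false)
  | (0, 1) => (false, true, false, false)
  | (0, 2) => (true, true, false, false)
  | (1, 0) => (false, false, true, false)
  | (1, 1) => (false, false, false, true)
  | (1, 2) => (false, false, true, true)
  | (2, 0) => (true, false, true, false)
  | (2, 1) => (false, true, false, true)
  | (2, 2) => (true, true, true, true)

/-- a power with exponent a bit -/
def pw (x : G) (b : Bool) : G := if b then x else 1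

theorem pw_xor {x : G} (hx : x * x = 1) (a b : Bool) : pw x (a ^^ b) = pw x a * pw x b := by
  cases a <;> cases b <;> simp [pw, hx]

theorem pw_comm {x y : G} (h : x * y = y * x) (a b : Bool) : pw x a * pw y b = pw y b * pw x a := by
  cases a <;> cases b <;> simp [pw, h]

theorem conj_pw (g x : G) (a : Bool) : g * pw x a * g⁻¹ = pw (g * x * g⁻¹) a := by
  cases a <;> simp [pw]

/-- the vector with coordinates `v` -/
def phi (z : Fin 3 × Fin 3 → G) (v : B4) : G :=
  pw (z (0, 0)) v.1 * pw (z (0, 1)) v.2.1 * pw (z (1, 0)) v.2.2.1 * pw (z (1, 1)) v.2.2.2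

section grid

variable {z : Fin 3 × Fin 3 → G}

theorem phi_o : phi z o = 1 := by simp [phi, o, pw]

theorem phi_add (h : Grid z) (v w : B4) : phi z (add v w) = phi z v * phi z w := by
  obtain ⟨a, b, c, d⟩ := v
  obtain ⟨a', b', c', d'⟩ := w
  simp only [phi, add]
  rw [pw_xor (h.sq _), pw_xor (h.sq _), pw_xor (h.sq _), pw_xor (h.sq _)]
  have e1 := pw_comm (h.comm (0, 0) (0, 1)) a' b
  have e2 := pw_comm (h.comm (0, 1) (1, 0)) b' c
  have e3 := pw_comm (h.comm (0, 0) (1, 0)) a' c
  have e4 := pw_comm (h.comm (1, 0) (1, 1)) c' d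
  have e5 := pw_comm (h.comm (0, 1) (1, 1)) b' d
  have e6 := pw_comm (h.comm (0, 0) (1, 1)) a' d
  generalize pw (z (0, 0)) a = A at *
  generalize pw (z (0, 0)) a' = A' at *
  generalize pw (z (0, 1)) b = B at *
  generalize pw (z (0, 1)) b' = B' at *
  generalize pw (z (1, 0)) c = C at *
  generalize pw (z (1, 0)) c' = C' at *
  generalize pw (z (1, 1)) d = D at *
  generalize pw (z (1, 1)) d' = D' at *
  calc A * A' * (B * B') * (C * C') * (D * D') = A * (A' * B) * B' * C * C' * D * D' := by group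
    _ = A * B * A' * (B' * C) * C' * D * D' := by rw [e1]; group
    _ = A * B * (A' * C) * B' * (C' * D) * D' := by rw [e2]; group
    _ = A * B * C * A' * (B' * D) * C' * D' := by rw [e3, e4]; group
    _ = A * B * C * (A' * D) * B' * C' * D' := by rw [e5]; group
    _ = A * B * C * D * (A' * B' * C' * D') := by rw [e6]; group

theorem phi_vec (h : Grid z) (p : Fin 3 × Fin 3) : phi z (vec p) = z p := by
  have r01 : z (0, 0) * z (0, 1) = z (0, 2) := h.row 0 0 1 (by decide)
  have c01 : z (0, 0) * z (1, 0) = z (2, 0) := h.col 0 0 1 (by decide)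
  have r1 : z (1, 0) * z (1, 1) = z (1, 2) := h.row 1 0 1 (by decide)
  have c1 : z (0, 1) * z (1, 1) = z (2, 1) := h.col 1 0 1 (by decide)
  have c2 : z (0, 2) * z (1, 2) = z (2, 2) := h.col 2 0 1 (by decide)
  obtain ⟨a, b⟩ := p
  fin_cases a <;> fin_cases b
  · simp [phi, vec, pw]
  · simp [phi, vec, pw]
  · simp [phi, vec, pw, r01]
  · simp [phi, vec, pw]
  · simp [phi, vec, pw]
  · simp [phi, vec, pw, r1]
  · simp [phi, vec, pw, c01]
  · simp [phi, vec, pw, c1]
  · simp only [phi, vec, pw, if_true]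
    show z (0, 0) * z (0, 1) * z (1, 0) * z (1, 1) = z (2, 2)
    rw [mul_assoc, r1, r01, c2]

theorem vec_cases : ∀ v : B4, v = o ∨ (∃ p, v = vec p) ∨ ∃ p q, op p q ∧ v = add (vec p) (vec q) := by
  decide

theorem phi_ne (h : Grid z) {v : B4} (hv : v ≠ o) : phi z v ≠ 1 := by
  rcases vec_cases v with rfl | ⟨p, rfl⟩ | ⟨p, q, hpq, rfl⟩
  · exact absurd rfl hv
  · rw [phi_vec h]; exact h.ne_one p
  · rw [phi_add h, phi_vec h, phi_vec h]
    intro e
    have e2 := eq_inv_of_mul_eq_one_left e
    rw [h.zinv] at e2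
    have e3 := h.inj e2
    rw [e3] at hpq
    exact hpq.1 rfl

theorem add_self : ∀ v : B4, add v v = o := by decide
theorem add_comm' : ∀ v w : B4, add v w = add w v := by decide +kernel
theorem add_eq_o : ∀ v w : B4, add v w = o → v = w := by decide +kernel

theorem phi_inj (h : Grid z) {v w : B4} (e : phi z v = phi z w) : v = w := by
  by_contra hne
  refine phi_ne h (v := add v w) (fun e' => hne (add_eq_o v w e')) ?_
  rw [phi_add h, e, ← phi_add h, add_self, phi_o]

theorem phi_sq (h : Grid z) (v : B4) : phi z v * phi z v = 1 := by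
  rw [← phi_add h, add_self, phi_o]

theorem phi_inv (h : Grid z) (v : B4) : (phi z v)⁻¹ = phi z v :=
  inv_eq_of_mul_eq_one_left (phi_sq h v)

theorem phi_comm (h : Grid z) (v w : B4) : phi z v * phi z w = phi z w * phi z v := by
  rw [← phi_add h, ← phi_add h, add_comm']

/-- every element of `V` is a `phi z v` -/
theorem exists_phi {M V : Subgroup G} (h : Pts M V z) {x : G} (hx : x ∈ V) : ∃ v, x = phi z v := by
  have hx' := h.gen hx
  clear hx
  induction hx' using closure_induction with
  | mem x hx =>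
    obtain ⟨p, rfl⟩ := hx
    exact ⟨vec p, (phi_vec h.grid p).symm⟩
  | one => exact ⟨o, phi_o.symm⟩
  | mul a b _ _ ha hb =>
    obtain ⟨v, rfl⟩ := ha
    obtain ⟨w, rfl⟩ := hb
    exact ⟨add v w, (phi_add h.grid v w).symm⟩
  | inv a _ ha =>
    obtain ⟨v, rfl⟩ := ha
    exact ⟨v, phi_inv h.grid v⟩

theorem phi_mem {M V : Subgroup G} (h : Pts M V z) (v : B4) : phi z v ∈ V := by
  have hp : ∀ p b, pw (z p) b ∈ V := by
    intro p b
    cases b
    · exact one_mem _
    · exact h.mem p
  exact mul_mem (mul_mem (mul_mem (hp _ _) (hp _ _)) (hp _ _)) (hp _ _)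

/-- the linear map given by the images of the basis vectors -/
def lin (π : Fin 3 × Fin 3 → Fin 3 × Fin 3) (v : B4) : B4 :=
  add (add (add (if v.1 then vec (π (0, 0)) else o) (if v.2.1 then vec (π (0, 1)) else o))
    (if v.2.2.1 then vec (π (1, 0)) else o)) (if v.2.2.2 then vec (π (1, 1)) else o)

/-- `m` acts on the points by `π` -/
def Has (z : Fin 3 × Fin 3 → G) (m : G) (π : Fin 3 × Fin 3 → Fin 3 × Fin 3) : Prop :=
  ∀ p, m * z p * m⁻¹ = z (π p)

theorem Has.mul {m n : G} {π ρ : Fin 3 × Fin 3 → Fin 3 × Fin 3} (h : Has z m π) (h' : Has z n ρ) :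
    Has z (m * n) (fun p => π (ρ p)) := by
  intro p
  calc m * n * z p * (m * n)⁻¹ = m * (n * z p * n⁻¹) * m⁻¹ := by group
    _ = _ := by rw [h', h]

theorem Has.conj_phi (hz : Grid z) {m : G} {π : Fin 3 × Fin 3 → Fin 3 × Fin 3} (h : Has z m π) (v : B4) :
    m * phi z v * m⁻¹ = phi z (lin π v) := by
  have key : ∀ p (b : Bool), m * pw (z p) b * m⁻¹ = phi z (if b then vec (π p) else o) := by
    intro p b
    rw [conj_pw, h]
    cases b
    · simp [pw, phi_o]
    · simp [pw, phi_vec hz]
  rw [lin, phi_add hz, phi_add hz, phi_add hz, ← key, ← key, ← key, ← key, PlusVec.phi]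
  group

theorem Has.unique (hz : Grid z) {m : G} {π ρ : Fin 3 × Fin 3 → Fin 3 × Fin 3} (h : Has z m π)
    (h' : Has z m ρ) : π = ρ := by
  funext p
  apply hz.inj
  rw [← h, ← h']

end grid

/-- the eight elements of `D₈` -/
def act8 (b i j : Bool) (p : Fin 3 × Fin 3) : Fin 3 × Fin 3 :=
  (if i then t 0 (if b then p.2 else p.1) else (if b then p.2 else p.1),
    if j then t 0 (if b then p.1 else p.2) else (if b then p.1 else p.2))

theorem act8_inj : ∀ b i j b' i' j' : Bool, (∀ p, act8 b i j p = act8 b' i' j' p) →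
    b = b' ∧ i = i' ∧ j = j' := by decide +kernel

theorem act8_mul : ∀ b i j b' i' j' : Bool, ∀ p, act8 b i j (act8 b' i' j' p) =
    act8 (b ^^ b') (i ^^ (if b then j' else i')) (j ^^ (if b then i' else j')) p := by
  decide +kernel

theorem act8_id : ∀ p, act8 false false false p = p := by decide

theorem act8_fix : ∀ b i j, act8 b i j (0, 0) = (0, 0) := by decide

theorem perm_cases : ∀ σ : Equiv.Perm (Fin 3), σ 0 = 0 → (∀ x, σ x = x) ∨ ∀ x, σ x = t 0 x := by
  decide

end Cfsg.Agent.Omega.NOne.PlusVec
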