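import Cfsg.Agent.Omega.NOne.Frame
import Cfsg.Agent.Involutions.BaerSuzuki

/-!
# NO-1, choice of the conjugate (text #11359 (1))

`V ≤ C` a 2-subgroup not in `O₂(C)`.  There is `g ∈ C` with `X = ⟨V, V^g⟩` not a 2-group, `g ∈ X`, and
`|X|` minimal among all non-2-groups `⟨V, V^y⟩`, `y ∈ C`.
-/

set_option autoImplicit false

namespace Cfsg.Agent.Omega.NOne.Choice

open Subgroup Cfsg Cfsg.Agent.Omega.NoFF.Basic Cfsg.Agent.Omega.NOne.Frame
open Cfsg.Agent.MinSimple.VModule
open Cfsg.Agent.ZN (o2)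
open scoped Pointwise

universe u

variable {G : Type u} [Group G]

theorem isPGroup_conj {p : ℕ} {H : Subgroup G} (h : IsPGroup p H) (g : G) :
    IsPGroup p (MulAut.conj g • H : Subgroup G) := by
  rintro ⟨x, hx⟩
  obtain ⟨y, hy, rfl⟩ := mem_conj'.1 hx
  obtain ⟨k, hk⟩ := h ⟨y, hy⟩
  refine ⟨k, Subtype.ext ?_⟩
  change (g * y * g⁻¹) ^ p ^ k = 1
  have hk' : y ^ p ^ k = 1 := congrArg Subtype.val hk
  rw [conj_pow, hk', mul_one, mul_inv_cancel]

theorem conj_sup (g : G) (A B : Subgroup G) :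
    MulAut.conj g • (A ⊔ B) = MulAut.conj g • A ⊔ MulAut.conj g • B := Subgroup.smul_sup _ _ _

theorem card_conj (g : G) (A : Subgroup G) :
    Nat.card (MulAut.conj g • A : Subgroup G) = Nat.card A :=
  Nat.card_congr (Subgroup.equivSMul (MulAut.conj g) A).symm.toEquiv

/-- Baer–Suzuki inside a subgroup `C` of `G`. -/
theorem le_o2_of_pairs [Finite G] {C V : Subgroup G} (hVC : V ≤ C)
    (h : ∀ g ∈ C, IsPGroup 2 ((V ⊔ MulAut.conj g • V : Subgroup G))) : V ≤ o2 C := by
  have : Fact (Nat.Prime 2) := ⟨Nat.prime_two⟩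
  have hf := C.subtype_injective
  have h1 : IsPGroup 2 (Subgroup.normalClosure ((V.subgroupOf C : Subgroup C) : Set C) :
      Subgroup C) := by
    refine Cfsg.Agent.Involutions.BaerSuzuki.baer_suzuki_subgroup _ fun g => ?_
    have hle : (V.subgroupOf C ⊔ (V.subgroupOf C).map (MulAut.conj g).toMonoidHom).map C.subtype ≤
        V ⊔ MulAut.conj (g : G) • V := by
      rw [Subgroup.map_sup]
      refine sup_le_sup ?_ ?_
      · rintro _ ⟨x, hx, rfl⟩
        exact hx
      · rintro _ ⟨_, ⟨x, hx, rfl⟩, rfl⟩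
        exact conj_mem (g := (g : G)) (H := V) hx
    exact ((h g g.2).to_le hle).of_equiv (Subgroup.equivMapOfInjective _ C.subtype hf).symm
  have h2 : V ≤ (Subgroup.normalClosure ((V.subgroupOf C : Subgroup C) : Set C)).map C.subtype := by
    intro v hv
    exact ⟨⟨v, hVC hv⟩, Subgroup.subset_normalClosure (mem_subgroupOf.2 hv), rfl⟩
  refine h2.trans (le_o2 (map_subtype_le _) (h1.map _)
    (le_normalizer_map_of_normal Subgroup.normalClosure_normal))

theorem conj_mono {g : G} {A B : Subgroup G} (h : A ≤ B) : MulAut.conj g • A ≤ MulAut.conj g • B :=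
  conj_le_iff.2 h

theorem conj_le_of_mem {g : G} {A C : Subgroup G} (h : A ≤ C) (hg : g ∈ C) :
    MulAut.conj g • A ≤ C := by
  intro x hx
  obtain ⟨a, ha, rfl⟩ := mem_conj'.1 hx
  exact mul_mem (mul_mem hg (h ha)) (inv_mem hg)

/-- **Choice of `g`.** -/
theorem exists_g [Finite G] {C V : Subgroup G} (hVC : V ≤ C)
    (hVo : ¬ V ≤ o2 C) :
    ∃ g ∈ C, g ∈ X V g ∧ ¬ IsPGroup 2 (X V g) ∧
      ∀ y ∈ C, Nat.card (X V y) < Nat.card (X V g) → IsPGroup 2 (X V y) := by
  classical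
  -- minimal order
  have hex : ∃ n : ℕ, ∃ g ∈ C, ¬ IsPGroup 2 (X V g) ∧ Nat.card (X V g) = n := by
    by_contra hc
    push Not at hc
    refine hVo (le_o2_of_pairs hVC fun g hg => ?_)
    by_contra h1
    exact hc _ g hg h1 rfl
  obtain ⟨g, hg, hg2, hgn⟩ := Nat.find_spec hex
  have hmin : ∀ y ∈ C, Nat.card (X V y) < Nat.find hex → IsPGroup 2 (X V y) := by
    intro y hy hlt
    by_contra h1
    exact Nat.find_min hex hlt ⟨y, hy, h1, rfl⟩
  -- one of `g`, `g⁻¹`
  obtain ⟨k, hk, hk2, hkn, hko⟩ : ∃ k ∈ C, ¬ IsPGroup 2 (X V k) ∧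
      Nat.card (X V k) = Nat.find hex ∧ ¬ V ≤ o2 (X V k) := by
    by_cases h1 : V ≤ o2 (X V g)
    · have h2 : ¬ MulAut.conj g • V ≤ o2 (X V g) := fun h2 =>
        hg2 ((o2_isPGroup (X V g)).to_le (sup_le h1 h2))
      have hX : MulAut.conj g⁻¹ • X V g = X V g⁻¹ := by
        rw [X, conj_sup, conj_conj, inv_mul_cancel, map_one, one_smul, sup_comm]
      refine ⟨g⁻¹, inv_mem hg, fun h3 => hg2 ?_, ?_, fun h3 => h2 ?_⟩
      · rw [← hX] at h3
        have h4 := isPGroup_conj h3 g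
        rwa [conj_conj, mul_inv_cancel, map_one, one_smul] at h4
      · rw [← hX, card_conj, hgn]
      · have h4 : MulAut.conj g • V ≤ MulAut.conj g • o2 (X V g⁻¹) := conj_mono h3
        refine h4.trans (le_o2 ?_ (isPGroup_conj (o2_isPGroup _) g) ?_)
        · refine (conj_mono (o2_le _)).trans ?_
          rw [← hX, conj_conj, mul_inv_cancel, map_one, one_smul]
        · intro x hx
          have hx' : g⁻¹ * x * g ∈ X V g⁻¹ := by
            rw [← hX]
            rw [mem_conj]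
            have e : g⁻¹⁻¹ * (g⁻¹ * x * g) * g⁻¹ = x := by group
            rwa [e]
          have h5 := le_normalizer_o2 _ hx'
          rw [mem_normalizer_iff] at h5 ⊢
          intro y
          rw [mem_conj, mem_conj, h5]
          have e : g⁻¹ * x * g * (g⁻¹ * y * g) * (g⁻¹ * x * g)⁻¹ = g⁻¹ * (x * y * x⁻¹) * g := by group
          rw [e]
    · exact ⟨g, hg, hg2, hgn, h1⟩
  -- Baer–Suzuki in `X V k`
  have hXC : X V k ≤ C := sup_le hVC (conj_le_of_mem hVC hk)
  obtain ⟨y, hy, hy2⟩ : ∃ y ∈ X V k, ¬ IsPGroup 2 (X V y) := by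
    by_contra hc
    push Not at hc
    exact hko (le_o2_of_pairs le_sup_left hc)
  have hle : X V y ≤ X V k := sup_le le_sup_left (conj_le_of_mem le_sup_left hy)
  have hcard : Nat.card (X V y) = Nat.find hex := by
    refine le_antisymm (hkn ▸ Subgroup.card_le_of_le hle) ?_
    by_contra hlt
    exact hy2 (hmin y (hXC hy) (not_le.1 hlt))
  have heq : X V y = X V k := Subgroup.eq_of_le_of_card_ge hle (by rw [hcard, hkn])
  refine ⟨y, hXC hy, ?_, hy2, fun z hz hlt => hmin z hz (hcard ▸ hlt)⟩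
  rw [heq]
  exact hy

/-- A `p`-group generated by a subgroup `V` and a conjugate `V^g`, `g` in it, is `V`. -/
theorem eq_of_isPGroup {P : Type u} [Group P] [Finite P] {p : ℕ} [Fact p.Prime] (hP : IsPGroup p P)
    {V : Subgroup P} {g : P} (h : V ⊔ MulAut.conj g • V = ⊤) : V = ⊤ := by
  by_contra hV
  obtain ⟨M, hM, hVM⟩ := IsCoatomic.eq_top_or_exists_le_coatom V |>.resolve_left hV
  have hnil : Group.IsNilpotent P := hP.isNilpotent
  have hMn : M.Normal := by
    have := (Group.isNilpotent_of_finite_tfae (G := P)).out 0 2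
    exact (this.1 hnil) M hM
  have h1 : MulAut.conj g • V ≤ M := by
    intro x hx
    obtain ⟨v, hv, rfl⟩ := mem_conj'.1 hx
    exact hMn.conj_mem v (hVM hv) g
  exact hM.1 (top_le_iff.1 (h ▸ sup_le hVM h1))

end Cfsg.Agent.Omega.NOne.Choice
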