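import Cfsg.Agent.Omega.NOne.QuadPts

/-!
# NO-1, THEOREM D0+ (text #12107), abstract form (helper537)

Nine points `z (a, b)` in a 3 × 3 grid (the singular vectors of an `O₄⁺(2)`-module), `Q i` normal in
`C(z i)`, `Qs i ≤ Q i` with `[Qs i, Q i] ≤ ⟨z i⟩`, `Qs i` inducing `⟨t_a⟩ × ⟨t_b⟩` on the grid,
`i = (a, b)`.  Then `C_{Q i}(Qs i) = ⟨z i⟩`, and `Q i` is a large extraspecial group
(`Large (Q i) (z i)`).
-/

set_option autoImplicit false

namespace Cfsg.Agent.Omega.NOne.DPlus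

open Subgroup
open Cfsg.Agent.Omega.NOne.QuadPts (conj_comm comm_conj QZ Qd)

variable {G : Type*} [Group G]

/-- `t a` fixes `a` and swaps the other two elements. -/
def t (a x : Fin 3) : Fin 3 := -(a + x)

/-- opposite points of the grid -/
def op (i j : Fin 3 × Fin 3) : Prop := i.1 ≠ j.1 ∧ i.2 ≠ j.2

instance (i j : Fin 3 × Fin 3) : Decidable (op i j) := by unfold op; infer_instance

theorem t_self : ∀ a, t a a = a := by decide
theorem t_symm : ∀ a b, t a b = t b a := by decide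
theorem t_t : ∀ a b, t a (t a b) = b := by decide
theorem t_t' : ∀ a b, t (t a b) a = b := by decide
theorem t_ne : ∀ a b, a ≠ b → t a b ≠ b := by decide
theorem t_ne' : ∀ a b, a ≠ b → t a b ≠ a := by decide
theorem three : ∀ a b c : Fin 3, a ≠ b → c = a ∨ c = b ∨ c = t a b := by decide
theorem ex_ne : ∀ a : Fin 3, ∃ b, a ≠ b := by decide

/-- Nine singular vectors in a 3 × 3 grid. -/
structure Grid (z : Fin 3 × Fin 3 → G) : Prop where
  inj : Function.Injective z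
  ne_one : ∀ i, z i ≠ 1
  sq : ∀ i, z i * z i = 1
  comm : ∀ i j, z i * z j = z j * z i
  row : ∀ a b c, b ≠ c → z (a, b) * z (a, c) = z (a, t b c)
  col : ∀ a b c, b ≠ c → z (b, a) * z (c, a) = z (t b c, a)

namespace Grid

variable {z : Fin 3 × Fin 3 → G} (h : Grid z)
include h

theorem zinv (i : Fin 3 × Fin 3) : (z i)⁻¹ = z i := inv_eq_of_mul_eq_one_left (h.sq i)

/-- the sum of two opposite points is not a point -/
theorem not_pt {i j k : Fin 3 × Fin 3} (hij : op i j) : z i * z j ≠ z k := by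
  obtain ⟨a, b⟩ := i
  obtain ⟨a', b'⟩ := j
  obtain ⟨c, d⟩ := k
  obtain ⟨ha, hb⟩ := hij
  simp only at ha hb
  intro e
  have e1 : z (a', b') = z (c, d) * z (a, b) := by
    rw [← e, h.comm (a, b), mul_assoc, h.sq, mul_one]
  have e2 : z (a, b) = z (c, d) * z (a', b') := by
    rw [← e, mul_assoc, h.sq, mul_one]
  have e3 : z (c, d) * z (c, d) = 1 := h.sq _
  by_cases hca : c = a
  · subst hca
    by_cases hdb : d = b
    · subst hdb
      rw [h.sq] at e1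
      exact h.ne_one _ e1
    · rw [h.row c d b hdb] at e1
      exact ha (congrArg Prod.fst (h.inj e1)).symm
  by_cases hca' : c = a'
  · subst hca'
    by_cases hdb : d = b'
    · subst hdb
      rw [h.sq] at e2
      exact h.ne_one _ e2
    · rw [h.row c d b' hdb] at e2
      exact ha (congrArg Prod.fst (h.inj e2))
  by_cases hdb : d = b
  · subst hdb
    rw [h.col d c a hca] at e1
    exact hb (congrArg Prod.snd (h.inj e1)).symm
  by_cases hdb' : d = b'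
  · subst hdb'
    rw [h.col d c a' hca'] at e2
    exact hb (congrArg Prod.snd (h.inj e2))
  -- three pairwise opposite points
  have hc : c = t a a' := by
    rcases three a a' c ha with h1 | h1 | h1
    · exact absurd h1 hca
    · exact absurd h1 hca'
    · exact h1
  have hd : d = t b b' := by
    rcases three b b' d hb with h1 | h1 | h1
    · exact absurd h1 hdb
    · exact absurd h1 hdb'
    · exact h1
  have h1 : z (a, d) * z (a', d) = z (c, d) := by rw [h.col d a a' ha, hc]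
  have h2 : z (a, b) * z (a, d) = z (a, b') := by
    rw [h.row a b d (Ne.symm hdb), hd, t_t]
  have h3 : z (a', b') * z (a', d) = z (a', b) := by
    rw [h.row a' b' d (Ne.symm hdb'), hd, t_symm b b', t_t]
  have h4 : z (a, b') * z (a', b) = 1 := by
    rw [← h2, ← h3]
    calc z (a, b) * z (a, d) * (z (a', b') * z (a', d)) =
        z (a, b) * (z (a, d) * z (a', b')) * z (a', d) := by group
      _ = z (a, b) * (z (a', b') * z (a, d)) * z (a', d) := by rw [h.comm (a, d)]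
      _ = (z (a, b) * z (a', b')) * (z (a, d) * z (a', d)) := by group
      _ = 1 := by rw [e, h1, e3]
  have h5 : z (a, b') = z (a', b) := by
    rw [← h.zinv (a', b)]
    exact eq_inv_of_mul_eq_one_left h4
  exact ha (congrArg Prod.fst (h.inj h5))

/-- an element permuting the points preserves `op` -/
theorem eqOp {m : G} (hm : ∀ k', ∃ k, m⁻¹ * z k' * m⁻¹⁻¹ = z k) {i j i' j' : Fin 3 × Fin 3}
    (hij : op i j) (hi : m * z i * m⁻¹ = z i') (hj : m * z j * m⁻¹ = z j') : op i' j' := by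
  by_contra hn
  have hne : i' ≠ j' := by
    rintro rfl
    rw [← hj] at hi
    have := h.inj (mul_left_cancel (mul_right_cancel hi))
    rw [this] at hij
    exact hij.1 rfl
  obtain ⟨k', hk'⟩ : ∃ k', z i' * z j' = z k' := by
    obtain ⟨a, b⟩ := i'
    obtain ⟨a', b'⟩ := j'
    by_cases ha : a = a'
    · subst ha
      have hb : b ≠ b' := fun hb => hne (by rw [hb])
      exact ⟨_, h.row a b b' hb⟩
    · by_cases hb : b = b'
      · subst hb
        exact ⟨_, h.col b a a' ha⟩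
      · exact absurd ⟨ha, hb⟩ hn
  obtain ⟨k, hk⟩ := hm k'
  refine h.not_pt (k := k) hij ?_
  rw [← hk, ← hk', ← hi, ← hj]
  group

/-- An element commuting with a 2 × 2 rectangle of points commutes with all points. -/
theorem comm_all {a a' b b' : Fin 3} (ha : a ≠ a') (hb : b ≠ b') {u : G}
    (h1 : u * z (a, b) = z (a, b) * u) (h2 : u * z (a, b') = z (a, b') * u)
    (h3 : u * z (a', b) = z (a', b) * u) (h4 : u * z (a', b') = z (a', b') * u)
    (k : Fin 3 × Fin 3) : u * z k = z k * u := by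
  have mulc : ∀ i j k, z i * z j = z k → u * z i = z i * u → u * z j = z j * u →
      u * z k = z k * u := by
    intro i j k e hi hj
    rw [← e]
    calc u * (z i * z j) = (u * z i) * z j := by group
      _ = z i * (u * z j) := by rw [hi]; group
      _ = z i * z j * u := by rw [hj]; group
  obtain ⟨x, y⟩ := k
  have r1 : ∀ y, u * z (a, y) = z (a, y) * u := by
    intro y
    rcases three b b' y hb with e | e | e
    · rw [e]; exact h1
    · rw [e]; exact h2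
    · rw [e]; exact mulc _ _ _ (h.row a b b' hb) h1 h2
  have r2 : ∀ y, u * z (a', y) = z (a', y) * u := by
    intro y
    rcases three b b' y hb with e | e | e
    · rw [e]; exact h3
    · rw [e]; exact h4
    · rw [e]; exact mulc _ _ _ (h.row a' b b' hb) h3 h4
  rcases three a a' x ha with e | e | e
  · rw [e]; exact r1 y
  · rw [e]; exact r2 y
  · rw [e]; exact mulc _ _ _ (h.col y a a' ha) (r1 y) (r2 y)

end Grid

/-- The abstract configuration. -/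
structure DP (M : Subgroup G) (z : Fin 3 × Fin 3 → G) (Q Qs : Fin 3 × Fin 3 → Subgroup G) :
    Prop where
  inj : Function.Injective z
  ne_one : ∀ i, z i ≠ 1
  sq : ∀ i, z i * z i = 1
  comm : ∀ i j, z i * z j = z j * z i
  row : ∀ a b c, b ≠ c → z (a, b) * z (a, c) = z (a, t b c)
  col : ∀ a b c, b ≠ c → z (b, a) * z (c, a) = z (t b c, a)
  QM : ∀ i, Q i ≤ M
  perm : ∀ m ∈ M, ∀ i, ∃ j, m * z i * m⁻¹ = z j
  eqQ : ∀ m ∈ M, ∀ i j, m * z i * m⁻¹ = z j → ∀ x ∈ Q i, m * x * m⁻¹ ∈ Q j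
  eqQs : ∀ m ∈ M, ∀ i j, m * z i * m⁻¹ = z j → ∀ x ∈ Qs i, m * x * m⁻¹ ∈ Qs j
  nQ : ∀ i c, c * z i = z i * c → ∀ x ∈ Q i, c * x * c⁻¹ ∈ Q i
  nQs : ∀ i c, c * z i = z i * c → ∀ x ∈ Qs i, c * x * c⁻¹ ∈ Qs i
  le : ∀ i, Qs i ≤ Q i
  zmem : ∀ i, z i ∈ Qs i
  Qz : ∀ i, ∀ x ∈ Q i, x * z i = z i * x
  comQ : ∀ i, ∀ x ∈ Qs i, ∀ y ∈ Q i, x * y = y * x ∨ x * y = z i * (y * x)
  pair : ∀ i j, ¬ op i j → z j ∈ Qs i
  sr : ∀ a b, ∃ u ∈ Qs (a, b), ∀ x y, u * z (x, y) * u⁻¹ = z (x, t b y)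
  sc : ∀ a b, ∃ u ∈ Qs (a, b), ∀ x y, u * z (x, y) * u⁻¹ = z (t a x, y)
  min : ∀ i, ∀ Y : Subgroup G, Y ≤ Q i →
    (∀ m ∈ M, m * z i = z i * m → ∀ y ∈ Y, m * y * m⁻¹ ∈ Y) → Y ≠ ⊥ → z i ∈ Y

/-- `C_{Q i}(Qs i)` -/
def D (Q Qs : Fin 3 × Fin 3 → Subgroup G) (i : Fin 3 × Fin 3) : Subgroup G :=
  Q i ⊓ centralizer (Qs i : Set G)

/-- the intersection of the `D i` over a row -/
def Rw (Q Qs : Fin 3 × Fin 3 → Subgroup G) (a : Fin 3) : Subgroup G := ⨅ b, D Q Qs (a, b)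

/-- the intersection of the `D i` over a column -/
def Cl (Q Qs : Fin 3 × Fin 3 → Subgroup G) (b : Fin 3) : Subgroup G := ⨅ a, D Q Qs (a, b)

theorem mem_D {Q Qs : Fin 3 × Fin 3 → Subgroup G} {i : Fin 3 × Fin 3} {x : G} :
    x ∈ D Q Qs i ↔ x ∈ Q i ∧ ∀ y ∈ Qs i, x * y = y * x := by
  rw [D, mem_inf, mem_centralizer_iff]
  exact and_congr_right fun _ => ⟨fun H y hy => (H y hy).symm, fun H y hy => (H y hy).symm⟩

theorem mem_Rw {Q Qs : Fin 3 × Fin 3 → Subgroup G} {a : Fin 3} {x : G} :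
    x ∈ Rw Q Qs a ↔ ∀ b, x ∈ D Q Qs (a, b) := by rw [Rw, mem_iInf]

theorem mem_Cl {Q Qs : Fin 3 × Fin 3 → Subgroup G} {b : Fin 3} {x : G} :
    x ∈ Cl Q Qs b ↔ ∀ a, x ∈ D Q Qs (a, b) := by rw [Cl, mem_iInf]

theorem op_swap {i j : Fin 3 × Fin 3} : op i.swap j.swap ↔ op i j := and_comm

theorem op_symm {i j : Fin 3 × Fin 3} (h : op i j) : op j i := ⟨h.1.symm, h.2.symm⟩

theorem op_mid : ∀ i k : Fin 3 × Fin 3, ∃ j, op i j ∧ op j k := by decide

namespace DP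

variable {M : Subgroup G} {z : Fin 3 × Fin 3 → G} {Q Qs : Fin 3 × Fin 3 → Subgroup G}
variable (h : DP M z Q Qs)
include h

theorem zinv (i : Fin 3 × Fin 3) : (z i)⁻¹ = z i := inv_eq_of_mul_eq_one_left (h.sq i)

theorem QsM (i : Fin 3 × Fin 3) : Qs i ≤ M := (h.le i).trans (h.QM i)

theorem z_mem_D (i : Fin 3 × Fin 3) : z i ∈ D Q Qs i :=
  mem_D.2 ⟨h.le i (h.zmem i), fun y hy => (h.Qz i y (h.le i hy)).symm⟩

/-- the transposed configuration -/
theorem tp : DP M (z ∘ Prod.swap) (Q ∘ Prod.swap) (Qs ∘ Prod.swap) where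
  inj := h.inj.comp Prod.swap_injective
  ne_one i := h.ne_one _
  sq i := h.sq _
  comm i j := h.comm _ _
  row a b c hbc := h.col a b c hbc
  col a b c hbc := h.row a b c hbc
  QM i := h.QM _
  perm m hm i := by
    obtain ⟨j, hj⟩ := h.perm m hm i.swap
    exact ⟨j.swap, by simpa using hj⟩
  eqQ m hm i j := h.eqQ m hm _ _
  eqQs m hm i j := h.eqQs m hm _ _
  nQ i := h.nQ _
  nQs i := h.nQs _
  le i := h.le _
  zmem i := h.zmem _
  Qz i := h.Qz _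
  comQ i := h.comQ _
  pair i j hij := h.pair _ _ fun H => hij (op_swap.1 H)
  sr a b := by
    obtain ⟨u, hu, h1⟩ := h.sc b a
    exact ⟨u, hu, fun x y => h1 y x⟩
  sc a b := by
    obtain ⟨u, hu, h1⟩ := h.sr b a
    exact ⟨u, hu, fun x y => h1 y x⟩
  min i := h.min _

theorem grid : Grid z := ⟨h.inj, h.ne_one, h.sq, h.comm, h.row, h.col⟩

theorem eqOp {m : G} (hm : m ∈ M) {i j i' j' : Fin 3 × Fin 3} (hij : op i j)
    (hi : m * z i * m⁻¹ = z i') (hj : m * z j * m⁻¹ = z j') : op i' j' :=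
  h.grid.eqOp (h.perm m⁻¹ (inv_mem hm)) hij hi hj

theorem comm_all {a a' b b' : Fin 3} (ha : a ≠ a') (hb : b ≠ b') {u : G}
    (h1 : u * z (a, b) = z (a, b) * u) (h2 : u * z (a, b') = z (a, b') * u)
    (h3 : u * z (a', b) = z (a', b) * u) (h4 : u * z (a', b') = z (a', b') * u)
    (k : Fin 3 × Fin 3) : u * z k = z k * u := h.grid.comm_all ha hb h1 h2 h3 h4 k

/-- `D i` centralises all points. -/
theorem D_comm_z {i : Fin 3 × Fin 3} {d : G} (hd : d ∈ D Q Qs i) (k : Fin 3 × Fin 3) :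
    d * z k = z k * d := by
  obtain ⟨hd1, hd2⟩ := mem_D.1 hd
  obtain ⟨a, b⟩ := i
  obtain ⟨a', ha⟩ := ex_ne a
  obtain ⟨b', hb⟩ := ex_ne b
  have hdM := h.QM _ hd1
  have h1 := h.Qz _ d hd1
  have h2 := hd2 _ (h.pair (a, b) (a, b') fun H => H.1 rfl)
  have h3 := hd2 _ (h.pair (a, b) (a', b) fun H => H.2 rfl)
  obtain ⟨⟨c, e⟩, hk⟩ := h.perm d hdM (a', b')
  have o1 := h.eqOp hdM (show op (a, b) (a', b') from ⟨ha, hb⟩) (comm_conj h1) hk
  have hk' : d⁻¹ * z (c, e) * d⁻¹⁻¹ = z (a', b') := by rw [← hk]; group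
  have i2 : d⁻¹ * z (a, b') * d⁻¹⁻¹ = z (a, b') := by
    have := comm_conj h2
    calc d⁻¹ * z (a, b') * d⁻¹⁻¹ = d⁻¹ * (d * z (a, b') * d⁻¹) * d := by rw [this]; group
      _ = z (a, b') := by group
  have i3 : d⁻¹ * z (a', b) * d⁻¹⁻¹ = z (a', b) := by
    have := comm_conj h3
    calc d⁻¹ * z (a', b) * d⁻¹⁻¹ = d⁻¹ * (d * z (a', b) * d⁻¹) * d := by rw [this]; group
      _ = z (a', b) := by group
  have o2 : ¬ op (a, b') (c, e) := fun H => (h.eqOp (inv_mem hdM) H i2 hk').2 rfl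
  have o3 : ¬ op (a', b) (c, e) := fun H => (h.eqOp (inv_mem hdM) H i3 hk').1 rfl
  have e1 : b' = e := by
    by_contra hne
    exact o2 ⟨o1.1, hne⟩
  have e2 : a' = c := by
    by_contra hne
    exact o3 ⟨hne, o1.2⟩
  subst e1
  subst e2
  exact h.comm_all ha hb h1 h2 h3 (conj_comm hk) k

/-- an element of `Qs i` fixing a point opposite to `z i` fixes all points. -/
theorem reg {i j : Fin 3 × Fin 3} (hij : op i j) {u : G} (hu : u ∈ Qs i)
    (huj : u * z j = z j * u) (k : Fin 3 × Fin 3) : u * z k = z k * u := by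
  obtain ⟨a, b⟩ := i
  obtain ⟨a', b'⟩ := j
  obtain ⟨ha, hb⟩ := hij
  simp only at ha hb
  have huM := h.QsM _ hu
  have h1 := h.Qz _ u (h.le _ hu)
  have h2 : u * z (a, b') = z (a, b') * u := by
    rcases h.comQ _ u hu _ (h.le _ (h.pair (a, b) (a, b') fun H => H.1 rfl)) with h3 | h3
    · exact h3
    · exfalso
      have h4 : u * z (a, b') * u⁻¹ = z (a, t b b') := by
        rw [h3, ← h.row a b b' hb]; group
      have h5 : ¬ op (a, t b b') (a', b') := by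
        intro H
        have e1 : u⁻¹ * z (a, t b b') * u⁻¹⁻¹ = z (a, b') := by rw [← h4]; group
        have e2 : u⁻¹ * z (a', b') * u⁻¹⁻¹ = z (a', b') := by
          have := comm_conj huj
          calc u⁻¹ * z (a', b') * u⁻¹⁻¹ = u⁻¹ * (u * z (a', b') * u⁻¹) * u := by rw [this]; group
            _ = z (a', b') := by group
        exact (h.eqOp (inv_mem huM) H e1 e2).2 rfl
      exact h5 ⟨ha, t_ne b b' hb⟩
  have h3 : u * z (a', b) = z (a', b) * u := by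
    rcases h.comQ _ u hu _ (h.le _ (h.pair (a, b) (a', b) fun H => H.2 rfl)) with h3 | h3
    · exact h3
    · exfalso
      have h4 : u * z (a', b) * u⁻¹ = z (t a a', b) := by
        rw [h3, ← h.col b a a' ha]; group
      have h5 : ¬ op (t a a', b) (a', b') := by
        intro H
        have e1 : u⁻¹ * z (t a a', b) * u⁻¹⁻¹ = z (a', b) := by rw [← h4]; group
        have e2 : u⁻¹ * z (a', b') * u⁻¹⁻¹ = z (a', b') := by
          have := comm_conj huj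
          calc u⁻¹ * z (a', b') * u⁻¹⁻¹ = u⁻¹ * (u * z (a', b') * u⁻¹) * u := by rw [this]; group
            _ = z (a', b') := by group
        exact (h.eqOp (inv_mem huM) H e1 e2).1 rfl
      exact h5 ⟨t_ne a a' ha, hb⟩
  exact h.comm_all ha hb h1 h2 h3 huj k

/-- equivariance of `D` -/
theorem eqD {m : G} (hm : m ∈ M) {i j : Fin 3 × Fin 3} (hij : m * z i * m⁻¹ = z j) {d : G}
    (hd : d ∈ D Q Qs i) : m * d * m⁻¹ ∈ D Q Qs j := by
  obtain ⟨hd1, hd2⟩ := mem_D.1 hd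
  refine mem_D.2 ⟨h.eqQ m hm i j hij d hd1, fun y hy => ?_⟩
  have hji : m⁻¹ * z j * m⁻¹⁻¹ = z i := by rw [← hij]; group
  have hy' := h.eqQs m⁻¹ (inv_mem hm) j i hji y hy
  have e := hd2 _ hy'
  calc m * d * m⁻¹ * y = m * (d * (m⁻¹ * y * m⁻¹⁻¹)) * m⁻¹ := by group
    _ = m * (m⁻¹ * y * m⁻¹⁻¹ * d) * m⁻¹ := by rw [e]
    _ = y * (m * d * m⁻¹) := by group

/-- `C(z i)` normalises `D i`. -/
theorem nD {i : Fin 3 × Fin 3} {c : G} (hc : c * z i = z i * c) {d : G} (hd : d ∈ D Q Qs i) :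
    c * d * c⁻¹ ∈ D Q Qs i := by
  obtain ⟨hd1, hd2⟩ := mem_D.1 hd
  refine mem_D.2 ⟨h.nQ i c hc d hd1, fun y hy => ?_⟩
  have hc' : c⁻¹ * z i = z i * c⁻¹ := by
    rw [inv_mul_eq_iff_eq_mul, ← mul_assoc, hc, mul_assoc, mul_inv_cancel, mul_one]
  have hy' := h.nQs i c⁻¹ hc' y hy
  have e := hd2 _ hy'
  calc c * d * c⁻¹ * y = c * (d * (c⁻¹ * y * c⁻¹⁻¹)) * c⁻¹ := by group
    _ = c * (c⁻¹ * y * c⁻¹⁻¹ * d) * c⁻¹ := by rw [e]
    _ = y * (c * d * c⁻¹) := by group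

/-- `Qs i` is transitive on the points opposite to `i`. -/
theorem move {i j k : Fin 3 × Fin 3} (hij : op i j) (hik : op i k) :
    ∃ u ∈ Qs i, u * z j * u⁻¹ = z k := by
  obtain ⟨a, b⟩ := i
  obtain ⟨a', b'⟩ := j
  obtain ⟨c, d⟩ := k
  obtain ⟨u, hu, hu1⟩ := h.sr a b
  obtain ⟨v, hv, hv1⟩ := h.sc a b
  have hc : c = a' ∨ c = t a a' := by
    rcases three a a' c hij.1 with e | e | e
    · exact absurd e.symm hik.1
    · exact Or.inl e
    · exact Or.inr e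
  have hd : d = b' ∨ d = t b b' := by
    rcases three b b' d hij.2 with e | e | e
    · exact absurd e.symm hik.2
    · exact Or.inl e
    · exact Or.inr e
  rcases hc with rfl | rfl <;> rcases hd with rfl | rfl
  · exact ⟨1, one_mem _, by group⟩
  · exact ⟨u, hu, hu1 _ _⟩
  · exact ⟨v, hv, hv1 _ _⟩
  · refine ⟨v * u, mul_mem hv hu, ?_⟩
    calc v * u * z (a', b') * (v * u)⁻¹ = v * (u * z (a', b') * u⁻¹) * v⁻¹ := by group
      _ = z (t a a', t b b') := by rw [hu1, hv1]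

/-- (1) -/
theorem le_all {i j : Fin 3 × Fin 3} (hij : op i j) {y : G} (h1 : y ∈ D Q Qs i)
    (h2 : y ∈ D Q Qs j) (k : Fin 3 × Fin 3) : y ∈ D Q Qs k := by
  have nb : ∀ k₁ k₂ k₃, y ∈ D Q Qs k₁ → y ∈ D Q Qs k₂ → op k₁ k₂ → op k₁ k₃ → y ∈ D Q Qs k₃ := by
    intro k₁ k₂ k₃ m1 m2 o2 o3
    obtain ⟨u, hu, hu1⟩ := h.move o2 o3
    have h3 := h.eqD (h.QsM _ hu) hu1 m2
    rwa [comm_conj ((mem_D.1 m1).2 u hu).symm] at h3
  obtain ⟨l, o1, o2⟩ := op_mid i k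
  have hl := nb i j l h1 h2 hij o1
  exact nb l i k hl h1 (op_symm o1) o2

/-- (1) `D i ∩ D j = 1` -/
theorem disj {i j : Fin 3 × Fin 3} (hij : op i j) {y : G} (h1 : y ∈ D Q Qs i)
    (h2 : y ∈ D Q Qs j) : y = 1 := by
  by_contra hy
  have hY : z i ∈ ⨅ k, D Q Qs k := by
    refine h.min i (⨅ k, D Q Qs k) ((iInf_le _ i).trans inf_le_left) ?_ ?_
    · intro m hm _ y hy
      rw [mem_iInf] at hy ⊢
      intro k
      obtain ⟨k', hk'⟩ := h.perm m⁻¹ (inv_mem hm) k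
      refine h.eqD hm ?_ (hy k')
      rw [← hk']; group
    · intro e
      apply hy
      have : y ∈ ⨅ k, D Q Qs k := mem_iInf.2 fun k => h.le_all hij h1 h2 k
      rwa [e, mem_bot] at this
  rw [mem_iInf] at hY
  obtain ⟨u, hu, hu1⟩ := h.sr j.1 j.2
  have h3 := hu1 i.1 i.2
  rw [comm_conj ((mem_D.1 (hY (j.1, j.2))).2 u hu).symm] at h3
  have h4 := congrArg Prod.snd (h.inj h3)
  exact t_ne j.2 i.2 (Ne.symm hij.2) h4.symm

/-- (1) `[D i, D j] = 1` -/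
theorem DD_comm {i j : Fin 3 × Fin 3} (hij : op i j) {a b : G} (ha : a ∈ D Q Qs i)
    (hb : b ∈ D Q Qs j) : a * b = b * a := by
  have h1 : a * b * a⁻¹ * b⁻¹ ∈ D Q Qs j :=
    mul_mem (h.nD (h.D_comm_z ha j) hb) (inv_mem hb)
  have h2 : a * b * a⁻¹ * b⁻¹ ∈ D Q Qs i := by
    have e : a * b * a⁻¹ * b⁻¹ = a * (b * a⁻¹ * b⁻¹) := by group
    rw [e]
    exact mul_mem ha (h.nD (h.D_comm_z hb i) (inv_mem ha))
  have h3 := h.disj hij h2 h1
  rw [mul_inv_eq_one, mul_inv_eq_iff_eq_mul] at h3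
  exact h3

/-- (2) two points of a row -/
theorem row_of {a b b' : Fin 3} (hb : b ≠ b') {y : G} (h1 : y ∈ D Q Qs (a, b))
    (h2 : y ∈ D Q Qs (a, b')) : y ∈ Rw Q Qs a := by
  rw [mem_Rw]
  intro x
  rcases three b b' x hb with e | e | e
  · rw [e]; exact h1
  · rw [e]; exact h2
  · obtain ⟨u, hu, hu1⟩ := h.sr a b
    have h3 := h.eqD (h.QsM _ hu) (hu1 a b') h2
    rw [comm_conj ((mem_D.1 h1).2 u hu).symm] at h3
    rw [e]; exact h3

theorem col_of {a a' b : Fin 3} (ha : a ≠ a') {y : G} (h1 : y ∈ D Q Qs (a, b))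
    (h2 : y ∈ D Q Qs (a', b)) : y ∈ Cl Q Qs b :=
  h.tp.row_of (a := b) ha h1 h2

theorem row_col {a b : Fin 3} {y : G} (h1 : y ∈ Rw Q Qs a) (h2 : y ∈ Cl Q Qs b) : y = 1 := by
  obtain ⟨a', ha⟩ := ex_ne a
  obtain ⟨b', hb⟩ := ex_ne b
  exact h.disj (i := (a, b')) (j := (a', b)) ⟨ha, hb.symm⟩ (mem_Rw.1 h1 b') (mem_Cl.1 h2 a')

theorem row_col_comm {a b : Fin 3} {y w : G} (h1 : y ∈ Rw Q Qs a) (h2 : w ∈ Cl Q Qs b) :
    y * w = w * y := by
  obtain ⟨a', ha⟩ := ex_ne a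
  obtain ⟨b', hb⟩ := ex_ne b
  exact h.DD_comm (i := (a, b')) (j := (a', b)) ⟨ha, hb.symm⟩ (mem_Rw.1 h1 b') (mem_Cl.1 h2 a')

theorem row_row {a a' : Fin 3} (ha : a ≠ a') {y : G} (h1 : y ∈ Rw Q Qs a) (h2 : y ∈ Rw Q Qs a') :
    y = 1 :=
  h.disj (i := (a, 0)) (j := (a', 1)) ⟨ha, show (0 : Fin 3) ≠ 1 by decide⟩ (mem_Rw.1 h1 0)
    (mem_Rw.1 h2 1)

/-- the product `Rw a · Cl b` -/
def J (a b : Fin 3) : Subgroup G where
  carrier := {x | ∃ y ∈ Rw Q Qs a, ∃ w ∈ Cl Q Qs b, x = y * w}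
  one_mem' := ⟨1, one_mem _, 1, one_mem _, by group⟩
  mul_mem' := by
    rintro _ _ ⟨y, hy, w, hw, rfl⟩ ⟨y', hy', w', hw', rfl⟩
    refine ⟨y * y', mul_mem hy hy', w * w', mul_mem hw hw', ?_⟩
    calc y * w * (y' * w') = y * (w * y') * w' := by group
      _ = y * (y' * w) * w' := by rw [h.row_col_comm hy' hw]
      _ = y * y' * (w * w') := by group
  inv_mem' := by
    rintro _ ⟨y, hy, w, hw, rfl⟩
    refine ⟨y⁻¹, inv_mem hy, w⁻¹, inv_mem hw, ?_⟩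
    rw [mul_inv_rev, h.row_col_comm (inv_mem hy) (inv_mem hw)]

theorem mem_J {a b : Fin 3} {x : G} :
    x ∈ h.J a b ↔ ∃ y ∈ Rw Q Qs a, ∃ w ∈ Cl Q Qs b, x = y * w := Iff.rfl

/-- the stabiliser of a point normalises or swaps -/
theorem row_inv {a b : Fin 3} {m : G} (hm : m ∈ M) (hmz : m * z (a, b) = z (a, b) * m) {y : G}
    (hy : y ∈ Rw Q Qs a) : m * y * m⁻¹ ∈ Rw Q Qs a ∨ m * y * m⁻¹ ∈ Cl Q Qs b := by
  obtain ⟨b', hb⟩ := ex_ne b
  obtain ⟨⟨c, d⟩, hk⟩ := h.perm m hm (a, b')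
  have hfix := comm_conj hmz
  have hfix' : m⁻¹ * z (a, b) * m⁻¹⁻¹ = z (a, b) := by
    calc m⁻¹ * z (a, b) * m⁻¹⁻¹ = m⁻¹ * (m * z (a, b) * m⁻¹) * m := by rw [hfix]; group
      _ = z (a, b) := by group
  have hk' : m⁻¹ * z (c, d) * m⁻¹⁻¹ = z (a, b') := by rw [← hk]; group
  have o1 : ¬ op (a, b) (c, d) := fun H => (h.eqOp (inv_mem hm) H hfix' hk').1 rfl
  have hne : (a, b) ≠ (c, d) := by
    intro e
    rw [← e, ← hfix] at hk
    have := h.inj (mul_left_cancel (mul_right_cancel hk))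
    exact hb (congrArg Prod.snd this).symm
  have m1 := h.eqD hm hfix (mem_Rw.1 hy b)
  have m2 := h.eqD hm hk (mem_Rw.1 hy b')
  by_cases hac : a = c
  · subst hac
    exact Or.inl (h.row_of (fun e => hne (by rw [e])) m1 m2)
  · by_cases hbd : b = d
    · subst hbd
      exact Or.inr (h.col_of hac m1 m2)
    · exact absurd ⟨hac, hbd⟩ o1

theorem col_inv {a b : Fin 3} {m : G} (hm : m ∈ M) (hmz : m * z (a, b) = z (a, b) * m) {y : G}
    (hy : y ∈ Cl Q Qs b) : m * y * m⁻¹ ∈ Cl Q Qs b ∨ m * y * m⁻¹ ∈ Rw Q Qs a :=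
  h.tp.row_inv (a := b) (b := a) hm hmz hy

theorem z_mem_J {a b : Fin 3} {y : G} (hy : y ∈ Rw Q Qs a) (hy1 : y ≠ 1) : z (a, b) ∈ h.J a b := by
  have l1 : ∀ x ∈ Rw Q Qs a, x ∈ h.J a b := fun x hx => ⟨x, hx, 1, one_mem _, by group⟩
  have l2 : ∀ x ∈ Cl Q Qs b, x ∈ h.J a b := fun x hx => ⟨1, one_mem _, x, hx, by group⟩
  refine h.min (a, b) (h.J a b) ?_ ?_ ?_
  · rintro _ ⟨y, hy, w, hw, rfl⟩
    exact mul_mem (mem_D.1 (mem_Rw.1 hy b)).1 (mem_D.1 (mem_Cl.1 hw a)).1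
  · rintro m hm hmz _ ⟨y, hy, w, hw, rfl⟩
    have e : m * (y * w) * m⁻¹ = (m * y * m⁻¹) * (m * w * m⁻¹) := by group
    rw [e]
    refine mul_mem ?_ ?_
    · rcases h.row_inv hm hmz hy with h1 | h1
      · exact l1 _ h1
      · exact l2 _ h1
    · rcases h.col_inv hm hmz hw with h1 | h1
      · exact l2 _ h1
      · exact l1 _ h1
  · intro e
    have := l1 y hy
    rw [e, mem_bot] at this
    exact hy1 this

/-- the decomposition is unique -/
theorem uniq {a b : Fin 3} {y y' w w' : G} (hy : y ∈ Rw Q Qs a) (hy' : y' ∈ Rw Q Qs a)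
    (hw : w ∈ Cl Q Qs b) (hw' : w' ∈ Cl Q Qs b) (e : y * w = y' * w') : y = y' := by
  have h1 : y'⁻¹ * y = w' * w⁻¹ := by
    calc y'⁻¹ * y = y'⁻¹ * (y * w) * w⁻¹ := by group
      _ = w' * w⁻¹ := by rw [e]; group
  have h2 : y'⁻¹ * y = 1 := h.row_col (a := a) (b := b) (mul_mem (inv_mem hy') hy)
    (by rw [h1]; exact mul_mem hw' (inv_mem hw))
  exact (inv_mul_eq_one.1 h2).symm

theorem comp_row {a b b' : Fin 3} (_ : b ≠ b') {y y' w w' : G} (hy : y ∈ Rw Q Qs a)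
    (hy' : y' ∈ Rw Q Qs a) (hw : w ∈ Cl Q Qs b) (hw' : w' ∈ Cl Q Qs b') (e : z (a, b) = y * w)
    (e' : z (a, b') = y' * w') : y = y' := by
  obtain ⟨u, hu, hu1⟩ := h.sr a (t b b')
  have h1 : u * z (a, b) * u⁻¹ = z (a, b') := by rw [hu1, t_t']
  have h2 : u * y * u⁻¹ = y := comm_conj ((mem_D.1 (mem_Rw.1 hy (t b b'))).2 u hu).symm
  have h3 : u * w * u⁻¹ ∈ Cl Q Qs b' := by
    rw [mem_Cl]
    intro x
    refine h.eqD (h.QsM _ hu) (i := (x, b)) ?_ (mem_Cl.1 hw x)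
    rw [hu1, t_t']
  refine h.uniq hy hy' h3 hw' ?_
  rw [← e', ← h1, e]
  calc y * (u * w * u⁻¹) = (u * y * u⁻¹) * (u * w * u⁻¹) := by rw [h2]
    _ = u * (y * w) * u⁻¹ := by group

/-- (2) `Rw a = 1` -/
theorem Rw_bot {a₀ : Fin 3} {y₀ : G} (hy₀ : y₀ ∈ Rw Q Qs a₀) : y₀ = 1 := by
  by_contra hne
  -- all rows
  have all : ∀ a, ∃ y ∈ Rw Q Qs a, y ≠ 1 := by
    intro a
    by_cases ha : a = a₀
    · rw [ha]; exact ⟨y₀, hy₀, hne⟩
    obtain ⟨u, hu, hu1⟩ := h.sc (t a₀ a) 0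
    refine ⟨u * y₀ * u⁻¹, ?_, ?_⟩
    · rw [mem_Rw]
      intro b
      refine h.eqD (h.QsM _ hu) (i := (a₀, b)) ?_ (mem_Rw.1 hy₀ b)
      rw [hu1, t_t']
    · intro e
      apply hne
      calc y₀ = u⁻¹ * (u * y₀ * u⁻¹) * u := by group
        _ = 1 := by rw [e]; group
  have dec : ∀ a b, ∃ y ∈ Rw Q Qs a, ∃ w ∈ Cl Q Qs b, z (a, b) = y * w := by
    intro a b
    obtain ⟨y, hy, hy1⟩ := all a
    exact h.mem_J.1 (h.z_mem_J hy hy1)
  choose Y hY W hW hz using dec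
  have hYr : ∀ a b b', Y a b = Y a b' := by
    intro a b b'
    by_cases hb : b = b'
    · rw [hb]
    · exact h.comp_row hb (hY _ _) (hY _ _) (hW _ _) (hW _ _) (hz _ _) (hz _ _)
  have hWc : ∀ a a' b, W a b = W a' b := by
    intro a a' b
    by_cases ha : a = a'
    · rw [ha]
    · refine h.tp.comp_row (a := b) (b := a) (b' := a') ha (hW a b) (hW a' b) (hY a b) (hY a' b) ?_ ?_
      · rw [← h.row_col_comm (hY a b) (hW a b)]; exact hz a b
      · rw [← h.row_col_comm (hY a' b) (hW a' b)]; exact hz a' b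
  have hYsq : ∀ a b, Y a b * Y a b = 1 := by
    intro a b
    have e := h.sq (a, b)
    rw [hz a b] at e
    have e1 : Y a b * W a b * (Y a b * W a b) = (Y a b * Y a b) * (W a b * W a b) := by
      calc Y a b * W a b * (Y a b * W a b) = Y a b * (W a b * Y a b) * W a b := by group
        _ = Y a b * (Y a b * W a b) * W a b := by rw [h.row_col_comm (hY a b) (hW a b)]
        _ = _ := by group
    rw [e1] at e
    refine h.row_col (a := a) (b := b) (mul_mem (hY a b) (hY a b)) ?_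
    rw [eq_inv_of_mul_eq_one_left e]
    exact inv_mem (mul_mem (hW a b) (hW a b))
  have hprod : ∀ a, Y a 0 = (W 0 0 * W 0 1 * W 0 2)⁻¹ := by
    intro a
    have e : z (a, 0) * z (a, 1) * z (a, 2) = 1 := by
      rw [h.row a 0 1 (by decide)]
      exact h.sq (a, 2)
    rw [hz a 0, hz a 1, hz a 2, hYr a 1 0, hYr a 2 0, hWc a 0 0, hWc a 0 1, hWc a 0 2] at e
    have c0 := h.row_col_comm (hY a 0) (hW 0 0)
    have c1 := h.row_col_comm (hY a 0) (hW 0 1)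
    have s := hYsq a 0
    have e2 : Y a 0 * W 0 0 * (Y a 0 * W 0 1) * (Y a 0 * W 0 2) =
        Y a 0 * (W 0 0 * W 0 1 * W 0 2) := by
      calc Y a 0 * W 0 0 * (Y a 0 * W 0 1) * (Y a 0 * W 0 2) =
          Y a 0 * (W 0 0 * Y a 0) * (W 0 1 * Y a 0) * W 0 2 := by group
        _ = Y a 0 * (Y a 0 * W 0 0) * (Y a 0 * W 0 1) * W 0 2 := by rw [c0, c1]
        _ = (Y a 0 * Y a 0) * (W 0 0 * Y a 0) * W 0 1 * W 0 2 := by group
        _ = (Y a 0 * Y a 0) * (Y a 0 * W 0 0) * W 0 1 * W 0 2 := by rw [c0]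
        _ = Y a 0 * (W 0 0 * W 0 1 * W 0 2) := by rw [s]; group
    rw [e2] at e
    exact eq_inv_of_mul_eq_one_left e
  have h1 : Y 0 0 = Y 1 0 := (hprod 0).trans (hprod 1).symm
  have h2 : Y 0 0 = 1 := h.row_row (a := 0) (a' := 1) (by decide) (hY 0 0) (by
    rw [h1]; exact hY 1 0)
  have h3 : z (0, 0) = z (1, 0) := by
    rw [hz 0 0, hz 1 0, ← h1, hWc 0 1 0]
  exact absurd (congrArg Prod.fst (h.inj h3)) (by decide)

theorem Cl_bot {b : Fin 3} {y : G} (hy : y ∈ Cl Q Qs b) : y = 1 := h.tp.Rw_bot (a₀ := b) hy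

/-- (1), (2): `D i ∩ D j = 1` for all `i ≠ j`. -/
theorem disj_all {i j : Fin 3 × Fin 3} (hij : i ≠ j) {y : G} (h1 : y ∈ D Q Qs i)
    (h2 : y ∈ D Q Qs j) : y = 1 := by
  obtain ⟨a, b⟩ := i
  obtain ⟨a', b'⟩ := j
  by_cases ha : a = a'
  · subst ha
    exact h.Rw_bot (h.row_of (fun e => hij (by rw [e])) h1 h2)
  · by_cases hb : b = b'
    · subst hb
      exact h.Cl_bot (h.col_of ha h1 h2)
    · exact h.disj (i := (a, b)) (j := (a', b')) ⟨ha, hb⟩ h1 h2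

end DP

/-! ### The four opposite points -/

/-- the other points opposite to `i` -/
def k₀ (i j : Fin 3 × Fin 3) : Fin 3 × Fin 3 := (j.1, t i.2 j.2)

/-- the other points opposite to `i` -/
def l₀ (i j : Fin 3 × Fin 3) : Fin 3 × Fin 3 := (t i.1 j.1, j.2)

/-- the other points opposite to `i` -/
def m₀ (i j : Fin 3 × Fin 3) : Fin 3 × Fin 3 := (t i.1 j.1, t i.2 j.2)

theorem std_quad : ∀ i j : Fin 3 × Fin 3, op i j →
    (op i j ∧ op i (k₀ i j) ∧ op i (l₀ i j) ∧ op i (m₀ i j)) ∧ (j ≠ k₀ i j ∧ j ≠ l₀ i j ∧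
      j ≠ m₀ i j ∧ k₀ i j ≠ l₀ i j ∧ k₀ i j ≠ m₀ i j ∧ l₀ i j ≠ m₀ i j) := by decide

theorem std_all : ∀ i j n : Fin 3 × Fin 3, op i j → op i n →
    n = j ∨ n = k₀ i j ∨ n = l₀ i j ∨ n = m₀ i j := by decide

theorem quad_cases {i j k l m : Fin 3 × Fin 3} (hn : Qd op i j k l m) :
    (k = k₀ i j ∧ l = l₀ i j ∧ m = m₀ i j) ∨ (k = k₀ i j ∧ l = m₀ i j ∧ m = l₀ i j) ∨
    (k = l₀ i j ∧ l = k₀ i j ∧ m = m₀ i j) ∨ (k = l₀ i j ∧ l = m₀ i j ∧ m = k₀ i j) ∨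
    (k = m₀ i j ∧ l = k₀ i j ∧ m = l₀ i j) ∨ (k = m₀ i j ∧ l = l₀ i j ∧ m = k₀ i j) := by
  obtain ⟨⟨hij, hik, hil, him⟩, hjk, hjl, hjm, hkl, hkm, hlm⟩ := hn
  rcases std_all i j k hij hik with e1 | e1 | e1 | e1
  · exact absurd e1.symm hjk
  all_goals
    rcases std_all i j l hij hil with e2 | e2 | e2 | e2
    · exact absurd e2.symm hjl
    all_goals
      rcases std_all i j m hij him with e3 | e3 | e3 | e3
      · exact absurd e3.symm hjm
      all_goals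
        first
        | exact absurd (e1.trans e2.symm) hkl
        | exact absurd (e1.trans e3.symm) hkm
        | exact absurd (e2.trans e3.symm) hlm
        | simp [e1, e2, e3]

namespace DP

variable {M : Subgroup G} {z : Fin 3 × Fin 3 → G} {Q Qs : Fin 3 × Fin 3 → Subgroup G}
variable (h : DP M z Q Qs)
include h

theorem std_prod {i j : Fin 3 × Fin 3} (hij : op i j) :
    z j * z (k₀ i j) * z (l₀ i j) * z (m₀ i j) = z i := by
  obtain ⟨a, b⟩ := i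
  obtain ⟨a', b'⟩ := j
  obtain ⟨ha, hb⟩ := hij
  simp only at ha hb
  have e1 : z (a', b') * z (a', t b b') = z (a', b) := by
    rw [h.row a' b' (t b b') (Ne.symm (t_ne b b' hb)), t_symm b b', t_t]
  have e2 : z (t a a', b') * z (t a a', t b b') = z (t a a', b) := by
    rw [h.row (t a a') b' (t b b') (Ne.symm (t_ne b b' hb)), t_symm b b', t_t]
  have e3 : z (a', b) * z (t a a', b) = z (a, b) := by
    rw [h.col b a' (t a a') (Ne.symm (t_ne a a' ha)), t_symm a a', t_t]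
  show z (a', b') * z (a', t b b') * z (t a a', b') * z (t a a', t b b') = z (a, b)
  rw [mul_assoc, e1, e2, e3]

theorem std_swap {i j : Fin 3 × Fin 3} :
    (∃ u ∈ Qs i, u * z j * u⁻¹ = z (k₀ i j) ∧ u * z (k₀ i j) * u⁻¹ = z j ∧
      u * z (l₀ i j) * u⁻¹ = z (m₀ i j) ∧ u * z (m₀ i j) * u⁻¹ = z (l₀ i j)) ∧
    (∃ u ∈ Qs i, u * z j * u⁻¹ = z (l₀ i j) ∧ u * z (l₀ i j) * u⁻¹ = z j ∧
      u * z (k₀ i j) * u⁻¹ = z (m₀ i j) ∧ u * z (m₀ i j) * u⁻¹ = z (k₀ i j)) ∧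
    (∃ u ∈ Qs i, u * z j * u⁻¹ = z (m₀ i j) ∧ u * z (m₀ i j) * u⁻¹ = z j ∧
      u * z (k₀ i j) * u⁻¹ = z (l₀ i j) ∧ u * z (l₀ i j) * u⁻¹ = z (k₀ i j)) := by
  obtain ⟨a, b⟩ := i
  obtain ⟨a', b'⟩ := j
  obtain ⟨u, hu, hu1⟩ := h.sr a b
  obtain ⟨v, hv, hv1⟩ := h.sc a b
  have huv : ∀ x y, u * v * z (x, y) * (u * v)⁻¹ = z (t a x, t b y) := by
    intro x y
    calc u * v * z (x, y) * (u * v)⁻¹ = u * (v * z (x, y) * v⁻¹) * u⁻¹ := by group
      _ = z (t a x, t b y) := by rw [hv1, hu1]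
  refine ⟨⟨u, hu, ?_⟩, ⟨v, hv, ?_⟩, ⟨u * v, mul_mem hu hv, ?_⟩⟩
  · simp only [k₀, l₀, m₀, hu1, t_t, and_self]
  · simp only [k₀, l₀, m₀, hv1, t_t, and_self]
  · simp only [k₀, l₀, m₀, huv, t_t, and_self]

/-- The points with their opposite relation satisfy the hypotheses of `QuadPts`. -/
theorem toQZ : QZ M z Q Qs op where
  inj := h.inj
  ne_one := h.ne_one
  sq := h.sq
  comm := h.comm
  QM := h.QM
  perm := h.perm
  eqQ := h.eqQ
  eqQs := h.eqQs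
  nQ := h.nQ
  nQs := h.nQs
  le := h.le
  zmem := h.zmem
  Qz := h.Qz
  comQ := h.comQ
  irr i hi := hi.1 rfl
  symm i j hij := op_symm hij
  eqOp m hm i j i' j' hij hi hj := h.eqOp hm hij hi hj
  ex j := by
    obtain ⟨i, hi, -⟩ := op_mid j j
    exact ⟨i, op_symm hi⟩
  four i j hij := ⟨_, _, _, std_quad i j hij⟩
  all i j k l m n hn hin := by
    rcases std_all i j n hn.1.1 hin with e | e | e | e
    · exact Or.inl e
    all_goals
      rcases quad_cases hn with ⟨e1, e2, e3⟩ | ⟨e1, e2, e3⟩ | ⟨e1, e2, e3⟩ | ⟨e1, e2, e3⟩ |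
        ⟨e1, e2, e3⟩ | ⟨e1, e2, e3⟩ <;> simp [e, e1, e2, e3]
  prod i j k l m hn := by
    have s := h.std_prod hn.1.1
    have e1 : ∀ a b c, z j * z a * z b * z c = z j * z a * z c * z b := by
      intro a b c
      rw [mul_assoc, h.comm b c, ← mul_assoc]
    have e2 : ∀ a b c, z j * z a * z b * z c = z j * z b * z a * z c := by
      intro a b c
      rw [mul_assoc (z j), h.comm a b, ← mul_assoc]
    rcases quad_cases hn with ⟨rfl, rfl, rfl⟩ | ⟨rfl, rfl, rfl⟩ | ⟨rfl, rfl, rfl⟩ |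
      ⟨rfl, rfl, rfl⟩ | ⟨rfl, rfl, rfl⟩ | ⟨rfl, rfl, rfl⟩
    · exact s
    · rw [e1]; exact s
    · rw [e2]; exact s
    · rw [e1, e2]; exact s
    · rw [e2, e1]; exact s
    · rw [e1, e2, e1]; exact s
  swap i j k l m hn := by
    obtain ⟨⟨u, hu, u1, u2, u3, u4⟩, ⟨v, hv, v1, v2, v3, v4⟩, ⟨w, hw, w1, w2, w3, w4⟩⟩ :=
      h.std_swap (i := i) (j := j)
    rcases quad_cases hn with ⟨rfl, rfl, rfl⟩ | ⟨rfl, rfl, rfl⟩ | ⟨rfl, rfl, rfl⟩ |
      ⟨rfl, rfl, rfl⟩ | ⟨rfl, rfl, rfl⟩ | ⟨rfl, rfl, rfl⟩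
    · exact ⟨u, hu, u1, u2, u3, u4⟩
    · exact ⟨u, hu, u1, u2, u4, u3⟩
    · exact ⟨v, hv, v1, v2, v3, v4⟩
    · exact ⟨v, hv, v1, v2, v4, v3⟩
    · exact ⟨w, hw, w1, w2, w3, w4⟩
    · exact ⟨w, hw, w1, w2, w4, w3⟩
  rg i j k u hij _ hu huj := h.reg hij hu huj k
  fix i d hd j := h.D_comm_z hd j
  dis i j hij y h1 h2 := h.disj_all hij h1 h2
  min := h.min

/-- THEOREM D0+: `C_{Q i}(Qs i) = ⟨z i⟩` -/
theorem D_eq {i : Fin 3 × Fin 3} {d : G} (hd : d ∈ D Q Qs i) : d = 1 ∨ d = z i := h.toQZ.D_eq hd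

open Cfsg.Agent.Co2Type.Quad in
/-- THEOREM D0+: `Q i` is large extraspecial. -/
theorem large (i : Fin 3 × Fin 3)
    (self : ∀ g, g * z i = z i * g → (∀ x ∈ Q i, g * x = x * g) → g ∈ Q i) :
    Large (Q i) (z i) := h.toQZ.large i self

end DP

end Cfsg.Agent.Omega.NOne.DPlus
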