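import Cfsg.Agent.Omega.NOne.DPlus
import Cfsg.Agent.Omega.NOne.DZeroPts

/-!
# NO-1, THEOREM D0+ (#12107, #12381): the instance (helper537)

`G` of characteristic 2 type, `S` a Sylow 2-subgroup with `Ω₁ Z(S) = ⟨z (0, 0)⟩`, `S ≤ M ≤ N(V)`,
`V = N₁ ⊗ N₂` of order 16 with the nine singular vectors `z (a, b) = a ⊗ b` permuted by `M`, `M`
inducing at least `S₃ × S₃` (`V = O₄⁺(2)`-module).  If `V ≰ O₂(C(z (0, 0)))` and `O₂(C(z (0, 0)))`
induces exactly `U U' = ⟨t_a⟩ × ⟨t_b⟩` on `V`, then `O₂(C(z (0, 0)))` is extraspecial: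
`Large (o2 (centralizer {z (0, 0)})) (z (0, 0))`.

The preamble is helper746's shortcut (S1) of #13123: `V` would stabilise `Q > Q* > Z(Q*) > 1`.
-/

set_option autoImplicit false

namespace Cfsg.Agent.Omega.NOne.DPlusPts

open Subgroup Cfsg Cfsg.Agent.ZN
open Cfsg.Agent.MinSimple.VModule (o2_isPGroup)
open Cfsg.Agent.Omega.NOne.QuadPts (conj_comm comm_conj)
open Cfsg.Agent.Omega.NOne.DZeroPts (CC QQ mem_CC CC_eq QQ_conj conj_mem_iff mem_CC_conj mem_QQ_conj
  QQ_le QQ_norm z_mem_QQ)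
open Cfsg.Agent.Omega.NOne.DPlus
open scoped Pointwise

universe u

variable {G : Type u} [Group G]

theorem inv_comm {c x : G} (hc : c * x = x * c) : c⁻¹ * x = x * c⁻¹ := by
  rw [inv_mul_eq_iff_eq_mul, ← mul_assoc, hc, mul_assoc, mul_inv_cancel, mul_one]

/-- The stabiliser of a chain `O₂(C(x)) ≥ R ≥ Z ≥ 1` lies in `O₂(C(x))`. -/
theorem chain3 [Finite G] {x : G} {R Z : Subgroup G}
    (char2 : ∀ g, g * x = x * g → (∀ y ∈ QQ x, g * y = y * g) → g ∈ QQ x)
    (hR : R ≤ QQ x) (hZR : Z ≤ R)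
    (nR : ∀ c, c * x = x * c → ∀ y ∈ R, c * y * c⁻¹ ∈ R)
    (nZ : ∀ c, c * x = x * c → ∀ y ∈ Z, c * y * c⁻¹ ∈ Z)
    {v : G} (hv : v * x = x * v) (h1 : ∀ q ∈ QQ x, v * q * v⁻¹ * q⁻¹ ∈ R)
    (h2 : ∀ u ∈ R, v * u * v⁻¹ * u⁻¹ ∈ Z) (h3 : ∀ w ∈ Z, v * w = w * v) : v ∈ QQ x := by
  let B : Subgroup G :=
    { carrier := {g | g ∈ CC x ∧ (∀ q ∈ QQ x, g * q * g⁻¹ * q⁻¹ ∈ R) ∧
        (∀ u ∈ R, g * u * g⁻¹ * u⁻¹ ∈ Z) ∧ ∀ w ∈ Z, g * w = w * g}
      one_mem' := ⟨one_mem _, fun u _ => by simp, fun q _ => by simp, fun w _ => by simp⟩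
      mul_mem' := by
        rintro a b ⟨ha0, ha1, ha2, ha3⟩ ⟨hb0, hb1, hb2, hb3⟩
        refine ⟨mul_mem ha0 hb0, fun q hq => ?_, fun u hu => ?_, fun w hw => ?_⟩
        · have e : a * b * q * (a * b)⁻¹ * q⁻¹ =
              (a * (b * q * b⁻¹ * q⁻¹) * a⁻¹) * (a * q * a⁻¹ * q⁻¹) := by group
          rw [e]
          exact mul_mem (nR a (mem_CC.1 ha0) _ (hb1 q hq)) (ha1 q hq)
        · have e : a * b * u * (a * b)⁻¹ * u⁻¹ =
              (a * (b * u * b⁻¹ * u⁻¹) * a⁻¹) * (a * u * a⁻¹ * u⁻¹) := by group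
          rw [e]
          exact mul_mem (nZ a (mem_CC.1 ha0) _ (hb2 u hu)) (ha2 u hu)
        · calc a * b * w = a * (b * w) := by group
            _ = (a * w) * b := by rw [hb3 w hw]; group
            _ = w * (a * b) := by rw [ha3 w hw]; group
      inv_mem' := by
        rintro a ⟨ha0, ha1, ha2, ha3⟩
        have hai := inv_comm (mem_CC.1 ha0)
        refine ⟨inv_mem ha0, fun q hq => ?_, fun u hu => ?_, fun w hw => inv_comm (ha3 w hw)⟩
        · have e : a⁻¹ * q * a⁻¹⁻¹ * q⁻¹ = a⁻¹ * (a * q * a⁻¹ * q⁻¹)⁻¹ * a⁻¹⁻¹ := by group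
          rw [e]
          exact nR _ hai _ (inv_mem (ha1 q hq))
        · have e : a⁻¹ * u * a⁻¹⁻¹ * u⁻¹ = a⁻¹ * (a * u * a⁻¹ * u⁻¹)⁻¹ * a⁻¹⁻¹ := by group
          rw [e]
          exact nZ _ hai _ (inv_mem (ha2 u hu)) }
  have pR : IsPGroup 2 R := (o2_isPGroup (CC x)).to_le hR
  have pZ : IsPGroup 2 Z := pR.to_le hZR
  have hB : B ≤ QQ x := by
    refine le_o2 (fun g hg => hg.1) ?_ ?_
    · rintro ⟨g, hg⟩
      obtain ⟨hg0, hg1, hg2, hg3⟩ := hg
      obtain ⟨k, hk⟩ := LemmaT.exists_pow_comm pZ hg3 hg2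
      have hgB : g ^ 2 ^ k ∈ B := pow_mem (show g ∈ B from ⟨hg0, hg1, hg2, hg3⟩) _
      obtain ⟨l, hl⟩ := LemmaT.exists_pow_comm pR hk hgB.2.1
      have h5 : (g ^ 2 ^ k) ^ 2 ^ l ∈ QQ x :=
        char2 _ (mem_CC.1 (pow_mem hgB.1 _)) hl
      obtain ⟨n, hn⟩ := LemmaT.exists_pow_eq_one (o2_isPGroup (CC x))
      refine ⟨k + l + n, Subtype.ext ?_⟩
      change g ^ 2 ^ (k + l + n) = 1
      rw [pow_add, pow_add, pow_mul, pow_mul]
      exact hn _ h5
    · have key : ∀ c ∈ CC x, ∀ g ∈ B, c * g * c⁻¹ ∈ B := by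
        rintro c hc g ⟨hg0, hg1, hg2, hg3⟩
        have hc' := mem_CC.1 hc
        have hci := inv_comm hc'
        refine ⟨mul_mem (mul_mem hc hg0) (inv_mem hc), fun q hq => ?_, fun u hu => ?_,
          fun w hw => ?_⟩
        · have h6 := nR c hc' _ (hg1 _ (QQ_norm hci hq))
          have e : c * g * c⁻¹ * q * (c * g * c⁻¹)⁻¹ * q⁻¹ =
              c * (g * (c⁻¹ * q * c⁻¹⁻¹) * g⁻¹ * (c⁻¹ * q * c⁻¹⁻¹)⁻¹) * c⁻¹ := by group
          rw [e]; exact h6
        · have h6 := nZ c hc' _ (hg2 _ (nR _ hci u hu))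
          have e : c * g * c⁻¹ * u * (c * g * c⁻¹)⁻¹ * u⁻¹ =
              c * (g * (c⁻¹ * u * c⁻¹⁻¹) * g⁻¹ * (c⁻¹ * u * c⁻¹⁻¹)⁻¹) * c⁻¹ := by group
          rw [e]; exact h6
        · have h6 := hg3 _ (nZ _ hci w hw)
          calc c * g * c⁻¹ * w = c * (g * (c⁻¹ * w * c⁻¹⁻¹)) * c⁻¹ := by group
            _ = c * ((c⁻¹ * w * c⁻¹⁻¹) * g) * c⁻¹ := by rw [h6]
            _ = w * (c * g * c⁻¹) := by group
      intro c hc
      rw [mem_normalizer_iff]
      intro g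
      refine ⟨key c hc g, fun hg => ?_⟩
      have h6 := key c⁻¹ (inv_mem hc) _ hg
      have e : c⁻¹ * (c * g * c⁻¹) * c⁻¹⁻¹ = g := by group
      rwa [e] at h6
  exact hB ⟨mem_CC.2 hv, h1, h2, h3⟩

/-- `m` acts on the grid as `(x, y) ↦ (f x, g y)`. -/
def Act (z : Fin 3 × Fin 3 → G) (m : G) (f g : Fin 3 → Fin 3) : Prop :=
  ∀ x y, m * z (x, y) * m⁻¹ = z (f x, g y)

theorem Act.mul {z : Fin 3 × Fin 3 → G} {m n : G} {f g f' g' : Fin 3 → Fin 3} (h : Act z m f g)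
    (h' : Act z n f' g') : Act z (m * n) (fun x => f (f' x)) (fun y => g (g' y)) := by
  intro x y
  calc m * n * z (x, y) * (m * n)⁻¹ = m * (n * z (x, y) * n⁻¹) * m⁻¹ := by group
    _ = _ := by rw [h', h]

theorem Act.inv {z : Fin 3 × Fin 3 → G} {m : G} {σ τ : Equiv.Perm (Fin 3)} (h : Act z m σ τ) :
    Act z m⁻¹ (fun x => σ.symm x) (fun y => τ.symm y) := by
  intro x y
  have h1 := h (σ.symm x) (τ.symm y)
  rw [σ.apply_symm_apply, τ.apply_symm_apply] at h1
  rw [← h1]; group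

theorem perm_t : ∀ σ : Equiv.Perm (Fin 3), ∀ a x, σ (t a (σ.symm x)) = t (σ a) x := by decide

theorem ex_perm : ∀ a b : Fin 3, ∃ σ : Equiv.Perm (Fin 3), σ a = b := by decide

/-- The nine singular vectors of an `O₄⁺(2)`-module with `M` inducing at least `S₃ × S₃`. -/
structure Pts (M V : Subgroup G) (z : Fin 3 × Fin 3 → G) : Prop where
  mem : ∀ i, z i ∈ V
  gen : V ≤ closure (Set.range z)
  grid : Grid z
  perm : ∀ m ∈ M, ∀ i, ∃ j, m * z i * m⁻¹ = z j
  big : ∀ σ τ : Equiv.Perm (Fin 3), ∃ m ∈ M, Act z m σ τ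

theorem Pts.eqOp {M V : Subgroup G} {z : Fin 3 × Fin 3 → G} (h : Pts M V z) {m : G} (hm : m ∈ M)
    {i j i' j' : Fin 3 × Fin 3} (hij : op i j) (hi : m * z i * m⁻¹ = z i')
    (hj : m * z j * m⁻¹ = z j') : op i' j' :=
  h.grid.eqOp (h.perm m⁻¹ (inv_mem hm)) hij hi hj

/-- `V` is abelian -/
theorem Pts.abel {M V : Subgroup G} {z : Fin 3 × Fin 3 → G} (h : Pts M V z) {v w : G} (hv : v ∈ V)
    (hw : w ∈ V) : v * w = w * v := by
  have h1 : ∀ v ∈ closure (Set.range z), ∀ i, v * z i = z i * v := by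
    intro v hv i
    induction hv using closure_induction with
    | mem x hx => obtain ⟨j, rfl⟩ := hx; exact h.grid.comm j i
    | one => simp
    | mul a b _ _ ha hb =>
      calc a * b * z i = a * (b * z i) := by group
        _ = (a * z i) * b := by rw [hb]; group
        _ = z i * (a * b) := by rw [ha]; group
    | inv a _ ha => exact inv_comm ha
  have hw' := h.gen hw
  have hv' := h.gen hv
  clear hv hw
  induction hw' using closure_induction with
  | mem x hx => obtain ⟨j, rfl⟩ := hx; exact h1 v hv' j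
  | one => simp
  | mul a b _ _ ha hb =>
    calc v * (a * b) = (v * a) * b := by group
      _ = a * (v * b) := by rw [ha]; group
      _ = a * b * v := by rw [hb]; group
  | inv a _ ha => exact (inv_comm ha.symm).symm

/-- `⟨(z i)^⊥ ^ C(z i)⟩` -/
def QS (z : Fin 3 × Fin 3 → G) (i : Fin 3 × Fin 3) : Subgroup G :=
  closure {y | ∃ c ∈ CC (z i), ∃ j, ¬ op i j ∧ y = c * z j * c⁻¹}

theorem mem_QS {z : Fin 3 × Fin 3 → G} {i j : Fin 3 × Fin 3} (hij : ¬ op i j) : z j ∈ QS z i :=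
  subset_closure ⟨1, one_mem _, j, hij, by group⟩

theorem QS_norm {z : Fin 3 × Fin 3 → G} {i : Fin 3 × Fin 3} {c x : G} (hc : c * z i = z i * c)
    (hy : x ∈ QS z i) : c * x * c⁻¹ ∈ QS z i := by
  unfold QS at hy ⊢
  induction hy using closure_induction with
  | mem y hy =>
    obtain ⟨d, hd, j, hj, rfl⟩ := hy
    exact subset_closure ⟨c * d, mul_mem (mem_CC.2 hc) hd, j, hj, by group⟩
  | one => simp
  | mul a b _ _ ha hb =>
    have e : c * (a * b) * c⁻¹ = (c * a * c⁻¹) * (c * b * c⁻¹) := by group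
    rw [e]; exact mul_mem ha hb
  | inv a _ ha =>
    have e : c * a⁻¹ * c⁻¹ = (c * a * c⁻¹)⁻¹ := by group
    rw [e]; exact inv_mem ha

theorem QS_conj {M V : Subgroup G} {z : Fin 3 × Fin 3 → G} (h : Pts M V z) {m : G} (hm : m ∈ M)
    {i i' : Fin 3 × Fin 3} (hi : m * z i * m⁻¹ = z i') {y : G} (hy : y ∈ QS z i) :
    m * y * m⁻¹ ∈ QS z i' := by
  unfold QS at hy
  induction hy using closure_induction with
  | mem y hy =>
    obtain ⟨c, hc, j, hj, rfl⟩ := hy
    obtain ⟨j', hj'⟩ := h.perm m hm j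
    have hi' : m⁻¹ * z i' * m⁻¹⁻¹ = z i := by rw [← hi]; group
    have hj'' : m⁻¹ * z j' * m⁻¹⁻¹ = z j := by rw [← hj']; group
    refine subset_closure ⟨m * c * m⁻¹, ?_, j', fun H => hj (h.eqOp (inv_mem hm) H hi' hj''), ?_⟩
    · rw [← hi]; exact mem_CC_conj.2 hc
    · rw [← hj']; group
  | one => simp
  | mul a b _ _ ha hb =>
    have e : m * (a * b) * m⁻¹ = (m * a * m⁻¹) * (m * b * m⁻¹) := by group
    rw [e]; exact mul_mem ha hb
  | inv a _ ha =>
    have e : m * a⁻¹ * m⁻¹ = (m * a * m⁻¹)⁻¹ := by group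
    rw [e]; exact inv_mem ha

/-- local data at the point `z i` -/
structure Loc (M V : Subgroup G) (z : Fin 3 × Fin 3 → G) (T : Subgroup G) (i : Fin 3 × Fin 3) :
    Prop where
  TM : T ≤ M
  pg : IsPGroup 2 T
  cz : ∀ t ∈ T, t * z i = z i * t
  QT : QQ (z i) ≤ T
  Z : ∀ x ∈ T, (∀ s ∈ T, x * s = s * x) → x * x = 1 → x = 1 ∨ x = z i
  char2 : ∀ g, g * z i = z i * g → (∀ x ∈ QQ (z i), g * x = x * g) → g ∈ QQ (z i)
  VQ : ¬ V ≤ QQ (z i)
  act : ∀ q ∈ QQ (z i), Act z q id id ∨ Act z q id (t i.2) ∨ Act z q (t i.1) id ∨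
    Act z q (t i.1) (t i.2)
  ar : ∃ q ∈ QQ (z i), Act z q id (t i.2)
  ac : ∃ q ∈ QQ (z i), Act z q (t i.1) id

/-- transport of the local data -/
theorem Loc.conj {M V : Subgroup G} {z : Fin 3 × Fin 3 → G} {T : Subgroup G} {i : Fin 3 × Fin 3}
    (h : Loc M V z T i) (hMV : M ≤ normalizer (V : Set G)) {m : G} (hm : m ∈ M)
    {σ τ : Equiv.Perm (Fin 3)} (hz : Act z m σ τ) :
    Loc M V z (MulAut.conj m • T) (σ i.1, τ i.2) := by
  have hij : m * z i * m⁻¹ = z (σ i.1, τ i.2) := hz i.1 i.2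
  have hVm : ∀ {v}, v ∈ V ↔ m * v * m⁻¹ ∈ V := fun {v} => mem_normalizer_iff.1 (hMV hm) v
  have back : ∀ y : G, ∃ x, y = m * x * m⁻¹ := fun y => ⟨m⁻¹ * y * m, by group⟩
  have hcomm : ∀ {a b : G}, m * a * m⁻¹ * (m * b * m⁻¹) = m * b * m⁻¹ * (m * a * m⁻¹) ↔
      a * b = b * a := by
    intro a b
    have e1 : m * a * m⁻¹ * (m * b * m⁻¹) = m * (a * b) * m⁻¹ := by group
    have e2 : m * b * m⁻¹ * (m * a * m⁻¹) = m * (b * a) * m⁻¹ := by group
    rw [e1, e2]
    exact ⟨fun h => mul_left_cancel (mul_right_cancel h), fun h => by rw [h]⟩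
  have hQ : QQ (z (σ i.1, τ i.2)) = MulAut.conj m • QQ (z i) := by rw [← hij, QQ_conj]
  -- transport of actions
  have hact : ∀ {q : G} {f g f' g' : Fin 3 → Fin 3}, Act z q f g →
      (∀ x, σ (f (σ.symm x)) = f' x) → (∀ y, τ (g (τ.symm y)) = g' y) →
      Act z (m * q * m⁻¹) f' g' := by
    intro q f g f' g' hq hf hg x y
    have h1 := ((hz.mul hq).mul hz.inv) x y
    simp only [hf, hg] at h1
    exact h1
  have id1 : ∀ x, σ (id (σ.symm x)) = id x := fun x => σ.apply_symm_apply x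
  have id2 : ∀ x, τ (id (τ.symm x)) = id x := fun x => τ.apply_symm_apply x
  refine ⟨?_, ?_, ?_, ?_, ?_, ?_, ?_, ?_, ?_, ?_⟩
  · intro y hy
    obtain ⟨x, rfl⟩ := back y
    exact mul_mem (mul_mem hm (h.TM (conj_mem_iff.1 hy))) (inv_mem hm)
  · exact h.pg.map _
  · intro y hy
    obtain ⟨x, rfl⟩ := back y
    rw [← hij]
    exact hcomm.2 (h.cz x (conj_mem_iff.1 hy))
  · intro y hy
    obtain ⟨x, rfl⟩ := back y
    rw [hQ, conj_mem_iff] at hy
    exact conj_mem_iff.2 (h.QT hy)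
  · intro y hy hys hy2
    obtain ⟨x, rfl⟩ := back y
    have h1 : x * x = 1 := by
      calc x * x = m⁻¹ * (m * x * m⁻¹ * (m * x * m⁻¹)) * m := by group
        _ = 1 := by rw [hy2]; group
    rcases h.Z x (conj_mem_iff.1 hy) (fun s hs => hcomm.1 (hys _ (conj_mem_iff.2 hs))) h1 with
      rfl | rfl
    · left; group
    · right; exact hij
  · intro y hy hys
    obtain ⟨x, rfl⟩ := back y
    rw [← hij] at hy
    rw [hQ, conj_mem_iff]
    refine h.char2 x (hcomm.1 hy) fun w hw => hcomm.1 (hys _ ?_)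
    rw [hQ, conj_mem_iff]; exact hw
  · intro hV
    apply h.VQ
    intro v hv
    have h1 := hV (hVm.1 hv)
    rwa [hQ, conj_mem_iff] at h1
  · intro y hy
    obtain ⟨x, rfl⟩ := back y
    rw [hQ, conj_mem_iff] at hy
    rcases h.act x hy with h1 | h1 | h1 | h1
    · exact Or.inl (hact h1 id1 id2)
    · exact Or.inr (Or.inl (hact h1 id1 (perm_t τ i.2)))
    · exact Or.inr (Or.inr (Or.inl (hact h1 (perm_t σ i.1) id2)))
    · exact Or.inr (Or.inr (Or.inr (hact h1 (perm_t σ i.1) (perm_t τ i.2))))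
  · obtain ⟨q, hq, h1⟩ := h.ar
    exact ⟨m * q * m⁻¹, by rw [hQ]; exact conj_mem_iff.2 hq, hact h1 id1 (perm_t τ i.2)⟩
  · obtain ⟨q, hq, h1⟩ := h.ac
    exact ⟨m * q * m⁻¹, by rw [hQ]; exact conj_mem_iff.2 hq, hact h1 (perm_t σ i.1) id2⟩

section Facts

variable {M V : Subgroup G} {z : Fin 3 × Fin 3 → G}

/-- `z j z j' ∈ O₂(C(z i))` if `z j' = q z j q⁻¹`, `q ∈ O₂(C(z i))` -/
theorem comm_mem (h : Pts M V z) {i j j' : Fin 3 × Fin 3} {q : G} (hq : q ∈ QQ (z i))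
    (hj : q * z j * q⁻¹ = z j') : z j * z j' ∈ QQ (z i) := by
  have h1 : z j * q * (z j)⁻¹ ∈ QQ (z i) := QQ_norm (h.grid.comm j i) hq
  have e : z j * z j' = z j * q * (z j)⁻¹ * q⁻¹ := by
    rw [← hj, h.grid.zinv]; group
  rw [e]
  exact mul_mem h1 (inv_mem hq)

/-- the points perpendicular to `z i` are in `O₂(C(z i))` -/
theorem E_mem (h : Pts M V z) {T : Subgroup G} {i : Fin 3 × Fin 3} (hl : Loc M V z T i)
    {j : Fin 3 × Fin 3} (hij : ¬ op i j) : z j ∈ QQ (z i) := by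
  obtain ⟨a, b⟩ := i
  obtain ⟨c, d⟩ := j
  obtain ⟨q, hq, hq1⟩ := hl.ar
  obtain ⟨r, hr, hr1⟩ := hl.ac
  simp only at hq1 hr1
  by_cases hac : a = c
  · subst hac
    obtain ⟨a', ha⟩ := ex_ne a
    -- `z (a, d) = z (a', d) z (t a a', d)`
    have h1 := comm_mem h hr (hr1 a' d)
    have h2 : z (a', d) * z (t a a', d) = z (a, d) := by
      rw [h.grid.col d a' (t a a') (Ne.symm (t_ne a a' ha)), t_symm a a', t_t]
    rw [id, h2] at h1
    exact h1
  · by_cases hbd : b = d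
    · subst hbd
      obtain ⟨b', hb⟩ := ex_ne b
      have h1 := comm_mem h hq (hq1 c b')
      have h2 : z (c, b') * z (c, t b b') = z (c, b) := by
        rw [h.grid.row c b' (t b b') (Ne.symm (t_ne b b' hb)), t_symm b b', t_t]
      rw [id, h2] at h1
      exact h1
    · exact absurd ⟨hac, hbd⟩ hij

theorem QS_le (h : Pts M V z) {T : Subgroup G} {i : Fin 3 × Fin 3} (hl : Loc M V z T i) :
    QS z i ≤ QQ (z i) := by
  unfold QS
  rw [closure_le]
  rintro y ⟨c, hc, j, hj, rfl⟩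
  exact QQ_norm (mem_CC.1 hc) (E_mem h hl hj)

/-- `[O₂(C(z i)), z j] ≤ ⟨z i⟩` for `z j ⊥ z i` -/
theorem comm_E (h : Pts M V z) {T : Subgroup G} {i : Fin 3 × Fin 3} (hl : Loc M V z T i) {q : G}
    (hq : q ∈ QQ (z i)) {j : Fin 3 × Fin 3} (hij : ¬ op i j) :
    q * z j * q⁻¹ = z j ∨ q * z j * q⁻¹ = z i * z j := by
  obtain ⟨a, b⟩ := i
  obtain ⟨c, d⟩ := j
  have hr : ∀ y, z (a, t b y) = z (a, y) ∨ z (a, t b y) = z (a, b) * z (a, y) := by
    intro y
    by_cases hy : b = y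
    · subst hy; left; rw [t_self]
    · right; rw [h.grid.row a b y hy]
  have hc : ∀ x, z (t a x, b) = z (x, b) ∨ z (t a x, b) = z (a, b) * z (x, b) := by
    intro x
    by_cases hx : a = x
    · subst hx; left; rw [t_self]
    · right; rw [h.grid.col b a x hx]
  by_cases hac : a = c
  · subst hac
    rcases hl.act q hq with h1 | h1 | h1 | h1
    · left; exact h1 a d
    · rw [h1 a d]; exact hr d
    · left; rw [h1 a d]; simp only [id, t_self]
    · rw [h1 a d]; simp only [t_self]; exact hr d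
  · by_cases hbd : b = d
    · subst hbd
      rcases hl.act q hq with h1 | h1 | h1 | h1
      · left; exact h1 c b
      · left; rw [h1 c b]; simp only [id, t_self]
      · rw [h1 c b]; exact hc c
      · rw [h1 c b]; simp only [t_self]; exact hc c
    · exact absurd ⟨hac, hbd⟩ hij

/-- `[QS, O₂(C(z i))] ≤ ⟨z i⟩` -/
theorem comm_QS (h : Pts M V z) {T : Subgroup G} {i : Fin 3 × Fin 3} (hl : Loc M V z T i) {x : G}
    (hx : x ∈ QS z i) : ∀ y ∈ QQ (z i), x * y * x⁻¹ = y ∨ x * y * x⁻¹ = z i * y := by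
  have hzz := h.grid.sq i
  have hQz : ∀ y ∈ QQ (z i), y * z i = z i * y := fun y hy => hl.cz y (hl.QT hy)
  unfold QS at hx
  induction hx using closure_induction with
  | mem x hx =>
    obtain ⟨c, hc, j, hj, rfl⟩ := hx
    intro y hy
    have hc' := mem_CC.1 hc
    have hci := inv_comm hc'
    have hy' := QQ_norm hci hy
    have h1 := comm_E h hl hy' hj
    have h2 : z j * (c⁻¹ * y * c⁻¹⁻¹) * (z j)⁻¹ = c⁻¹ * y * c⁻¹⁻¹ ∨
        z j * (c⁻¹ * y * c⁻¹⁻¹) * (z j)⁻¹ = z i * (c⁻¹ * y * c⁻¹⁻¹) := by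
      rcases h1 with h1 | h1
      · left; exact comm_conj (conj_comm h1).symm
      · right
        have h3 : (c⁻¹ * y * c⁻¹⁻¹) * z j = z i * z j * (c⁻¹ * y * c⁻¹⁻¹) := by
          rw [← h1]; group
        have h4 : z j * (c⁻¹ * y * c⁻¹⁻¹) = z i * ((c⁻¹ * y * c⁻¹⁻¹) * z j) := by
          rw [h3]
          calc z j * (c⁻¹ * y * c⁻¹⁻¹) = 1 * (z j * (c⁻¹ * y * c⁻¹⁻¹)) := by rw [one_mul]
            _ = z i * z i * (z j * (c⁻¹ * y * c⁻¹⁻¹)) := by rw [hzz]
            _ = z i * (z i * z j * (c⁻¹ * y * c⁻¹⁻¹)) := by group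
        rw [h4]; group
    have e1 : c * z j * c⁻¹ * y * (c * z j * c⁻¹)⁻¹ =
        c * (z j * (c⁻¹ * y * c⁻¹⁻¹) * (z j)⁻¹) * c⁻¹ := by
      group
    rw [e1]
    rcases h2 with h2 | h2
    · left; rw [h2]; group
    · right
      rw [h2]
      calc c * (z i * (c⁻¹ * y * c⁻¹⁻¹)) * c⁻¹ = (c * z i) * (c⁻¹ * y) := by group
        _ = z i * y := by rw [hc']; group
  | one => intro y _; left; group
  | mul a b ha0 hb0 ha hb =>
    intro y hy
    have ha1 : a ∈ QQ (z i) := QS_le h hl ha0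
    have e : a * b * y * (a * b)⁻¹ = a * (b * y * b⁻¹) * a⁻¹ := by group
    rw [e]
    rcases hb y hy with h1 | h1
    · rw [h1]; exact ha y hy
    · rw [h1]
      have e2 : a * (z i * y) * a⁻¹ = z i * (a * y * a⁻¹) := by
        calc a * (z i * y) * a⁻¹ = (a * z i) * y * a⁻¹ := by group
          _ = z i * (a * y * a⁻¹) := by rw [hQz a ha1]; group
      rw [e2]
      rcases ha y hy with h2 | h2
      · right; rw [h2]
      · left; rw [h2, ← mul_assoc, hzz, one_mul]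
  | inv a ha0 ha =>
    intro y hy
    have ha1 : a ∈ QQ (z i) := QS_le h hl ha0
    rcases ha y hy with h1 | h1
    · left
      calc a⁻¹ * y * a⁻¹⁻¹ = a⁻¹ * (a * y * a⁻¹) * a := by rw [h1]; group
        _ = y := by group
    · right
      have h2 : a * (z i * y) * a⁻¹ = y := by
        calc a * (z i * y) * a⁻¹ = (a * z i) * y * a⁻¹ := by group
          _ = z i * (a * y * a⁻¹) := by rw [hQz a ha1]; group
          _ = y := by rw [h1, ← mul_assoc, hzz, one_mul]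
      calc a⁻¹ * y * a⁻¹⁻¹ = a⁻¹ * (a * (z i * y) * a⁻¹) * a := by rw [h2]; group
        _ = z i * y := by group

/-- `[O₂(C(z i)), z k] ≤ (z i)^⊥` -/
theorem comm_pt (h : Pts M V z) {T : Subgroup G} {i : Fin 3 × Fin 3} (hl : Loc M V z T i) {q : G}
    (hq : q ∈ QQ (z i)) (k : Fin 3 × Fin 3) : z k * q * (z k)⁻¹ * q⁻¹ ∈ QS z i := by
  obtain ⟨a, b⟩ := i
  obtain ⟨c, d⟩ := k
  have e : z (c, d) * q * (z (c, d))⁻¹ * q⁻¹ = z (c, d) * (q * z (c, d) * q⁻¹) := by
    rw [h.grid.zinv]; group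
  rw [e]
  have hr : ∀ x y, z (x, y) * z (x, t b y) ∈ QS z (a, b) := by
    intro x y
    by_cases hy : b = y
    · subst hy; rw [t_self, h.grid.sq]; exact one_mem _
    · have : z (x, y) * z (x, t b y) = z (x, b) := by
        rw [h.grid.row x y (t b y) (Ne.symm (t_ne b y hy)), t_symm b y, t_t]
      rw [this]
      exact mem_QS fun H => H.2 rfl
  have hc : ∀ x y, z (x, y) * z (t a x, y) ∈ QS z (a, b) := by
    intro x y
    by_cases hx : a = x
    · subst hx; rw [t_self, h.grid.sq]; exact one_mem _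
    · have : z (x, y) * z (t a x, y) = z (a, y) := by
        rw [h.grid.col y x (t a x) (Ne.symm (t_ne a x hx)), t_symm a x, t_t]
      rw [this]
      exact mem_QS fun H => H.1 rfl
  rcases hl.act q hq with h1 | h1 | h1 | h1
  · rw [h1 c d]; simp only [id, h.grid.sq]; exact one_mem _
  · rw [h1 c d]; exact hr c d
  · rw [h1 c d]; exact hc c d
  · rw [h1 c d]
    have e2 : z (c, d) * z (t a c, t b d) =
        (z (c, d) * z (c, t b d)) * (z (c, t b d) * z (t a c, t b d)) := by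
      calc z (c, d) * z (t a c, t b d) =
          z (c, d) * 1 * z (t a c, t b d) := by group
        _ = z (c, d) * (z (c, t b d) * z (c, t b d)) * z (t a c, t b d) := by rw [h.grid.sq]
        _ = _ := by group
    simp only
    rw [e2]
    exact mul_mem (hr c d) (hc c (t b d))

/-- `QS` induces all of `U U'`. -/
theorem exists_types [Finite G] (h : Pts M V z) {T : Subgroup G} {i : Fin 3 × Fin 3}
    (hl : Loc M V z T i) : (∃ u ∈ QS z i, Act z u id (t i.2)) ∧ ∃ u ∈ QS z i, Act z u (t i.1) id := by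
  by_contra hcon
  apply hl.VQ
  have hQS := QS_le h hl
  -- types
  have t1 : ∀ u ∈ QS z i, ∀ v ∈ QS z i, Act z u id (t i.2) → ¬ Act z v (t i.1) id :=
    fun u hu v hv h1 h2 => hcon ⟨⟨u, hu, h1⟩, ⟨v, hv, h2⟩⟩
  have t2 : ∀ u ∈ QS z i, ∀ v ∈ QS z i, Act z u id (t i.2) → ¬ Act z v (t i.1) (t i.2) := by
    intro u hu v hv h1 h2
    refine hcon ⟨⟨u, hu, h1⟩, ⟨u * v, mul_mem hu hv, ?_⟩⟩
    intro x y
    have h3 := (h1.mul h2) x y
    simpa [t_t] using h3
  have t3 : ∀ u ∈ QS z i, ∀ v ∈ QS z i, Act z u (t i.1) id → ¬ Act z v (t i.1) (t i.2) := by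
    intro u hu v hv h1 h2
    refine hcon ⟨⟨u * v, mul_mem hu hv, ?_⟩, ⟨u, hu, h1⟩⟩
    intro x y
    have h3 := (h1.mul h2) x y
    simpa [t_t] using h3
  -- the commutators `[z k, u]` are centralised by `QS`
  have hcz : ∀ u ∈ QS z i, ∀ v ∈ QS z i, ∀ x y,
      v * (z (x, y) * (u * z (x, y) * u⁻¹)) = z (x, y) * (u * z (x, y) * u⁻¹) * v := by
    intro u hu v hv x y
    -- if `v` has the same type as `u`
    have same : ∀ f g : Fin 3 → Fin 3, (∀ x, f (f x) = x) → (∀ x, g (g x) = x) → Act z u f g →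
        Act z v f g → v * (z (x, y) * (u * z (x, y) * u⁻¹)) =
          z (x, y) * (u * z (x, y) * u⁻¹) * v := by
      intro f g hf hg h1 h2
      apply conj_comm
      rw [h1 x y]
      calc v * (z (x, y) * z (f x, g y)) * v⁻¹ =
          (v * z (x, y) * v⁻¹) * (v * z (f x, g y) * v⁻¹) := by group
        _ = z (f x, g y) * z (x, y) := by rw [h2, h2, hf, hg]
        _ = z (x, y) * z (f x, g y) := h.grid.comm _ _
    have triv : Act z v id id → v * (z (x, y) * (u * z (x, y) * u⁻¹)) =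
        z (x, y) * (u * z (x, y) * u⁻¹) * v := by
      intro h2
      obtain ⟨k, hk⟩ := h.perm u (hl.TM (hl.QT (hQS hu))) (x, y)
      apply conj_comm
      rw [hk]
      calc v * (z (x, y) * z k) * v⁻¹ = (v * z (x, y) * v⁻¹) * (v * z k * v⁻¹) := by group
        _ = z (x, y) * z k := by rw [h2 x y, h2 k.1 k.2]; rfl
    have triv' : Act z u id id → v * (z (x, y) * (u * z (x, y) * u⁻¹)) =
        z (x, y) * (u * z (x, y) * u⁻¹) * v := by
      intro h1
      rw [h1 x y]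
      simp only [id, h.grid.sq, mul_one, one_mul]
    rcases hl.act u (hQS hu) with h1 | h1 | h1 | h1
    · exact triv' h1
    all_goals
      rcases hl.act v (hQS hv) with h2 | h2 | h2 | h2
      · exact triv h2
      all_goals
        first
        | exact same _ _ (fun _ => rfl) (t_t _) h1 h2
        | exact same _ _ (t_t _) (fun _ => rfl) h1 h2
        | exact same _ _ (t_t _) (t_t _) h1 h2
        | exact absurd h2 (t1 u hu v hv h1)
        | exact absurd h1 (t1 v hv u hu h2)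
        | exact absurd h2 (t2 u hu v hv h1)
        | exact absurd h1 (t2 v hv u hu h2)
        | exact absurd h2 (t3 u hu v hv h1)
        | exact absurd h1 (t3 v hv u hu h2)
  -- the elements of `Z(QS)` centralise all points
  have hZ : ∀ w ∈ QS z i ⊓ centralizer (QS z i : Set G), ∀ k, w * z k = z k * w := by
    intro w hw k
    obtain ⟨hw1, hw2⟩ := mem_inf.1 hw
    rw [mem_centralizer_iff] at hw2
    obtain ⟨a, b⟩ := i
    obtain ⟨a', ha⟩ := ex_ne a
    obtain ⟨b', hb⟩ := ex_ne b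
    have e1 := hw2 _ (mem_QS (z := z) (i := (a, b)) (j := (a, b')) fun H => H.1 rfl)
    have e2 := hw2 _ (mem_QS (z := z) (i := (a, b)) (j := (a', b)) fun H => H.2 rfl)
    have f1 : w * z (a, b') * w⁻¹ = z (a, b') := comm_conj e1.symm
    have f2 : w * z (a', b) * w⁻¹ = z (a', b) := comm_conj e2.symm
    rcases hl.act w (hQS hw1) with h1 | h1 | h1 | h1
    · have h3 := h1 k.1 k.2
      exact conj_comm h3
    · exfalso
      rw [h1 a b'] at f1
      exact t_ne b b' hb (congrArg Prod.snd (h.grid.inj f1))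
    · exfalso
      rw [h1 a' b] at f2
      exact t_ne a a' ha (congrArg Prod.fst (h.grid.inj f2))
    · exfalso
      rw [h1 a b'] at f1
      exact t_ne b b' hb (congrArg Prod.snd (h.grid.inj f1))
  have hall : ∀ k, z k ∈ QQ (z i) := by
    intro k
    refine chain3 (R := QS z i) (Z := QS z i ⊓ centralizer (QS z i : Set G)) hl.char2 hQS inf_le_left
      (fun c hc y hy => QS_norm hc hy) ?_ (h.grid.comm k i) (fun q hq => comm_pt h hl hq k) ?_
      (fun w hw => (hZ w hw k).symm)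
    · intro c hc y hy
      obtain ⟨hy1, hy2⟩ := mem_inf.1 hy
      rw [mem_centralizer_iff] at hy2
      refine mem_inf.2 ⟨QS_norm hc hy1, ?_⟩
      rw [mem_centralizer_iff]
      intro u hu
      have h6 := hy2 _ (QS_norm (inv_comm hc) hu)
      calc u * (c * y * c⁻¹) = c * ((c⁻¹ * u * c⁻¹⁻¹) * y) * c⁻¹ := by group
        _ = c * (y * (c⁻¹ * u * c⁻¹⁻¹)) * c⁻¹ := by rw [h6]
        _ = c * y * c⁻¹ * u := by group
    · intro u hu
      refine mem_inf.2 ⟨?_, ?_⟩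
      · exact mul_mem (QS_norm (h.grid.comm k i) hu) (inv_mem hu)
      · rw [mem_centralizer_iff]
        intro v hv
        have e : z k * u * (z k)⁻¹ * u⁻¹ = z k * (u * z k * u⁻¹) := by
          rw [h.grid.zinv]; group
        rw [e]
        exact hcz u hu v hv k.1 k.2
  refine h.gen.trans ?_
  rw [closure_le]
  rintro _ ⟨k, rfl⟩
  exact hall k

/-- `min` -/
theorem min_mem [Finite G] {T : Subgroup G} {i : Fin 3 × Fin 3} (hl : Loc M V z T i)
    {Y : Subgroup G} (hY : Y ≤ QQ (z i))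
    (hn : ∀ m ∈ M, m * z i = z i * m → ∀ y ∈ Y, m * y * m⁻¹ ∈ Y) (hne : Y ≠ ⊥) : z i ∈ Y := by
  have hYT : Y ≤ T := hY.trans hl.QT
  have : Fact (Nat.Prime 2) := ⟨Nat.prime_two⟩
  have : Group.IsNilpotent T := hl.pg.isNilpotent
  have hN : (Y.subgroupOf T).Normal := ⟨fun y hy t => by
    rw [mem_subgroupOf] at hy ⊢
    exact hn t (hl.TM t.2) (hl.cz t t.2) y hy⟩
  have hNb : Y.subgroupOf T ≠ ⊥ := by
    intro h1
    apply hne
    rw [eq_bot_iff]
    intro y hy
    have h2 : (⟨y, hYT hy⟩ : T) ∈ Y.subgroupOf T := mem_subgroupOf.2 hy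
    rw [h1, mem_bot] at h2
    exact mem_bot.2 (congrArg Subtype.val h2)
  have h1 := Cfsg.Agent.Lib.NormalAbelian.normal_inf_center_ne_bot (Y.subgroupOf T) hNb
  obtain ⟨⟨x, hxT⟩, hx, hx1⟩ : ∃ x : T, x ∈ Y.subgroupOf T ⊓ center T ∧ x ≠ 1 := by
    by_contra hcon
    push Not at hcon
    exact h1 (eq_bot_iff.2 fun x hx => mem_bot.2 (hcon x hx))
  have hx1' : x ≠ 1 := fun h => hx1 (Subtype.ext h)
  obtain ⟨hxY, hxZ⟩ := mem_inf.1 hx
  rw [mem_subgroupOf] at hxY
  have hxc : ∀ s ∈ T, x * s = s * x := by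
    intro s hs
    have := mem_center_iff.1 hxZ ⟨s, hs⟩
    exact (congrArg Subtype.val this).symm
  -- an involution in `⟨x⟩`
  obtain ⟨k, hk⟩ := (IsPGroup.iff_orderOf.1 hl.pg) ⟨x, hxT⟩
  have hk' : orderOf x = 2 ^ k := by
    rw [← hk, ← orderOf_submonoid]
  have hk0 : k ≠ 0 := by
    rintro rfl
    rw [pow_zero, orderOf_eq_one_iff] at hk'
    exact hx1' hk'
  obtain ⟨k, rfl⟩ := Nat.exists_eq_succ_of_ne_zero hk0
  have hy2 : x ^ 2 ^ k * x ^ 2 ^ k = 1 := by
    rw [← pow_add, ← two_mul, ← pow_succ', ← Nat.succ_eq_add_one, ← hk']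
    exact pow_orderOf_eq_one x
  have hy1 : x ^ 2 ^ k ≠ 1 := by
    intro h5
    have h6 := orderOf_dvd_of_pow_eq_one h5
    rw [hk', Nat.succ_eq_add_one, Nat.pow_dvd_pow_iff_le_right (by norm_num)] at h6
    omega
  rcases hl.Z (x ^ 2 ^ k) (pow_mem hxT _) (fun s hs => (show Commute x s from hxc s hs).pow_left _) hy2
    with h5 | h5
  · exact absurd h5 hy1
  · rw [← h5]; exact pow_mem hxY _

/-- The configuration `DP`. -/
theorem dp_of_loc [Finite G] (h : Pts M V z) (hMV : M ≤ normalizer (V : Set G)) {T₀ : Subgroup G}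
    {i₀ : Fin 3 × Fin 3} (h0 : Loc M V z T₀ i₀) : DP M z (fun i => QQ (z i)) (fun i => QS z i) := by
  have hloc : ∀ i, ∃ T, Loc M V z T i := by
    intro i
    obtain ⟨σ, hσ⟩ := ex_perm i₀.1 i.1
    obtain ⟨τ, hτ⟩ := ex_perm i₀.2 i.2
    obtain ⟨m, hm, hmz⟩ := h.big σ τ
    have h1 := h0.conj hMV hm hmz
    rw [hσ, hτ] at h1
    exact ⟨_, h1⟩
  choose T hT using hloc
  exact
    { inj := h.grid.inj
      ne_one := h.grid.ne_one
      sq := h.grid.sq
      comm := h.grid.comm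
      row := h.grid.row
      col := h.grid.col
      QM := fun i => (hT i).QT.trans (hT i).TM
      perm := h.perm
      eqQ := fun m _ i j hij x hx => by
        have h1 := (mem_QQ_conj (g := m)).2 hx
        rwa [hij] at h1
      eqQs := fun m hm i j hij x hx => QS_conj h hm hij hx
      nQ := fun i c hc x hx => QQ_norm hc hx
      nQs := fun i c hc x hx => QS_norm hc hx
      le := fun i => QS_le h (hT i)
      zmem := fun i => mem_QS fun H => H.1 rfl
      Qz := fun i x hx => (hT i).cz x ((hT i).QT hx)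
      comQ := fun i x hx y hy => by
        rcases comm_QS h (hT i) hx y hy with h1 | h1
        · exact Or.inl (conj_comm h1)
        · right
          calc x * y = x * y * x⁻¹ * x := by group
            _ = z i * (y * x) := by rw [h1]; group
      pair := fun i j hij => mem_QS hij
      sr := fun a b => (exists_types h (hT (a, b))).1
      sc := fun a b => (exists_types h (hT (a, b))).2
      min := fun i Y hY hn hne => min_mem (hT i) hY hn hne }

end Facts

/-- The local data at `z i` -/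
theorem loc_of [Finite G] (hG : IsCharacteristicTwoType G) (S : Sylow 2 G) {M V : Subgroup G}
    {z : Fin 3 × Fin 3 → G} {i : Fin 3 × Fin 3} (h : Pts M V z) (hSM : (S : Subgroup G) ≤ M)
    (hVS : V ≤ (S : Subgroup G)) (hzS : ∀ s ∈ (S : Subgroup G), s * z i = z i * s)
    (hZ : ∀ x ∈ (S : Subgroup G), (∀ s ∈ (S : Subgroup G), x * s = s * x) → x * x = 1 →
      x = 1 ∨ x = z i)
    (hVQ : ¬ V ≤ o2 (centralizer ({z i} : Set G)))
    (act : ∀ q ∈ o2 (centralizer ({z i} : Set G)), Act z q id id ∨ Act z q id (t i.2) ∨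
      Act z q (t i.1) id ∨ Act z q (t i.1) (t i.2))
    (ar : ∃ q ∈ o2 (centralizer ({z i} : Set G)), Act z q id (t i.2))
    (ac : ∃ q ∈ o2 (centralizer ({z i} : Set G)), Act z q (t i.1) id) :
    Loc M V z (S : Subgroup G) i := by
  have e : QQ (z i) = o2 (centralizer ({z i} : Set G)) := by rw [QQ, CC_eq]
  have hSF : (S : Subgroup G) ≤ CC (z i) := fun s hs => mem_CC.2 (hzS s hs)
  have hSF' : (S : Subgroup G) ≤ normalizer ((zpowers (z i) : Subgroup G) : Set G) :=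
    hSF.trans (LemmaT.centralizer_le_normalizer' _)
  have hF : IsPGroup 2 (zpowers (z i)) := by
    refine S.isPGroup'.to_le ?_
    rw [zpowers_le]
    exact hVS (h.mem i)
  have hF1 : (zpowers (z i) : Subgroup G) ≠ ⊥ := by
    rw [Ne, zpowers_eq_bot]; exact h.grid.ne_one i
  refine ⟨hSM, S.isPGroup', hzS, LemmaT.o2_centralizer_le S hSF', hZ, ?_, ?_, ?_, ?_, ?_⟩
  · intro g hg hgx
    refine LemmaT.char2_centralizer hG hF hF1 (mem_inf.2 ⟨mem_CC.2 hg, ?_⟩)
    rw [mem_centralizer_iff]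
    exact fun x hx => (hgx x hx).symm
  · rwa [e]
  · rwa [e]
  · rwa [e]
  · rwa [e]

open Cfsg.Agent.Co2Type.Quad in
/-- **THEOREM D0+.** -/
theorem large [Finite G] (hG : IsCharacteristicTwoType G) (S : Sylow 2 G) {M V : Subgroup G}
    {z : Fin 3 × Fin 3 → G} {i : Fin 3 × Fin 3} (h : Pts M V z) (hMV : M ≤ normalizer (V : Set G))
    (hSM : (S : Subgroup G) ≤ M)
    (hVS : V ≤ (S : Subgroup G)) (hzS : ∀ s ∈ (S : Subgroup G), s * z i = z i * s)
    (hZ : ∀ x ∈ (S : Subgroup G), (∀ s ∈ (S : Subgroup G), x * s = s * x) → x * x = 1 →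
      x = 1 ∨ x = z i)
    (hVQ : ¬ V ≤ o2 (centralizer ({z i} : Set G)))
    (act : ∀ q ∈ o2 (centralizer ({z i} : Set G)), Act z q id id ∨ Act z q id (t i.2) ∨
      Act z q (t i.1) id ∨ Act z q (t i.1) (t i.2))
    (ar : ∃ q ∈ o2 (centralizer ({z i} : Set G)), Act z q id (t i.2))
    (ac : ∃ q ∈ o2 (centralizer ({z i} : Set G)), Act z q (t i.1) id) :
    Large (o2 (centralizer ({z i} : Set G))) (z i) := by
  have h0 := loc_of hG S h hSM hVS hzS hZ hVQ act ar ac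
  have h2 := (dp_of_loc h hMV h0).large i h0.char2
  have e : QQ (z i) = o2 (centralizer ({z i} : Set G)) := by rw [QQ, CC_eq]
  rwa [e] at h2

end Cfsg.Agent.Omega.NOne.DPlusPts
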