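import Cfsg.Agent.Omega.NOne.PlusGrid

/-!
# NO-1, THEOREM D0+ (#12107, referee #12381)

Step (2): `D (a, b) ∩ D (a, b') = 1`; then the general part (`PlusCore`) gives
`C_{Q i}(Qs i) = ⟨z i⟩` and `Large (Q i) (z i)`.
-/

set_option autoImplicit false

namespace Cfsg.Agent.Omega.NOne.Grid

open Subgroup Cfsg.Agent.Omega.NOne.Core

theorem th_back : ∀ x b, x ≠ b → th (th x b) b = x := by decide

variable {G : Type*} [Group G]

namespace Gr

variable {M : Subgroup G} {z : Fin 3 × Fin 3 → G} {Q Qs : Fin 3 × Fin 3 → Subgroup G}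
variable (h : Gr M z Q Qs)

/-- `m` acts on the grid as `(σ, τ)`. -/
def Act (z : Fin 3 × Fin 3 → G) (m : G) (σ τ : Fin 3 → Fin 3) : Prop :=
  ∀ a b, m * z (a, b) * m⁻¹ = z (σ a, τ b)

theorem Act.mul {m n : G} {σ τ σ' τ' : Fin 3 → Fin 3} (h1 : Act z m σ τ) (h2 : Act z n σ' τ') :
    Act z (m * n) (fun a => σ (σ' a)) (fun b => τ (τ' b)) := by
  intro a b
  calc m * n * z (a, b) * (m * n)⁻¹ = m * (n * z (a, b) * n⁻¹) * m⁻¹ := by group
    _ = _ := by rw [h2, h1]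

include h

theorem act_inj1 {m : G} {σ τ : Fin 3 → Fin 3} (hm : Act z m σ τ) : Function.Injective σ := by
  intro x y hxy
  have e : m * z (x, 0) * m⁻¹ = m * z (y, 0) * m⁻¹ := by rw [hm, hm, hxy]
  exact congrArg Prod.fst (h.inj (mul_left_cancel (mul_right_cancel e)))

theorem act_inj2 {m : G} {σ τ : Fin 3 → Fin 3} (hm : Act z m σ τ) : Function.Injective τ := by
  intro x y hxy
  have e : m * z (0, x) * m⁻¹ = m * z (0, y) * m⁻¹ := by rw [hm, hm, hxy]
  exact congrArg Prod.snd (h.inj (mul_left_cancel (mul_right_cancel e)))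

/-- `I_a` -/
def I (h : Gr M z Q Qs) (a : Fin 3) : Subgroup G := ⨅ c, h.D (a, c)

/-- `I^b` -/
def J (h : Gr M z Q Qs) (b : Fin 3) : Subgroup G := ⨅ c, h.D (c, b)

theorem mem_I {a : Fin 3} {y : G} : y ∈ h.I a ↔ ∀ c, y ∈ h.D (a, c) := mem_iInf

theorem mem_J {b : Fin 3} {y : G} : y ∈ h.J b ↔ ∀ c, y ∈ h.D (c, b) := mem_iInf

theorem eqI {m : G} (hm : m ∈ M) {σ τ : Fin 3 → Fin 3} (hz : Act z m σ τ) {a : Fin 3} {y : G}
    (hy : y ∈ h.I a) : m * y * m⁻¹ ∈ h.I (σ a) := by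
  rw [mem_I] at hy ⊢
  intro d
  obtain ⟨c, rfl⟩ := (Finite.surjective_of_injective (h.act_inj2 hz)) d
  exact h.eqD hm (hz a c) (hy c)

theorem eqJ {m : G} (hm : m ∈ M) {σ τ : Fin 3 → Fin 3} (hz : Act z m σ τ) {b : Fin 3} {y : G}
    (hy : y ∈ h.J b) : m * y * m⁻¹ ∈ h.J (τ b) := by
  rw [mem_J] at hy ⊢
  intro d
  obtain ⟨c, rfl⟩ := (Finite.surjective_of_injective (h.act_inj1 hz)) d
  exact h.eqD hm (hz c b) (hy c)

theorem eqIJ {m : G} (hm : m ∈ M) {σ τ : Fin 3 → Fin 3}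
    (hz : ∀ a b, m * z (a, b) * m⁻¹ = z (τ b, σ a)) {a : Fin 3} {y : G}
    (hy : y ∈ h.I a) : m * y * m⁻¹ ∈ h.J (σ a) := by
  have hτ : Function.Injective τ := by
    intro x y hxy
    have e : m * z (0, x) * m⁻¹ = m * z (0, y) * m⁻¹ := by rw [hz, hz, hxy]
    exact congrArg Prod.snd (h.inj (mul_left_cancel (mul_right_cancel e)))
  rw [mem_I] at hy
  rw [mem_J]
  intro d
  obtain ⟨c, rfl⟩ := (Finite.surjective_of_injective hτ) d
  exact h.eqD hm (hz a c) (hy c)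

section cent

variable {a : Fin 3} {y : G} (hy : y ∈ h.I a)
  (hR : ∀ r ∈ M, (∀ k, r * z k = z k * r) → r * y = y * r)
include hy hR

omit h hy hR in
theorem comm_of_mul {u m : G} (hu : u * y = y * u) (hum : u * m * y = y * (u * m)) :
    m * y = y * m := by
  have e : u * (m * y) = u * (y * m) := by
    calc u * (m * y) = u * m * y := by group
      _ = y * (u * m) := hum
      _ = (y * u) * m := by group
      _ = (u * y) * m := by rw [hu]
      _ = u * (y * m) := by group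
  exact mul_left_cancel e

theorem centC {m : G} (hm : m ∈ M) {σ τ : Fin 3 → Fin 3} (hz : Act z m σ τ) (hσ : ∀ c, σ c = c)
    (h0 : τ 0 = 0) : m * y = y * m := by
  have base : ∀ m ∈ M, ∀ τ : Fin 3 → Fin 3, ∀ σ : Fin 3 → Fin 3, Act z m σ τ →
      (∀ c, σ c = c) → τ 0 = 0 → τ 1 = 1 → m * y = y * m := by
    intro m hm τ σ hz hσ h0 h1
    refine hR m hm fun k => ?_
    obtain ⟨c, d⟩ := k
    apply conj_comm
    rw [hz, hσ, fix_third (h.act_inj2 hz) (by decide : (0 : Fin 3) ≠ 1) h0 h1]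
  by_cases h1 : τ 1 = 1
  · exact base m hm τ σ hz hσ h0 h1
  · have h2 : τ 1 = th 0 1 := eq_th 0 1 _ (by decide)
      (fun e => absurd (h.act_inj2 hz (e.trans h0.symm)) (by decide)) h1
    obtain ⟨v, hv, hv1⟩ := h.act2 a 0
    have hvc : v * y = y * v := ((h.mem_D.1 (h.mem_I.1 hy 0)).2 v hv).symm
    have ha : Act z (v * m) (fun c => id (σ c)) (fun d => th 0 (τ d)) :=
      Act.mul (σ := id) (τ := fun d => th 0 d) hv1 hz
    refine comm_of_mul hvc (base _ (mul_mem (h.QsM _ hv) hm) _ _ ha hσ ?_ ?_)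
    · simp only [h0, th_self]
    · simp only [h2, th_th]

theorem centB {m : G} (hm : m ∈ M) {σ τ : Fin 3 → Fin 3} (hz : Act z m σ τ)
    (hσ : ∀ c, σ c = c) : m * y = y * m := by
  by_cases h0 : τ 0 = 0
  · exact h.centC hy hR hm hz hσ h0
  · obtain ⟨v, hv, hv1⟩ := h.act2 a (th 0 (τ 0))
    have hvc : v * y = y * v := ((h.mem_D.1 (h.mem_I.1 hy _)).2 v hv).symm
    have ha : Act z (v * m) (fun c => id (σ c)) (fun d => th (th 0 (τ 0)) (τ d)) :=
      Act.mul (σ := id) (τ := fun d => th (th 0 (τ 0)) d) hv1 hz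
    refine comm_of_mul hvc (h.centC hy hR (mul_mem (h.QsM _ hv) hm) ha hσ ?_)
    exact th_back 0 _ (Ne.symm h0)

/-- `M_a` centralises `y ∈ I_a` as soon as `R = C_M(V)` does. -/
theorem centA {m : G} (hm : m ∈ M) {σ τ : Fin 3 → Fin 3} (hz : Act z m σ τ)
    (hσ : σ a = a) : m * y = y * m := by
  obtain ⟨a', ha⟩ := exists_ne' a
  by_cases h0 : σ a' = a'
  · exact h.centB hy hR hm hz (fix_third (h.act_inj1 hz) ha hσ h0)
  · have h2 : σ a' = th a a' := eq_th a a' _ ha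
      (fun e => ha (h.act_inj1 hz (e.trans hσ.symm)).symm) h0
    obtain ⟨v, hv, hv1⟩ := h.act1 a 0
    have hvc : v * y = y * v := ((h.mem_D.1 (h.mem_I.1 hy 0)).2 v hv).symm
    have hact : Act z (v * m) (fun c => th a (σ c)) (fun d => id (τ d)) :=
      Act.mul (σ := fun c => th a c) (τ := id) hv1 hz
    refine comm_of_mul hvc (h.centB hy hR (mul_mem (h.QsM _ hv) hm) hact
      (fix_third (h.act_inj1 hact) ha ?_ ?_))
    · simp only [hσ, th_self]
    · simp only [h2, th_th]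

end cent

section fin

variable [Finite G]

theorem IJ_comm {a b : Fin 3} {y w : G} (hy : y ∈ h.I a) (hw : w ∈ h.J b) : y * w = w * y := by
  obtain ⟨a', ha⟩ := exists_ne' a
  obtain ⟨b', hb⟩ := exists_ne' b
  exact h.opp_comm (i := (a, b')) (j := (a', b)) ⟨ha, Ne.symm hb⟩ (h.mem_I.1 hy b') (h.mem_J.1 hw a')

theorem IJ_disj {a b : Fin 3} {y : G} (hy : y ∈ h.I a) (hw : y ∈ h.J b) : y = 1 := by
  obtain ⟨a', ha⟩ := exists_ne' a
  obtain ⟨b', hb⟩ := exists_ne' b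
  exact h.opp_disj (i := (a, b')) (j := (a', b)) ⟨ha, Ne.symm hb⟩ (h.mem_I.1 hy b') (h.mem_J.1 hw a')

theorem II_disj {a a' : Fin 3} (ha : a ≠ a') {y : G} (hy : y ∈ h.I a) (hw : y ∈ h.I a') : y = 1 :=
  h.opp_disj (i := (a, 0)) (j := (a', 1)) ⟨ha, show (0 : Fin 3) ≠ 1 by decide⟩ (h.mem_I.1 hy 0) (h.mem_I.1 hw 1)

/-- (2) `I_a = 1` -/
theorem I_bot {a : Fin 3} {y : G} (hy : y ∈ h.I a) : y = 1 := by
  by_contra hy1
  have hne : h.I a ≠ ⊥ := by
    intro e
    rw [e, mem_bot] at hy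
    exact hy1 hy
  clear hy1 hy y
  obtain ⟨S, hSM, hSz, hS2, hQS, hS⟩ := h.syl (a, 0)
  have hIS : h.I a ≤ S := fun x hx => hQS (h.mem_D.1 (h.mem_I.1 hx 0)).1
  -- `S₀ = S ∩ M₀` normalises `I_a`
  have hSa : ∀ s ∈ S, ∀ σ τ : Fin 3 → Fin 3, Act z s σ τ → σ a = a := by
    intro s hs σ τ hz
    have e := (hz a 0).symm.trans (comm_conj (hSz s hs))
    exact congrArg Prod.fst (h.inj e)
  obtain ⟨y, hy, hy1, hyy, hys⟩ := exists_fixed_inv (S := S ⊓ h.M0) (Y := h.I a)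
    (hS2.to_le inf_le_left) (hS2.to_le hIS) (by
      rintro s ⟨hs, hsM, σ, τ, hz⟩ y hy
      have := h.eqI hsM hz hy
      rwa [hSa s hs σ τ hz] at this) hne
  -- some element of `S` interchanges rows and columns
  have hsw : ∃ s ∈ S, Sw z s := by
    by_contra hc
    push Not at hc
    have hall : ∀ s ∈ S, s * y = y * s := fun s hs =>
      hys s ⟨hs, hSM hs, (h.ns_or_sw (hSM hs)).resolve_right (hc s hs)⟩
    rcases hS y (hIS hy) hall hyy with h1 | h1
    · exact hy1 h1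
    · rw [h1] at hy
      exact h.z_notMem_D (i := (a, 0)) (j := (a, 1)) (by simp) (h.mem_I.1 hy 1)
  obtain ⟨s, hs, σ, τ, hsz⟩ := hsw
  have hσa : σ a = 0 := by
    have e := (hsz a 0).symm.trans (comm_conj (hSz s hs))
    exact congrArg Prod.snd (h.inj e)
  have hτ0 : τ 0 = a := by
    have e := (hsz a 0).symm.trans (comm_conj (hSz s hs))
    exact congrArg Prod.fst (h.inj e)
  have hs_sw : Sw z s := ⟨σ, τ, hsz⟩
  set w := s * y * s⁻¹ with hw
  have hwJ : w ∈ h.J 0 := by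
    have := h.eqIJ (hSM hs) hsz hy
    rwa [hσa] at this
  have hyw : y * w = w * y := h.IJ_comm hy hwJ
  have hss : (s * s) * y = y * (s * s) :=
    hys _ (mem_inf.2 ⟨mul_mem hs hs, h.mem_M0.2 ⟨mul_mem (hSM hs) (hSM hs), sw_mul hs_sw hs_sw⟩⟩)
  -- `y w` is centralised by `S`
  have hsyw : s * (y * w) = y * w * s := by
    apply conj_comm
    have e1 : s * w * s⁻¹ = y := by
      rw [hw]
      calc s * (s * y * s⁻¹) * s⁻¹ = (s * s) * y * (s * s)⁻¹ := by group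
        _ = y := comm_conj hss
    calc s * (y * w) * s⁻¹ = (s * y * s⁻¹) * (s * w * s⁻¹) := by group
      _ = w * y := by rw [e1, ← hw]
      _ = y * w := hyw.symm
  have hs0w : ∀ t ∈ S, Ns z t → t * w = w * t := by
    intro t ht htn
    have h1 : (s⁻¹ * t * s) * y = y * (s⁻¹ * t * s) := by
      refine hys _ (mem_inf.2 ⟨mul_mem (mul_mem (inv_mem hs) ht) hs,
        h.mem_M0.2 ⟨mul_mem (mul_mem (inv_mem (hSM hs)) (hSM ht)) (hSM hs), ?_⟩⟩)
      exact sw_mul (sw_ns_mul (h.sw_inv (hSM hs) hs_sw) htn) hs_sw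
    calc t * w = s * ((s⁻¹ * t * s) * y) * s⁻¹ := by rw [hw]; group
      _ = s * (y * (s⁻¹ * t * s)) * s⁻¹ := by rw [h1]
      _ = w * t := by rw [hw]; group
  have hS0 : ∀ t ∈ S, Ns z t → t * (y * w) = y * w * t := by
    intro t ht htn
    calc t * (y * w) = (t * y) * w := by group
      _ = (y * t) * w := by rw [hys t ⟨ht, hSM ht, htn⟩]
      _ = y * (t * w) := by group
      _ = y * (w * t) := by rw [hs0w t ht htn]
      _ = y * w * t := by group
  have hSall : ∀ t ∈ S, t * (y * w) = y * w * t := by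
    intro t ht
    rcases h.ns_or_sw (hSM ht) with htn | hts
    · exact hS0 t ht htn
    · have h1 := hS0 (s⁻¹ * t) (mul_mem (inv_mem hs) ht) (sw_mul (h.sw_inv (hSM hs) hs_sw) hts)
      calc t * (y * w) = s * ((s⁻¹ * t) * (y * w)) := by group
        _ = s * (y * w * (s⁻¹ * t)) := by rw [h1]
        _ = (s * (y * w)) * (s⁻¹ * t) := by group
        _ = (y * w * s) * (s⁻¹ * t) := by rw [hsyw]
        _ = y * w * t := by group
  have hww : w * w = 1 := by
    rw [hw]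
    calc s * y * s⁻¹ * (s * y * s⁻¹) = s * (y * y) * s⁻¹ := by group
      _ = 1 := by rw [hyy]; group
  have hyw2 : y * w * (y * w) = 1 := by
    calc y * w * (y * w) = y * (w * y) * w := by group
      _ = y * (y * w) * w := by rw [hyw]
      _ = (y * y) * (w * w) := by group
      _ = 1 := by rw [hyy, hww, one_mul]
  have hyinv : y⁻¹ = y := inv_eq_of_mul_eq_one_left hyy
  have hwinv : w⁻¹ = w := inv_eq_of_mul_eq_one_left hww
  have hwS : w ∈ S := mul_mem (mul_mem hs (hIS hy)) (inv_mem hs)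
  have hz0 : y * w = z (a, 0) := by
    rcases hS (y * w) (mul_mem (hIS hy) hwS) hSall hyw2 with h1 | h1
    · exfalso
      apply hy1
      have e : y = w := by rw [← hwinv]; exact eq_inv_of_mul_eq_one_left h1
      exact h.IJ_disj hy (by rw [e]; exact hwJ)
    · exact h1
  -- `R = C_M(V)` centralises `y`
  have hR : ∀ r ∈ M, (∀ k, r * z k = z k * r) → r * y = y * r := by
    intro r hr hrz
    have hact : Act z r id id := fun a b => comm_conj (hrz (a, b))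
    have hy' : r * y * r⁻¹ ∈ h.I a := h.eqI hr hact hy
    have hw' : r * w * r⁻¹ ∈ h.J 0 := h.eqJ hr hact hwJ
    have e1 : (r * y * r⁻¹) * (r * w * r⁻¹) = y * w := by
      calc (r * y * r⁻¹) * (r * w * r⁻¹) = r * (y * w) * r⁻¹ := by group
        _ = y * w := by rw [hz0]; exact comm_conj (hrz _)
    have e2 : y⁻¹ * (r * y * r⁻¹) = w * (r * w * r⁻¹)⁻¹ := by
      calc y⁻¹ * (r * y * r⁻¹) = y⁻¹ * ((r * y * r⁻¹) * (r * w * r⁻¹)) * (r * w * r⁻¹)⁻¹ := by group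
        _ = w * (r * w * r⁻¹)⁻¹ := by rw [e1]; group
    have e3 := h.IJ_disj (mul_mem (inv_mem hy) hy') (by rw [e2]; exact mul_mem hwJ (inv_mem hw'))
    rw [inv_mul_eq_one] at e3
    exact conj_comm e3.symm
  -- `M^b` centralises `w`
  have hcw : ∀ m ∈ M, ∀ σ' τ' : Fin 3 → Fin 3, Act z m σ' τ' → τ' 0 = 0 → m * w = w * m := by
    intro m hm σ' τ' hz hτ'
    -- `s⁻¹ m s` preserves row `a`
    have hns : Ns z (s⁻¹ * m * s) :=
      sw_mul (sw_ns_mul (h.sw_inv (hSM hs) hs_sw) ⟨σ', τ', hz⟩) hs_sw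
    obtain ⟨σ₁, τ₁, hz₁⟩ := hns
    have hmM : s⁻¹ * m * s ∈ M := mul_mem (mul_mem (inv_mem (hSM hs)) hm) (hSM hs)
    have e1 : σ₁ a = a := by
      -- conjugate by `s`: the column of `s z(σ₁ a, τ₁ 0) s⁻¹`
      have e2 : s * (s⁻¹ * m * s * z (a, 0) * (s⁻¹ * m * s)⁻¹) * s⁻¹ = z (σ' a, 0) := by
        calc s * (s⁻¹ * m * s * z (a, 0) * (s⁻¹ * m * s)⁻¹) * s⁻¹
            = m * (s * z (a, 0) * s⁻¹) * m⁻¹ := by group
          _ = m * z (a, 0) * m⁻¹ := by rw [comm_conj (hSz s hs)]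
          _ = z (σ' a, 0) := by rw [hz, hτ']
      rw [hz₁, hsz] at e2
      have e3 : σ (σ₁ a) = σ a := by rw [hσa]; exact congrArg Prod.snd (h.inj e2)
      have hσi : Function.Injective σ := by
        intro x y hxy
        have e : s * z (x, 0) * s⁻¹ = s * z (y, 0) * s⁻¹ := by rw [hsz, hsz, hxy]
        exact congrArg Prod.fst (h.inj (mul_left_cancel (mul_right_cancel e)))
      exact hσi e3
    have e4 := h.centA hy hR hmM hz₁ e1
    calc m * w = s * ((s⁻¹ * m * s) * y) * s⁻¹ := by rw [hw]; group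
      _ = s * (y * (s⁻¹ * m * s)) * s⁻¹ := by rw [e4]
      _ = w * m := by rw [hw]; group
  -- the other points of the row `a`
  have hrow : ∀ b, ∃ wb, z (a, b) = y * wb ∧ wb ∈ h.J b ∧
      ∀ m ∈ M, ∀ σ' τ' : Fin 3 → Fin 3, Act z m σ' τ' → τ' b = b → m * wb = wb * m := by
    intro b
    by_cases hb : (0 : Fin 3) = b
    · subst hb
      exact ⟨w, hz0.symm, hwJ, hcw⟩
    obtain ⟨v, hv, hv1⟩ := h.act2 a (th 0 b)
    have hvact : Act z v id (fun d => th (th 0 b) d) := hv1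
    have hvM := h.QsM _ hv
    have hv0 : th (th 0 b) 0 = b := by
      have := th_back b 0 (Ne.symm hb)
      rwa [th_comm b 0] at this
    have hvb : th (th 0 b) b = 0 := th_back 0 b hb
    have hvy : v * y = y * v := ((h.mem_D.1 (h.mem_I.1 hy _)).2 v hv).symm
    refine ⟨v * w * v⁻¹, ?_, ?_, ?_⟩
    · have e1 := hv1 a 0
      rw [hv0] at e1
      rw [← e1, ← hz0]
      calc v * (y * w) * v⁻¹ = (v * y) * w * v⁻¹ := by group
        _ = (y * v) * w * v⁻¹ := by rw [hvy]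
        _ = y * (v * w * v⁻¹) := by group
    · have := h.eqJ hvM hvact hwJ
      rwa [hv0] at this
    · intro m hm σ' τ' hz hτ'
      have hns : Ns z (v⁻¹ * m * v) :=
        ns_mul (ns_mul (h.ns_inv hvM ⟨_, _, hvact⟩) ⟨_, _, hz⟩) ⟨_, _, hvact⟩
      obtain ⟨σ₁, τ₁, hz₁⟩ := hns
      have e1 : τ₁ 0 = 0 := by
        have e2 : v * (v⁻¹ * m * v * z (a, 0) * (v⁻¹ * m * v)⁻¹) * v⁻¹ = z (σ' a, b) := by
          calc v * (v⁻¹ * m * v * z (a, 0) * (v⁻¹ * m * v)⁻¹) * v⁻¹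
              = m * (v * z (a, 0) * v⁻¹) * m⁻¹ := by group
            _ = m * z (a, b) * m⁻¹ := by rw [hv1, hv0]
            _ = z (σ' a, b) := by rw [hz, hτ']
        rw [hz₁, hv1] at e2
        have e3 : th (th 0 b) (τ₁ 0) = th (th 0 b) 0 := by
          rw [hv0]; exact congrArg Prod.snd (h.inj e2)
        exact th_inj _ _ _ e3
      have e4 := hcw _ (mul_mem (mul_mem (inv_mem hvM) hm) hvM) σ₁ τ₁ hz₁ e1
      calc m * (v * w * v⁻¹) = v * ((v⁻¹ * m * v) * w) * v⁻¹ := by group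
        _ = v * (w * (v⁻¹ * m * v)) * v⁻¹ := by rw [e4]
        _ = v * w * v⁻¹ * m := by group
  obtain ⟨w0, e0, hJ0, hc0⟩ := hrow 0
  obtain ⟨w1, e1, hJ1, hc1⟩ := hrow 1
  obtain ⟨w2, e2, hJ2, hc2⟩ := hrow 2
  -- product over the row
  have hprod : z (a, 0) * z (a, 1) * z (a, 2) = 1 := by
    rw [h.row a 0 1 (by decide)]
    exact h.sq _
  have hy012 : y = (w0 * w1 * w2)⁻¹ := by
    rw [e0, e1, e2] at hprod
    have c0 := h.IJ_comm hy hJ0
    have c1 := h.IJ_comm hy hJ1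
    have e3 : y * w0 * (y * w1) * (y * w2) = y * (w0 * w1 * w2) := by
      calc y * w0 * (y * w1) * (y * w2) = (y * w0) * y * (w1 * y) * w2 := by group
        _ = (w0 * y) * y * (y * w1) * w2 := by rw [c0, c1]
        _ = w0 * (y * y) * (y * w1) * w2 := by group
        _ = (w0 * y) * w1 * w2 := by rw [hyy]; group
        _ = (y * w0) * w1 * w2 := by rw [c0]
        _ = y * (w0 * w1 * w2) := by group
    rw [e3] at hprod
    exact eq_inv_of_mul_eq_one_left hprod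
  -- an element exchanging two rows and fixing all columns
  obtain ⟨a', ha⟩ := exists_ne' a
  obtain ⟨n, hn, hn1⟩ := h.act1 (th a a') 0
  have hnact : Act z n (fun c => th (th a a') c) id := hn1
  have hnM := h.QsM _ hn
  have k0 := hc0 n hnM _ _ hnact rfl
  have k1 := hc1 n hnM _ _ hnact rfl
  have k2 := hc2 n hnM _ _ hnact rfl
  have hny : n * y * n⁻¹ = y := by
    rw [hy012]
    calc n * (w0 * w1 * w2)⁻¹ * n⁻¹ = ((n * w0 * n⁻¹) * (n * w1 * n⁻¹) * (n * w2 * n⁻¹))⁻¹ := by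
          group
      _ = (w0 * w1 * w2)⁻¹ := by rw [comm_conj k0, comm_conj k1, comm_conj k2]
  have hyI := h.eqI hnM hnact hy
  rw [hny] at hyI
  have e5 : th (th a a') a = a' := by
    have := th_back a' a (Ne.symm ha)
    rwa [th_comm a' a] at this
  simp only [e5] at hyI
  exact hy1 (h.II_disj ha hy hyI)

/-- (2) `D (a, b) ∩ D (a, b') = 1` -/
theorem row_disj {a b b' : Fin 3} (hb : b ≠ b') {y : G} (h1 : y ∈ h.D (a, b))
    (h2 : y ∈ h.D (a, b')) : y = 1 :=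
  h.I_bot (h.mem_I.2 (h.row_all hb h1 h2))

/-- (2) `D (a, b) ∩ D (a', b) = 1` -/
theorem col_disj {a a' b : Fin 3} (ha : a ≠ a') {y : G} (h1 : y ∈ h.D (a, b))
    (h2 : y ∈ h.D (a', b)) : y = 1 :=
  h.transp.row_disj (a := b) ha h1 h2

/-- `D i ∩ D j = 1` -/
theorem disj {i j : Fin 3 × Fin 3} (hij : i ≠ j) {y : G} (h1 : y ∈ h.D i) (h2 : y ∈ h.D j) :
    y = 1 := by
  obtain ⟨a, b⟩ := i
  obtain ⟨a', b'⟩ := j
  by_cases ha : a = a'
  · subst ha
    exact h.row_disj (fun hb => hij (by rw [hb])) h1 h2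
  by_cases hb : b = b'
  · subst hb
    exact h.col_disj ha h1 h2
  exact h.opp_disj ⟨ha, hb⟩ h1 h2

omit [Finite G] in
/-- the four points opposite `(a, b)` -/
theorem quad {i j : Fin 3 × Fin 3} (hij : opp i j) : ∃ k l m, Qd z opp Qs i j k l m := by
  obtain ⟨a, b⟩ := i
  obtain ⟨a', b'⟩ := j
  obtain ⟨ha, hb⟩ : a ≠ a' ∧ b ≠ b' := hij
  have ha1 := th_ne_left a a' ha
  have ha2 := th_ne_right a a' ha
  have hb1 := th_ne_left b b' hb
  have hb2 := th_ne_right b b' hb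
  refine ⟨(th a a', b'), (a', th b b'), (th a a', th b b'), ⟨ha, hb⟩, ⟨Ne.symm ha1, hb⟩,
    ⟨ha, Ne.symm hb1⟩, ⟨Ne.symm ha1, Ne.symm hb1⟩, ?_, ?_, ?_, ?_, ?_⟩
  · simp only [List.nodup_cons, List.mem_cons, List.not_mem_nil, or_false, not_or, not_false_eq_true,
      List.nodup_nil, and_true, Prod.mk.injEq, not_and]
    refine ⟨⟨fun e => absurd e.symm ha2, fun _ e => hb2 e.symm, fun e => absurd e.symm ha2⟩,
      ⟨fun e => absurd e ha2, fun _ e => hb2 e.symm⟩, fun e => absurd e.symm ha2⟩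
  · rintro ⟨c, d⟩ ⟨hc, hd⟩
    have hc' : c = a' ∨ c = th a a' := (th_cases a a' c ha).resolve_left (Ne.symm hc)
    have hd' : d = b' ∨ d = th b b' := (th_cases b b' d hb).resolve_left (Ne.symm hd)
    rcases hc' with rfl | rfl <;> rcases hd' with rfl | rfl <;> simp
  · have e1 : th a' (th a a') = a := by
      rw [th_comm a a', th_th]
    have e2 : th b' (th b b') = b := by
      rw [th_comm b b', th_th]
    rw [h.col b' a' (th a a') (Ne.symm ha2), e1, mul_assoc,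
      h.col (th b b') a' (th a a') (Ne.symm ha2), e1, h.row a b' (th b b') (Ne.symm hb2), e2]
  · obtain ⟨u, hu, hu1⟩ := h.act1 a b
    exact ⟨u, hu, hu1 _ _, by rw [hu1, th_th], hu1 _ _, by rw [hu1, th_th]⟩
  · obtain ⟨u, hu, hu1⟩ := h.act2 a b
    exact ⟨u, hu, hu1 _ _, by rw [hu1, th_th], hu1 _ _, by rw [hu1, th_th]⟩

theorem conf : Conf M z opp Q Qs where
  inj := h.inj
  ne_one := h.ne_one
  sq := h.sq
  comm := h.comm
  ne := fun {i j} hij e => hij.1 (by rw [e])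
  symm := fun {i j} hij => ⟨Ne.symm hij.1, Ne.symm hij.2⟩
  ex := fun i => by
    obtain ⟨a', ha⟩ := exists_ne' i.1
    obtain ⟨b', hb⟩ := exists_ne' i.2
    exact ⟨(a', b'), ha, hb⟩
  QM := h.QM
  perm := h.perm
  popp := fun m hm i j i' j' hi hj hij => h.popp hm hi hj hij
  eqQ := h.eqQ
  eqQs := h.eqQs
  nQ := h.nQ
  nQs := h.nQs
  le := h.le
  zmem := fun i => (h.mem i.1 i.2 i.2).1
  Qz := h.Qz
  comQ := h.comQ
  quad := fun i j hij => h.quad hij
  reg := fun i j k hij _ u hu huj => h.reg hij (h.le i hu) huj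
  cz := fun i d hd hd' j => h.D_comm_z (h.mem_D.2 ⟨hd, hd'⟩) j
  dj := fun i j hij y h1 h2 h3 h4 => h.disj hij (h.mem_D.2 ⟨h1, h3⟩) (h.mem_D.2 ⟨h2, h4⟩)
  min := fun i Y hY hn hne => h.min hY hn hne

/-- **THEOREM D0+**: `C_{Q i}(Qs i) = ⟨z i⟩`. -/
theorem D_eq {i : Fin 3 × Fin 3} {d : G} (hd : d ∈ Q i) (hc : ∀ y ∈ Qs i, d * y = y * d) :
    d = 1 ∨ d = z i :=
  h.conf.D_eq (h.conf.mem_D.2 ⟨hd, hc⟩)

open Cfsg.Agent.Co2Type.Quad in
/-- **THEOREM D0+**: `Q i` is large extraspecial. -/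
theorem large (i : Fin 3 × Fin 3)
    (self : ∀ g, g * z i = z i * g → (∀ x ∈ Q i, g * x = x * g) → g ∈ Q i) : Large (Q i) (z i) :=
  h.conf.large i self

end fin

end Gr

end Cfsg.Agent.Omega.NOne.Grid
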