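import Cfsg.Agent.Omega.NOne.LemmaT
import Cfsg.Agent.Omega.NOne.Frame
import Cfsg.Agent.Omega.NoFF.LinesPlug
import Cfsg.Agent.Lib.CoprimeCommutator

/-!
# NO-1, LEMMA NAT (text #11695 (3) of helper389, referee report #12877 of helper926), K-free

`S ≤ P`, `P` of characteristic 2, `V` abelian, normal in the 2-group `S`, `V ≰ Q = O₂(P)`,
`K = O²(P) ≤ ⟨V^P⟩`, `N = [Q, K]`; `l ≤ V`.

`(nat)` `[V, R] = C_V(R) = l` for every `R ≤ Ê` normalised by `S` and acting nontrivially on `V`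
(`V` natural for `SL₂(q')^k'`, `k' ≤ 2`, `Ê / C(V)` a Sylow 2-subgroup, `l = C_V(Ê)`);
`(irr)` every subgroup of `V` containing `l` and normalised by `S` and `T` is `l` or `V` (`T` a torus,
normalising `V` and `l`).

* `Hyp.not_cent` : `[l, K] ≠ 1` in a group of characteristic 2 type (part (i));
* `Hyp.ff` : if `[l, K] ≠ 1`, then `N` is abelian, `N = ⟨l^P⟩`, `[N, K] = N ≠ 1`, and
  `V ∩ Q = V ∩ N = C_V(N) = [V, N] = l` (part (ii));
* `Hyp.card_le` : `|N : C_N(V)| ≤ |V : V ∩ Q|` if `|Ê : C_Ê(V)| ≤ |V : l|`: the group `VQ/Q` is an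
  FF-offender on `N`.
-/

set_option autoImplicit false

namespace Cfsg.Agent.Omega.NOne.NatLem

open Subgroup Cfsg Cfsg.Agent.MinSimple.VModule Cfsg.Agent.MinSimple.Basic
open Cfsg.Agent.ZN (o2)
open Cfsg.Agent.Omega.NOne.Frame (norm_mem norm_mem' comm_of_le_centralizer le_centralizer_of_comm)
open scoped commutatorElement

universe u

variable {G : Type u} [Group G]

/-! ### General facts -/

theorem le_normalizer_of {T U : Subgroup G} (h : ∀ t ∈ T, ∀ x ∈ U, t * x * t⁻¹ ∈ U) :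
    T ≤ normalizer (U : Set G) := by
  intro s hs
  refine mem_normalizer_iff.mpr fun x => ⟨h s hs x, fun hx => ?_⟩
  have h3 := h s⁻¹ (inv_mem hs) _ hx
  have h4 : s⁻¹ * (s * x * s⁻¹) * s⁻¹⁻¹ = x := by group
  rwa [h4] at h3

theorem le_normalizer_commutator {X A B : Subgroup G} (hA : X ≤ normalizer (A : Set G))
    (hB : X ≤ normalizer (B : Set G)) : X ≤ normalizer ((⁅A, B⁆ : Subgroup G) : Set G) := by
  refine le_normalizer_of fun x hx y hy => ?_
  have h1 : ⁅A, B⁆ ≤ (⁅A, B⁆ : Subgroup G).comap (MulAut.conj x).toMonoidHom := by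
    rw [commutator_le]
    intro a ha b hb
    change x * ⁅a, b⁆ * x⁻¹ ∈ (⁅A, B⁆ : Subgroup G)
    have e : x * ⁅a, b⁆ * x⁻¹ = ⁅x * a * x⁻¹, x * b * x⁻¹⁆ := by
      simp only [commutatorElement_def]; group
    rw [e]
    exact commutator_mem_commutator (norm_mem (hA hx) ha) (norm_mem (hB hx) hb)
  exact h1 hy

theorem le_normalizer_inf {X A B : Subgroup G} (hA : X ≤ normalizer (A : Set G))
    (hB : X ≤ normalizer (B : Set G)) : X ≤ normalizer ((A ⊓ B : Subgroup G) : Set G) :=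
  le_normalizer_of fun _ hx _ hy =>
    mem_inf.2 ⟨norm_mem (hA hx) (mem_inf.1 hy).1, norm_mem (hB hx) (mem_inf.1 hy).2⟩

theorem exists_pow_of_two {F : Subgroup G} (hF : IsPGroup 2 F) {f : G} (hf : f ∈ F) :
    ∃ k : ℕ, f ^ 2 ^ k = 1 := by
  obtain ⟨k, hk⟩ := hF ⟨f, hf⟩
  exact ⟨k, congrArg Subtype.val hk⟩

/-- An element of odd order of a 2-group is trivial. -/
theorem eq_one_of_odd {x : G} (hx : Odd (orderOf x)) (h2 : ∃ k : ℕ, x ^ 2 ^ k = 1) : x = 1 := by
  obtain ⟨k, hk⟩ := h2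
  have h5 : orderOf x ∣ 2 ^ k := orderOf_dvd_of_pow_eq_one hk
  have h6 : (orderOf x).Coprime (2 ^ k) := Nat.Coprime.pow_right k (Nat.coprime_two_right.mpr hx)
  exact orderOf_eq_one_iff.1 (Nat.eq_one_of_dvd_coprimes h6 dvd_rfl h5)

/-- An element `x` of odd order moving `q` by a 2-element `f` commuting with `x` centralises `q`. -/
theorem odd_fix {x q f : G} (hx : Odd (orderOf x)) (hf : x * q * x⁻¹ = f * q)
    (hxf : x * f = f * x) (h2 : ∃ k : ℕ, f ^ 2 ^ k = 1) : f = 1 := by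
  have h1 := LemmaT.pow_conj_eq hf hxf (orderOf x)
  rw [pow_orderOf_eq_one, one_mul, inv_one, mul_one] at h1
  have h3 : f ^ orderOf x = 1 := (mul_eq_right.1 h1.symm)
  obtain ⟨k, hk⟩ := h2
  have h4 : orderOf f ∣ orderOf x := orderOf_dvd_of_pow_eq_one h3
  have h5 : orderOf f ∣ 2 ^ k := orderOf_dvd_of_pow_eq_one hk
  have h6 : (orderOf x).Coprime (2 ^ k) := Nat.Coprime.pow_right k (Nat.coprime_two_right.mpr hx)
  exact orderOf_eq_one_iff.1 (Nat.eq_one_of_dvd_coprimes h6 h4 h5)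

/-- `[Q, O²(P), O²(P)] = [Q, O²(P)]` for a 2-group `Q` normalised by `P`. -/
theorem comm_comm [Finite G] {P Q : Subgroup G} (hQ : IsPGroup 2 Q)
    (hPQ : P ≤ normalizer (Q : Set G)) :
    ⁅⁅Q, oddGen P⁆, oddGen P⁆ = ⁅Q, oddGen P⁆ := by
  have hKQ : oddGen P ≤ normalizer (Q : Set G) := (oddGen_le P).trans hPQ
  have hKK : oddGen P ≤ normalizer (oddGen P : Set G) := le_normalizer
  set M : Subgroup G := ⁅⁅Q, oddGen P⁆, oddGen P⁆ with hM
  have hKM : oddGen P ≤ normalizer (M : Set G) :=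
    le_normalizer_commutator (le_normalizer_commutator hKQ hKK) hKK
  refine le_antisymm (Lib.CoprimeCommutator.commutator_le_left (le_normalizer_commutator hKQ hKK)) ?_
  have key : ∀ k ∈ oddGen P, ∀ q ∈ Q, ⁅q, k⁆ ∈ M := by
    intro k hk
    rw [oddGen_def] at hk
    induction hk using closure_induction with
    | mem x hx =>
      intro q hq
      have hxK : x ∈ oddGen P := mem_oddGen hx.1 hx.2
      have hzK : zpowers x ≤ oddGen P := (zpowers_le).2 hxK
      have hcop : (Nat.card (zpowers x)).Coprime (Nat.card Q) := by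
        rw [Nat.card_zpowers]
        obtain ⟨n, hn⟩ := IsPGroup.iff_card.1 hQ
        rw [hn]
        exact Nat.Coprime.pow_right n (Nat.coprime_two_right.mpr hx.2)
      have h1 := Lib.CoprimeCommutator.commutator_commutator_eq (zpowers x) Q (hzK.trans hKQ) hcop
      have h2 : ⁅q, x⁆ ∈ ⁅Q, zpowers x⁆ := commutator_mem_commutator hq (mem_zpowers x)
      rw [← h1] at h2
      exact commutator_mono (commutator_mono le_rfl hzK) hzK h2
    | one => intro q _; simp
    | mul x y hx hy ihx ihy =>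
      intro q hq
      have hx' : x ∈ oddGen P := by rw [oddGen_def]; exact hx
      have h3 : ⁅q, x * y⁆ = ⁅q, x⁆ * (x * ⁅q, y⁆ * x⁻¹) := by
        simp only [commutatorElement_def]; group
      rw [h3]
      exact mul_mem (ihx q hq) (norm_mem (hKM hx') (ihy q hq))
    | inv x hx ih =>
      intro q hq
      have hx' : x ∈ oddGen P := by rw [oddGen_def]; exact hx
      have h3 : ⁅q, x⁻¹⁆ = x⁻¹ * ⁅q, x⁆⁻¹ * x := by
        simp only [commutatorElement_def]; group
      rw [h3]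
      exact norm_mem' (hKM hx') (inv_mem (ih q hq))
  rw [commutator_le]
  exact fun q hq k hk => key k hk q hq

/-! ### LEMMA NAT -/

/-- The situation of LEMMA NAT. -/
structure Hyp (S P V l Eh : Subgroup G) : Prop where
  sup : oddGen P ⊔ S = P
  two : IsPGroup 2 S
  Q_le : o2 P ≤ S
  char2 : P ⊓ centralizer (o2 P : Set G) ≤ o2 P
  comm : V ≤ centralizer (V : Set G)
  VS : V ≤ S
  SV : S ≤ normalizer (V : Set G)
  VQ : ¬ V ≤ o2 P
  gen : ∀ R : Subgroup G, R ≤ P → V ≤ R → P ≤ normalizer (R : Set G) → oddGen P ≤ R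
  acts : ⁅o2 P, oddGen P⁆ ≤ Eh
  nat : ∀ R : Subgroup G, R ≤ Eh → S ≤ normalizer (R : Set G) → ¬ R ≤ centralizer (V : Set G) →
    ⁅V, R⁆ = l ∧ V ⊓ centralizer (R : Set G) = l

/-- `⟨l^P⟩` -/
def J (P l : Subgroup G) : Subgroup G := closure {x | ∃ p ∈ P, ∃ a ∈ l, p * a * p⁻¹ = x}

theorem le_J (P l : Subgroup G) : l ≤ J P l := fun a ha =>
  subset_closure ⟨1, one_mem _, a, ha, by group⟩

theorem le_normalizer_J (P l : Subgroup G) : P ≤ normalizer (J P l : Set G) := by
  refine le_normalizer_of fun x hx y hy => ?_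
  have h1 : J P l ≤ (J P l).comap (MulAut.conj x).toMonoidHom := by
    refine (closure_le _).mpr ?_
    rintro _ ⟨p, hp, a, ha, rfl⟩
    refine subset_closure ⟨x * p, mul_mem hx hp, a, ha, ?_⟩
    change x * p * a * (x * p)⁻¹ = x * (p * a * p⁻¹) * x⁻¹
    group
  exact h1 hy

theorem J_le {P l U : Subgroup G} (h : l ≤ U) (hU : P ≤ normalizer (U : Set G)) : J P l ≤ U := by
  refine (closure_le _).mpr ?_
  rintro _ ⟨p, hp, a, ha, rfl⟩
  exact norm_mem (hU hp) (h ha)

/-- `N = [O₂(P), O²(P)]` -/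
abbrev N (P : Subgroup G) : Subgroup G := ⁅o2 P, oddGen P⁆

theorem le_normalizer_N (P : Subgroup G) : P ≤ normalizer (N P : Set G) :=
  le_normalizer_commutator (le_normalizer_o2 P) (le_normalizer_oddGen P)

theorem N_le_o2 (P : Subgroup G) : N P ≤ o2 P :=
  Lib.CoprimeCommutator.commutator_le_left ((oddGen_le P).trans (le_normalizer_o2 P))

/-- `[N, K] = N` -/
theorem comm_N [Finite G] (P : Subgroup G) : ⁅N P, oddGen P⁆ = N P :=
  comm_comm (o2_isPGroup P) (le_normalizer_o2 P)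

namespace Hyp

variable {S P V l Eh : Subgroup G} (h : Hyp S P V l Eh)
include h

theorem SP : S ≤ P := h.sup ▸ le_sup_right

theorem VP : V ≤ P := h.VS.trans h.SP

theorem N_le_S : N P ≤ S := (N_le_o2 P).trans h.Q_le

/-- `K` centralises a subgroup normalised by `P` and centralised by `V`. -/
theorem cent_of {U : Subgroup G} (hU : P ≤ normalizer (U : Set G))
    (hV : V ≤ centralizer (U : Set G)) : oddGen P ≤ centralizer (U : Set G) :=
  (h.gen (P ⊓ centralizer (U : Set G)) inf_le_left (le_inf h.VP hV)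
    (le_normalizer_inf le_normalizer
      (hU.trans (LemmaT.normalizer_le_normalizer_centralizer U)))).trans inf_le_right

/-- `K` centralises a subgroup normalised by `K` and centralised by `V`. -/
theorem cent_of' {U : Subgroup G} (hU : oddGen P ≤ normalizer (U : Set G))
    (hV : V ≤ centralizer (U : Set G)) : oddGen P ≤ centralizer (U : Set G) := by
  set R : Subgroup G := closure {x | ∃ k ∈ oddGen P, ∃ v ∈ V, k * v * k⁻¹ = x} with hR
  have hRP : R ≤ P := by
    refine (closure_le _).mpr ?_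
    rintro _ ⟨k, hk, v, hv, rfl⟩
    exact mul_mem (mul_mem (oddGen_le P hk) (h.VP hv)) (inv_mem (oddGen_le P hk))
  have hVR : V ≤ R := fun v hv => subset_closure ⟨1, one_mem _, v, hv, by group⟩
  have hn : P ≤ normalizer (R : Set G) := by
    rw [← h.sup]
    refine sup_le ?_ ?_
    · refine le_normalizer_of fun x hx y hy => ?_
      have h1 : R ≤ R.comap (MulAut.conj x).toMonoidHom := by
        refine (closure_le _).mpr ?_
        rintro _ ⟨k, hk, v, hv, rfl⟩
        refine subset_closure ⟨x * k, mul_mem hx hk, v, hv, ?_⟩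
        change x * k * v * (x * k)⁻¹ = x * (k * v * k⁻¹) * x⁻¹
        group
      exact h1 hy
    · refine le_normalizer_of fun x hx y hy => ?_
      have h1 : R ≤ R.comap (MulAut.conj x).toMonoidHom := by
        refine (closure_le _).mpr ?_
        rintro _ ⟨k, hk, v, hv, rfl⟩
        refine subset_closure ⟨x * k * x⁻¹, norm_mem (le_normalizer_oddGen P (h.SP hx)) hk,
          x * v * x⁻¹, norm_mem (h.SV hx) hv, ?_⟩
        change x * k * x⁻¹ * (x * v * x⁻¹) * (x * k * x⁻¹)⁻¹ = x * (k * v * k⁻¹) * x⁻¹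
        group
      exact h1 hy
  have h2 : R ≤ centralizer (U : Set G) := by
    refine (closure_le _).mpr ?_
    rintro _ ⟨k, hk, v, hv, rfl⟩
    refine mem_centralizer_iff.2 fun u hu => ?_
    have h3 := mem_centralizer_iff.1 (hV hv) _ (norm_mem' (hU hk) hu)
    calc u * (k * v * k⁻¹) = k * ((k⁻¹ * u * k) * v) * k⁻¹ := by group
      _ = k * (v * (k⁻¹ * u * k)) * k⁻¹ := by rw [h3]
      _ = k * v * k⁻¹ * u := by group
  exact (h.gen R hRP hVR hn).trans h2

/-- `K = O²(P)` is not a 2-group. -/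
theorem not_two {H : Subgroup G} (hH : IsPGroup 2 H) (hK : oddGen P ≤ H) : False := by
  have h1 : oddGen P = ⊥ := by
    rw [eq_bot_iff]
    conv_lhs => rw [oddGen_def]
    refine (closure_le _).mpr ?_
    rintro x ⟨hx, ho⟩
    exact mem_bot.2 (eq_one_of_odd ho (exists_pow_of_two hH (hK (mem_oddGen hx ho))))
  have h2 : P = S := by
    have := h.sup
    rw [h1, bot_sup_eq] at this
    exact this.symm
  have h3 : P ≤ o2 P := le_o2 le_rfl (by rw [h2]; exact h.two) le_normalizer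
  exact h.VQ (h.VP.trans h3)

/-- `N = [O₂(P), K] ≠ 1` -/
theorem N_ne_bot : N P ≠ ⊥ := by
  intro h1
  rw [N, commutator_comm, commutator_eq_bot_iff_le_centralizer] at h1
  exact h.not_two (o2_isPGroup P) ((le_inf (oddGen_le P) h1).trans h.char2)

theorem S_norm_N : S ≤ normalizer (N P : Set G) := h.SP.trans (le_normalizer_N P)

variable [Finite G]

/-- `N` acts nontrivially on `V`. -/
theorem N_not : ¬ N P ≤ centralizer (V : Set G) := by
  intro h1
  have h2 : V ≤ centralizer (N P : Set G) := le_centralizer_iff.1 h1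
  have h3 := h.cent_of (le_normalizer_N P) h2
  have h4 : ⁅N P, oddGen P⁆ = ⊥ := by
    rw [commutator_comm, commutator_eq_bot_iff_le_centralizer]
    exact h3
  rw [comm_N] at h4
  exact h.N_ne_bot h4

/-- `[V, N] = l` -/
theorem comm_VN : ⁅V, N P⁆ = l := (h.nat _ h.acts h.S_norm_N h.N_not).1

/-- `C_V(N) = l` -/
theorem V_inf_centralizer_N : V ⊓ centralizer (N P : Set G) = l :=
  (h.nat _ h.acts h.S_norm_N h.N_not).2

theorem l_le_V : l ≤ V := by
  have := h.V_inf_centralizer_N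
  exact this ▸ inf_le_left

theorem l_le_N : l ≤ N P := by
  have h1 : ⁅V, N P⁆ ≤ N P := by
    rw [commutator_comm]
    exact Lib.CoprimeCommutator.commutator_le_left (h.VP.trans (le_normalizer_N P))
  rwa [h.comm_VN] at h1

theorem l_cent_N : l ≤ centralizer (N P : Set G) := by
  have := h.V_inf_centralizer_N
  exact this ▸ inf_le_right

theorem S_norm_l : S ≤ normalizer (l : Set G) := by
  have h1 := le_normalizer_commutator h.SV h.S_norm_N
  rwa [h.comm_VN] at h1

theorem l_ne_bot : l ≠ ⊥ := by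
  intro h1
  have h2 := h.comm_VN
  rw [h1, commutator_comm, commutator_eq_bot_iff_le_centralizer] at h2
  exact h.N_not h2

/-- **LEMMA NAT (i).** `[l, K] ≠ 1`, if `N_G(l)` has characteristic 2. -/
theorem not_cent' {T : Subgroup G}
    (hc : normalizer (l : Set G) ⊓ centralizer (o2 (normalizer (l : Set G)) : Set G) ≤
      o2 (normalizer (l : Set G)))
    (hS : o2 (normalizer (l : Set G)) ≤ S)
    (hTV : T ≤ normalizer (V : Set G)) (hTl : T ≤ normalizer (l : Set G))
    (irr : ∀ U : Subgroup G, l ≤ U → U ≤ V → S ≤ normalizer (U : Set G) →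
      T ≤ normalizer (U : Set G) → U = l ∨ U = V) :
    ¬ oddGen P ≤ centralizer (l : Set G) := by
  intro hK
  set M : Subgroup G := normalizer (l : Set G) with hM
  have hKM : oddGen P ≤ M := hK.trans (LemmaT.centralizer_le_normalizer' l)
  have hPM : P ≤ M := by
    rw [← h.sup]
    exact sup_le hKM h.S_norm_l
  -- `H₀ = O₂(N_G(l)) ≤ O₂(P)`
  have hH : o2 M ≤ o2 P :=
    le_o2 (hS.trans h.SP) (o2_isPGroup M) (hPM.trans (le_normalizer_o2 M))
  -- `V ∩ H₀ = l`
  have hl : l ≤ o2 M := le_o2 le_normalizer (h.two.to_le (h.l_le_V.trans h.VS)) le_rfl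
  have hVH : V ⊓ o2 M = l := by
    refine (irr _ (le_inf h.l_le_V hl) inf_le_left
      (le_normalizer_inf h.SV (h.S_norm_l.trans (le_normalizer_o2 M)))
      (le_normalizer_inf hTV (hTl.trans (le_normalizer_o2 M)))).resolve_right fun h1 => ?_
    exact h.VQ ((inf_eq_left.1 h1).trans hH)
  -- `[H₀, K] ≤ l`
  have h2 : V ≤ Frame.stab P (o2 M) l hPM := by
    refine fun v hv => ⟨h.VP hv, fun r hr => ?_⟩
    rw [← hVH]
    refine Frame.comm_mem_inf ((h.VP.trans hPM).trans (le_normalizer_o2 M)) ?_ hv hr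
    exact hS.trans h.SV
  have h3 : P ≤ normalizer (Frame.stab P (o2 M) l hPM : Set G) := by
    refine le_normalizer_of fun x hx y hy => ⟨mul_mem (mul_mem hx hy.1) (inv_mem hx), fun r hr => ?_⟩
    have h4 := hy.2 _ (norm_mem' (le_normalizer_o2 M (hPM hx)) hr)
    have e : x * y * x⁻¹ * r * (x * y * x⁻¹)⁻¹ * r⁻¹ =
        x * (y * (x⁻¹ * r * x) * y⁻¹ * (x⁻¹ * r * x)⁻¹) * x⁻¹ := by group
    rw [e]
    exact norm_mem (hPM hx) h4
  have h4 : oddGen P ≤ Frame.stab P (o2 M) l hPM := h.gen _ (fun x hx => hx.1) h2 h3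
  have h5 : oddGen P ≤ centralizer (o2 M : Set G) := by
    conv_lhs => rw [oddGen_def]
    refine (closure_le _).mpr ?_
    rintro x ⟨hx, ho⟩
    have hxK := mem_oddGen hx ho
    refine mem_centralizer_iff.2 fun r hr => ?_
    have h6 := (h4 hxK).2 r hr
    have h7 : x * r * x⁻¹ * r⁻¹ = 1 :=
      odd_fix (x := x) (q := r) ho (by group) (mem_centralizer_iff.1 (hK hxK) _ h6).symm
        (exists_pow_of_two (o2_isPGroup M) (hl h6))
    calc r * x = x * r * x⁻¹ * r⁻¹ * (r * x) := by rw [h7, one_mul]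
      _ = x * r := by group
  exact h.not_two (o2_isPGroup M) ((le_inf hKM h5).trans hc)

/-- The conclusion of LEMMA NAT (ii). -/
structure _root_.Cfsg.Agent.Omega.NOne.NatLem.Out (P V l : Subgroup G) : Prop where
  /-- `N` is abelian -/
  abel : N P ≤ centralizer (N P : Set G)
  /-- `N = ⟨l^P⟩` -/
  eq_J : N P = J P l
  /-- `[V, N] = l` -/
  comm : ⁅V, N P⁆ = l
  /-- `V ∩ O₂(P) = l` -/
  VQ : V ⊓ o2 P = l
  /-- `V ∩ N = l` -/
  VN : V ⊓ N P = l
  /-- `C_V(N) = l` -/
  CVN : V ⊓ centralizer (N P : Set G) = l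
  /-- `[N, V] ≠ 1` -/
  not_cent : ¬ N P ≤ centralizer (V : Set G)

/-- **LEMMA NAT (ii).** -/
theorem out (hl : ¬ oddGen P ≤ centralizer (l : Set G)) : Out P V l := by
  have hPN := le_normalizer_N P
  have hJN : J P l ≤ N P := J_le h.l_le_N hPN
  have hJZ : J P l ≤ centralizer (N P : Set G) :=
    J_le h.l_cent_N (hPN.trans (LemmaT.normalizer_le_normalizer_centralizer _))
  have hNJ : N P ≤ centralizer (J P l : Set G) := le_centralizer_iff.1 hJZ
  have hJV : ¬ J P l ≤ centralizer (V : Set G) := by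
    intro h1
    refine hl ((h.cent_of (le_normalizer_J P l) (le_centralizer_iff.1 h1)).trans ?_)
    exact centralizer_le (le_J P l)
  have hCJ : V ⊓ centralizer (J P l : Set G) = l :=
    (h.nat _ (hJN.trans h.acts) (h.SP.trans (le_normalizer_J P l)) hJV).2
  have hVN : V ⊓ N P = l := by
    refine le_antisymm ?_ (le_inf h.l_le_V h.l_le_N)
    rw [← hCJ]
    exact inf_le_inf_left V hNJ
  -- `N ≤ J`
  have hle : N P ≤ J P l := by
    have h2 : V ≤ Frame.stab P (N P) (J P l) (le_normalizer_J P l) := by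
      refine fun v hv => ⟨h.VP hv, fun r hr => le_J P l ?_⟩
      rw [← h.comm_VN]
      exact commutator_mem_commutator hv hr
    have h3 : P ≤ normalizer (Frame.stab P (N P) (J P l) (le_normalizer_J P l) : Set G) := by
      refine le_normalizer_of fun x hx y hy =>
        ⟨mul_mem (mul_mem hx hy.1) (inv_mem hx), fun r hr => ?_⟩
      have h4 := hy.2 _ (norm_mem' (hPN hx) hr)
      have e : x * y * x⁻¹ * r * (x * y * x⁻¹)⁻¹ * r⁻¹ =
          x * (y * (x⁻¹ * r * x) * y⁻¹ * (x⁻¹ * r * x)⁻¹) * x⁻¹ := by group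
      rw [e]
      exact norm_mem (le_normalizer_J P l hx) h4
    have h4 : oddGen P ≤ Frame.stab P (N P) (J P l) (le_normalizer_J P l) :=
      h.gen _ (fun x hx => hx.1) h2 h3
    rw [← comm_N P, commutator_le]
    intro n hn k hk
    have h5 := inv_mem ((h4 hk).2 n hn)
    have e : (k * n * k⁻¹ * n⁻¹)⁻¹ = ⁅n, k⁆ := by rw [commutatorElement_def]; group
    rwa [e] at h5
  have hab : N P ≤ centralizer (N P : Set G) := hle.trans hJZ
  -- `V ∩ Q ≤ C(N)`
  have hE : V ⊓ o2 P ≤ centralizer (N P : Set G) := by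
    intro d hd
    obtain ⟨hdV, hdQ⟩ := mem_inf.1 hd
    have hdN : d ∈ normalizer (N P : Set G) := hPN (h.VP hdV)
    have hc : ∀ a ∈ N P, ∀ b ∈ N P, a * b = b * a := fun a ha b hb =>
      comm_of_le_centralizer hab ha hb
    have hφ : ∀ n ∈ N P, n * d * n⁻¹ * d⁻¹ ∈ N P := by
      intro n hn
      have e : n * d * n⁻¹ * d⁻¹ = n * (d * n⁻¹ * d⁻¹) := by group
      rw [e]
      exact mul_mem hn (norm_mem hdN (inv_mem hn))
    -- equivariance
    have heq : ∀ k ∈ oddGen P, ∀ n ∈ N P,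
        k * (n * d * n⁻¹ * d⁻¹) * k⁻¹ = (k * n * k⁻¹) * d * (k * n * k⁻¹)⁻¹ * d⁻¹ := by
      intro k hk n hn
      have hn' : k * n * k⁻¹ ∈ N P := norm_mem (hPN (oddGen_le P hk)) hn
      set m := k * n * k⁻¹ with hm
      have hcN : k * d * k⁻¹ * d⁻¹ ∈ N P := by
        rw [N, commutator_comm]
        exact commutator_mem_commutator hk hdQ
      set c := k * d * k⁻¹ * d⁻¹ with hc'
      have e1 : k * (n * d * n⁻¹ * d⁻¹) * k⁻¹ = m * (c * d) * m⁻¹ * (c * d)⁻¹ := by
        rw [hm, hc']; group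
      have e2 : m * (c * d) * m⁻¹ * (c * d)⁻¹ = (m * c) * (d * m⁻¹ * d⁻¹) * c⁻¹ := by group
      have e3 : c * (m * (d * m⁻¹ * d⁻¹)) = m * (d * m⁻¹ * d⁻¹) * c :=
        hc c hcN _ (mul_mem hn' (norm_mem hdN (inv_mem hn')))
      rw [e1, e2, hc m hn' c hcN, mul_assoc c m, e3, mul_inv_cancel_right]
      group
    set U : Subgroup G := closure {x | ∃ n ∈ N P, n * d * n⁻¹ * d⁻¹ = x} with hU
    have hUV : U ≤ V := by
      refine (closure_le _).mpr ?_
      rintro _ ⟨n, hn, rfl⟩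
      exact mul_mem (norm_mem (h.SV (h.N_le_S hn)) hdV) (inv_mem hdV)
    have hKU : oddGen P ≤ normalizer (U : Set G) := by
      refine le_normalizer_of fun k hk y hy => ?_
      have h1 : U ≤ U.comap (MulAut.conj k).toMonoidHom := by
        refine (closure_le _).mpr ?_
        rintro _ ⟨n, hn, rfl⟩
        refine subset_closure ⟨k * n * k⁻¹, norm_mem (hPN (oddGen_le P hk)) hn, ?_⟩
        exact (heq k hk n hn).symm
      exact h1 hy
    have hVU : V ≤ centralizer (U : Set G) := h.comm.trans (centralizer_le hUV)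
    have hKc := h.cent_of' hKU hVU
    have h6 : N P ≤ centralizer {d} := by
      rw [← comm_N P, commutator_le]
      intro n hn k hk
      have hmem : n * d * n⁻¹ * d⁻¹ ∈ U := subset_closure ⟨n, hn, rfl⟩
      have h7 := mem_centralizer_iff.1 (hKc hk) _ hmem
      have h8 := heq k hk n hn
      rw [← h7, mul_inv_cancel_right] at h8
      have hn' : k * n * k⁻¹ ∈ N P := norm_mem (hPN (oddGen_le P hk)) hn
      set m := k * n * k⁻¹ with hm
      have h9 : n * d * n⁻¹ = m * d * m⁻¹ := mul_right_cancel h8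
      have h10 : ⁅n, k⁆ = m⁻¹ * n := by
        rw [← hc n hn m⁻¹ (inv_mem hn'), hm, commutatorElement_def]; group
      rw [h10, mem_centralizer_singleton_iff]
      calc m⁻¹ * n * d = m⁻¹ * (n * d * n⁻¹) * n := by group
        _ = m⁻¹ * (m * d * m⁻¹) * n := by rw [h9]
        _ = d * (m⁻¹ * n) := by group
    exact mem_centralizer_iff.2 fun n hn => mem_centralizer_singleton_iff.1 (h6 hn)
  refine ⟨hab, le_antisymm hle hJN, h.comm_VN, ?_, hVN, h.V_inf_centralizer_N, h.N_not⟩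
  refine le_antisymm ?_ (le_inf h.l_le_V (h.l_le_N.trans (N_le_o2 P)))
  rw [← h.V_inf_centralizer_N]
  exact le_inf inf_le_left hE

/-- `V ∩ O₂(P) = l` and `|N : C_N(V)| ≤ |V : l|`: `V O₂(P) / O₂(P)` is an FF-offender on `N`. -/
theorem card_le (hcard : (Eh ⊓ centralizer (V : Set G)).relIndex Eh ≤ l.relIndex V) :
    (N P ⊓ centralizer (V : Set G)).relIndex (N P) ≤ l.relIndex V := by
  refine le_trans ?_ hcard
  rw [inf_relIndex_left, inf_relIndex_left]
  exact relIndex_le_of_le_right h.acts index_ne_zero_of_finite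

end Hyp

namespace Out

variable {P V l : Subgroup G} (h : Out P V l)
include h

/-- `N` is elementary abelian if `V` is. -/
theorem sq (hsq : ∀ v ∈ V, v ^ 2 = 1) {n : G} (hn : n ∈ N P) : n ^ 2 = 1 := by
  have h1 : N P ≤ normalizer (N P : Set G) := le_normalizer
  rw [h.eq_J, J] at hn
  induction hn using closure_induction with
  | mem x hx =>
    obtain ⟨p, hp, a, ha, rfl⟩ := hx
    have h2 : a ^ 2 = 1 := hsq a (h.VQ ▸ ha : a ∈ V ⊓ o2 P).1
    rw [conj_pow, h2, mul_one, mul_inv_cancel]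
  | one => exact one_pow 2
  | mul x y hx hy ihx ihy =>
    have hx' : x ∈ N P := by rw [h.eq_J]; exact hx
    have hy' : y ∈ N P := by rw [h.eq_J]; exact hy
    have h2 : Commute x y := comm_of_le_centralizer h.abel hx' hy'
    rw [h2.mul_pow, ihx, ihy, mul_one]
  | inv x hx ih => rw [inv_pow, ih, inv_one]

end Out

/-! ### Minimal parabolics over a Sylow 2-subgroup -/

section Par

variable [Finite G]

theorem _root_.Cfsg.Agent.MinSimple.MinParabolic.IsMinPar.gen {S P V : Subgroup G}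
    (h : MinSimple.MinParabolic.IsMinPar S P) (hS : IsPGroup 2 S) (hSyl : ¬ 2 ∣ S.relIndex P)
    (hVS : V ≤ S) (hV : ¬ V ≤ o2 P) (R : Subgroup G) (hR : R ≤ P) (hVR : V ≤ R)
    (hn : P ≤ normalizer (R : Set G)) : oddGen P ≤ R := by
  have : Fact (Nat.Prime 2) := ⟨Nat.prime_two⟩
  rcases h.sup_eq_or_inf_le (p := 2) hS hSyl hR hn with h1 | h1
  · exact oddGen_le_of_sup hn h1.ge h.le hR hS
  · exact absurd ((le_inf hVS hVR).trans h1) hV

/-- The hypothesis of LEMMA NAT for a minimal parabolic `P`. -/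
theorem Hyp.of_minPar (S : Sylow 2 G) {P V l Eh : Subgroup G}
    (h : MinSimple.MinParabolic.IsMinPar (S : Subgroup G) P)
    (hc : P ⊓ centralizer (o2 P : Set G) ≤ o2 P) (comm : V ≤ centralizer (V : Set G))
    (VS : V ≤ (S : Subgroup G)) (SV : (S : Subgroup G) ≤ normalizer (V : Set G))
    (VQ : ¬ V ≤ o2 P) (acts : ⁅o2 P, oddGen P⁆ ≤ Eh)
    (nat : ∀ R : Subgroup G, R ≤ Eh → (S : Subgroup G) ≤ normalizer (R : Set G) →
      ¬ R ≤ centralizer (V : Set G) → ⁅V, R⁆ = l ∧ V ⊓ centralizer (R : Set G) = l) :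
    Hyp (S : Subgroup G) P V l Eh where
  sup := NoFF.LinesPlug.oddGen_sup h.le (MinSimple.Basic.not_dvd_relIndex S h.le)
  two := S.isPGroup'
  Q_le := o2_le_of_sylow S.isPGroup' (MinSimple.Basic.not_dvd_relIndex S h.le)
  char2 := hc
  comm := comm
  VS := VS
  SV := SV
  VQ := VQ
  gen := h.gen S.isPGroup' (MinSimple.Basic.not_dvd_relIndex S h.le) VS VQ
  acts := acts
  nat := nat

end Par

end Cfsg.Agent.Omega.NOne.NatLem
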