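import Cfsg.Agent.Omega.NOne.PlusCore

/-!
# NO-1, THEOREM D0+ (#12107, referee #12381): the 3 × 3 grid

Nine points `z (a, b)` (the singular vectors `a ⊗ b` of `N₁ ⊗ N₂ = O₄⁺(2)`), `M` permutes them,
`Qs i ≤ Q i ≤ M` subgroups of `C(z i)`, `[Qs i, Q i] ≤ ⟨z i⟩`, `Qs (a, b)` contains all points of
the two lines through `(a, b)` and induces `⟨t_a⟩ × ⟨t_b⟩`; every point `z i` is the only
involution in the centre of a suitable 2-subgroup `S` of `C_M(z i)` containing `Q i`.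
Then `C_{Q i}(Qs i) = ⟨z i⟩` and `Q i` is large extraspecial.
-/

set_option autoImplicit false

namespace Cfsg.Agent.Omega.NOne.Grid

open Subgroup Cfsg.Agent.Omega.NOne.Core

/-- The third point of a line of `N = 2²` (`th a a = a`): the reflection fixing `a`. -/
def th (a b : Fin 3) : Fin 3 := -(a + b)

theorem th_comm : ∀ a b, th a b = th b a := by decide
theorem th_ne_left : ∀ a b, a ≠ b → th a b ≠ a := by decide
theorem th_ne_right : ∀ a b, a ≠ b → th a b ≠ b := by decide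
theorem th_th : ∀ a b, th a (th a b) = b := by decide
theorem th_self : ∀ a, th a a = a := by decide
theorem th_inj : ∀ a b c, th a b = th a c → b = c := by decide
theorem th_cases : ∀ a b x, a ≠ b → x = a ∨ x = b ∨ x = th a b := by decide
theorem eq_th : ∀ a b x, a ≠ b → x ≠ a → x ≠ b → x = th a b := by decide
theorem exists_ne' : ∀ a : Fin 3, ∃ b, a ≠ b := by decide

/-- opposite points of the grid -/
def opp (i j : Fin 3 × Fin 3) : Prop := i.1 ≠ j.1 ∧ i.2 ≠ j.2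

/-- an injective map of the grid preserving collinearity, first type -/
theorem line_aux (f : Fin 3 × Fin 3 → Fin 3 × Fin 3) (hf : Function.Injective f)
    (hc : ∀ i j, ¬ opp i j → ¬ opp (f i) (f j)) (h1 : (f (0, 1)).1 = (f (0, 0)).1) :
    ∃ σ τ : Fin 3 → Fin 3, ∀ a b, f (a, b) = (σ a, τ b) := by
  have hcc : ∀ i j, ¬ opp i j → (f i).1 = (f j).1 ∨ (f i).2 = (f j).2 := by
    intro i j hij
    have := hc i j hij
    unfold opp at this
    tauto
  have hne : ∀ i j, i ≠ j → ¬ ((f i).1 = (f j).1 ∧ (f i).2 = (f j).2) := by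
    intro i j hij ⟨h2, h3⟩
    exact hij (hf (Prod.ext h2 h3))
  -- row 0
  have r0 : ∀ b, (f (0, b)).1 = (f (0, 0)).1 := by
    intro b
    have hb : b = 0 ∨ b = 1 ∨ b = 2 := by revert b; decide
    rcases hb with rfl | rfl | rfl
    · rfl
    · exact h1
    · have e1 := hcc (0, 2) (0, 0) (by unfold opp; decide)
      have e2 := hcc (0, 2) (0, 1) (by unfold opp; decide)
      have e3 := hne (0, 1) (0, 0) (by decide)
      rcases e1 with e1 | e1
      · exact e1
      · rcases e2 with e2 | e2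
        · rw [e2, h1]
        · exact absurd ⟨h1, by rw [← e1, ← e2]⟩ e3
  have inj0 : ∀ b b', (f (0, b)).2 = (f (0, b')).2 → b = b' := by
    intro b b' hb
    by_contra hbb
    exact hne (0, b) (0, b') (fun h => hbb (congrArg Prod.snd h)) ⟨(r0 b).trans (r0 b').symm, hb⟩
  have hsurj : ∀ x : Fin 3, ∃ b, (f (0, b)).2 = x := by
    have : Function.Surjective fun b => (f (0, b)).2 :=
      Finite.surjective_of_injective fun b b' hb => inj0 b b' hb
    exact this
  -- column 0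
  have c1 : ∀ a, a ≠ 0 → (f (a, 0)).1 ≠ (f (0, 0)).1 := by
    intro a ha e
    obtain ⟨b, hb⟩ := hsurj (f (a, 0)).2
    have := hf (Prod.ext (e.trans (r0 b).symm) hb.symm)
    exact ha (congrArg Prod.fst this)
  have c2 : ∀ a, (f (a, 0)).2 = (f (0, 0)).2 := by
    intro a
    by_cases ha : a = 0
    · rw [ha]
    · rcases hcc (a, 0) (0, 0) (by unfold opp; simp) with e | e
      · exact absurd e (c1 a ha)
      · exact e
  refine ⟨fun a => (f (a, 0)).1, fun b => (f (0, b)).2, fun a b => ?_⟩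
  by_cases ha : a = 0
  · subst ha; exact Prod.ext (r0 b) rfl
  by_cases hb : b = 0
  · subst hb; exact Prod.ext rfl (c2 a)
  have e1 := hcc (a, b) (0, b) (by unfold opp; simp)
  have e2 := hcc (a, b) (a, 0) (by unfold opp; simp)
  rcases e1 with e1 | e1
  · exfalso
    rcases e2 with e2 | e2
    · exact c1 a ha (by rw [← e2, e1, r0])
    · have : f (a, b) = f (0, 0) := Prod.ext (e1.trans (r0 b)) (e2.trans (c2 a))
      exact ha (congrArg Prod.fst (hf this))
  · rcases e2 with e2 | e2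
    · exact Prod.ext e2 e1
    · exfalso
      have h3 : (f (0, b)).2 = (f (0, 0)).2 := by rw [← e1, e2, c2]
      exact hb (inj0 b 0 h3)

theorem line (f : Fin 3 × Fin 3 → Fin 3 × Fin 3) (hf : Function.Injective f)
    (hc : ∀ i j, ¬ opp i j → ¬ opp (f i) (f j)) :
    ∃ σ τ : Fin 3 → Fin 3, (∀ a b, f (a, b) = (σ a, τ b)) ∨ (∀ a b, f (a, b) = (τ b, σ a)) := by
  have h0 : (f (0, 1)).1 = (f (0, 0)).1 ∨ (f (0, 1)).2 = (f (0, 0)).2 := by
    have := hc (0, 1) (0, 0) (by unfold opp; decide)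
    unfold opp at this
    tauto
  rcases h0 with h0 | h0
  · obtain ⟨σ, τ, h⟩ := line_aux f hf hc h0
    exact ⟨σ, τ, Or.inl h⟩
  · obtain ⟨σ, τ, h⟩ := line_aux (fun i => (f i).swap) (fun i j hij => hf (Prod.swap_injective hij))
      (fun i j hij ho => hc i j hij ⟨ho.2, ho.1⟩) h0
    refine ⟨σ, τ, Or.inr fun a b => ?_⟩
    have := congrArg Prod.swap (h a b)
    simpa using this

variable {G : Type*} [Group G]

/-- fixed points of a 2-group acting on a 2-group: an involution. -/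
theorem exists_fixed_inv [Finite G] {S Y : Subgroup G} (hS : IsPGroup 2 S) (hY : IsPGroup 2 Y)
    (hn : ∀ s ∈ S, ∀ y ∈ Y, s * y * s⁻¹ ∈ Y) (hne : Y ≠ ⊥) :
    ∃ y ∈ Y, y ≠ 1 ∧ y * y = 1 ∧ ∀ s ∈ S, s * y = y * s := by
  have : Fact (Nat.Prime 2) := ⟨Nat.prime_two⟩
  let act : MulAction S Y :=
    { smul := fun s y => ⟨s * y * (s : G)⁻¹, hn s s.2 y y.2⟩
      one_smul := fun y => Subtype.ext (by change (1 : G) * y * (1 : G)⁻¹ = y; simp)
      mul_smul := fun s t y => Subtype.ext (by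
        change ((s * t : S) : G) * y * ((s * t : S) : G)⁻¹ = s * (t * y * (t : G)⁻¹) * (s : G)⁻¹
        rw [Subgroup.coe_mul]; group) }
  have h2 : 2 ∣ Nat.card Y := by
    obtain ⟨n, hn⟩ := hY.exists_card_eq
    rw [hn]
    refine dvd_pow_self 2 ?_
    rintro rfl
    rw [pow_zero] at hn
    exact hne (Subgroup.card_eq_one.1 hn)
  have h1 : (1 : Y) ∈ MulAction.fixedPoints S Y := by
    intro s
    apply Subtype.ext
    change (s : G) * 1 * (s : G)⁻¹ = 1
    group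
  obtain ⟨b, hb, hb1⟩ := hS.exists_fixed_point_of_prime_dvd_card_of_fixed_point Y h2 h1
  have hbc : ∀ s ∈ S, s * (b : G) = b * s := by
    intro s hs
    have := congrArg Subtype.val (hb ⟨s, hs⟩)
    exact conj_comm this
  -- take a power of order two
  obtain ⟨k, hk⟩ := hY b
  have hk' : (b : G) ^ 2 ^ k = 1 := by
    have := congrArg Subtype.val hk
    simpa using this
  have hex : ∃ n : ℕ, (b : G) ^ 2 ^ n = 1 := ⟨k, hk'⟩
  classical
  have hm := Nat.find_spec hex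
  have hpos : Nat.find hex ≠ 0 := by
    intro h0
    rw [h0, pow_zero, pow_one] at hm
    exact hb1 (Subtype.ext hm.symm)
  obtain ⟨n, hn'⟩ := Nat.exists_eq_succ_of_ne_zero hpos
  have hlt : (b : G) ^ 2 ^ n ≠ 1 := fun h => Nat.find_min hex (by omega) h
  refine ⟨(b : G) ^ 2 ^ n, Y.pow_mem b.2 _, hlt, ?_, fun s hs => ?_⟩
  · rw [← pow_two, ← pow_mul, ← pow_succ, ← Nat.succ_eq_add_one, ← hn']
    exact hm
  · exact (Commute.pow_right (hbc s hs) _)

/-- The configuration of THEOREM D0+. -/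
structure Gr (M : Subgroup G) (z : Fin 3 × Fin 3 → G) (Q Qs : Fin 3 × Fin 3 → Subgroup G) :
    Prop where
  inj : Function.Injective z
  ne_one : ∀ i, z i ≠ 1
  sq : ∀ i, z i * z i = 1
  comm : ∀ i j, z i * z j = z j * z i
  row : ∀ a b b', b ≠ b' → z (a, b) * z (a, b') = z (a, th b b')
  col : ∀ b a a', a ≠ a' → z (a, b) * z (a', b) = z (th a a', b)
  QM : ∀ i, Q i ≤ M
  perm : ∀ m ∈ M, ∀ i, ∃ j, m * z i * m⁻¹ = z j
  eqQ : ∀ m ∈ M, ∀ i j, m * z i * m⁻¹ = z j → ∀ x ∈ Q i, m * x * m⁻¹ ∈ Q j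
  eqQs : ∀ m ∈ M, ∀ i j, m * z i * m⁻¹ = z j → ∀ x ∈ Qs i, m * x * m⁻¹ ∈ Qs j
  nQ : ∀ i c, c * z i = z i * c → ∀ x ∈ Q i, c * x * c⁻¹ ∈ Q i
  nQs : ∀ i c, c * z i = z i * c → ∀ x ∈ Qs i, c * x * c⁻¹ ∈ Qs i
  le : ∀ i, Qs i ≤ Q i
  mem : ∀ a b c, z (a, c) ∈ Qs (a, b) ∧ z (c, b) ∈ Qs (a, b)
  Qz : ∀ i, ∀ x ∈ Q i, x * z i = z i * x
  comQ : ∀ i, ∀ x ∈ Qs i, ∀ y ∈ Q i, x * y = y * x ∨ x * y = z i * (y * x)
  act1 : ∀ a b, ∃ u ∈ Qs (a, b), ∀ c d, u * z (c, d) * u⁻¹ = z (th a c, d)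
  act2 : ∀ a b, ∃ v ∈ Qs (a, b), ∀ c d, v * z (c, d) * v⁻¹ = z (c, th b d)
  syl : ∀ i, ∃ S : Subgroup G, S ≤ M ∧ (∀ s ∈ S, s * z i = z i * s) ∧ IsPGroup 2 S ∧ Q i ≤ S ∧
    ∀ y ∈ S, (∀ s ∈ S, s * y = y * s) → y * y = 1 → y = 1 ∨ y = z i

namespace Gr

variable {M : Subgroup G} {z : Fin 3 × Fin 3 → G} {Q Qs : Fin 3 × Fin 3 → Subgroup G}

/-- the transposed grid -/
theorem transp (h : Gr M z Q Qs) :
    Gr M (fun i => z i.swap) (fun i => Q i.swap) (fun i => Qs i.swap) where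
  inj := fun i j hij => Prod.swap_injective (h.inj hij)
  ne_one := fun i => h.ne_one _
  sq := fun i => h.sq _
  comm := fun i j => h.comm _ _
  row := fun a b b' hb => h.col a b b' hb
  col := fun b a a' ha => h.row b a a' ha
  QM := fun i => h.QM _
  perm := fun m hm i => by
    obtain ⟨j, hj⟩ := h.perm m hm i.swap
    exact ⟨j.swap, by rw [Prod.swap_swap]; exact hj⟩
  eqQ := fun m hm i j => h.eqQ m hm _ _
  eqQs := fun m hm i j => h.eqQs m hm _ _
  nQ := fun i => h.nQ _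
  nQs := fun i => h.nQs _
  le := fun i => h.le _
  mem := fun a b c => ⟨(h.mem b a c).2, (h.mem b a c).1⟩
  Qz := fun i => h.Qz _
  comQ := fun i => h.comQ _
  act1 := fun a b => by
    obtain ⟨v, hv, h1⟩ := h.act2 b a
    exact ⟨v, hv, fun c d => h1 d c⟩
  act2 := fun a b => by
    obtain ⟨v, hv, h1⟩ := h.act1 b a
    exact ⟨v, hv, fun c d => h1 d c⟩
  syl := fun i => h.syl _

variable (h : Gr M z Q Qs)
include h

theorem zinv (i : Fin 3 × Fin 3) : (z i)⁻¹ = z i := inv_eq_of_mul_eq_one_left (h.sq i)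

theorem QsM (i : Fin 3 × Fin 3) : Qs i ≤ M := (h.le i).trans (h.QM i)

theorem cancel (i j : Fin 3 × Fin 3) : z i * (z i * z j) = z j := by
  rw [← mul_assoc, h.sq, one_mul]

theorem cancel' (i : Fin 3 × Fin 3) (x : G) : z i * (z i * x) = x := by
  rw [← mul_assoc, h.sq, one_mul]

theorem row' (a b b' : Fin 3) : z (a, b) * z (a, b') = 1 ∨ z (a, b) * z (a, b') = z (a, th b b') := by
  by_cases hb : b = b'
  · left; rw [hb, h.sq]
  · right; exact h.row a b b' hb

theorem col' (b a a' : Fin 3) : z (a, b) * z (a', b) = 1 ∨ z (a, b) * z (a', b) = z (th a a', b) := by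
  by_cases ha : a = a'
  · left; rw [ha, h.sq]
  · right; exact h.col b a a' ha

/-- the product of two opposite points is not a point. -/
theorem opp_mul {i j : Fin 3 × Fin 3} (hij : opp i j) (k : Fin 3 × Fin 3) : z i * z j ≠ z k := by
  obtain ⟨a, b⟩ := i
  obtain ⟨a', b'⟩ := j
  obtain ⟨c, d⟩ := k
  obtain ⟨ha, hb⟩ : a ≠ a' ∧ b ≠ b' := hij
  intro e
  have e1 : z (a', b') = z (a, b) * z (c, d) := by rw [← e, h.cancel]
  have e2 : z (a, b) = z (a', b') * z (c, d) := by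
    rw [← e, h.comm (a, b) (a', b'), h.cancel]
  rcases th_cases a a' c ha with rfl | rfl | hc
  · rcases h.row' c b d with h1 | h1
    · rw [h1] at e1; exact h.ne_one _ e1
    · rw [h1] at e1; exact ha (congrArg Prod.fst (h.inj e1)).symm
  · rcases h.row' c b' d with h1 | h1
    · rw [h1] at e2; exact h.ne_one _ e2
    · rw [h1] at e2; exact ha (congrArg Prod.fst (h.inj e2))
  rcases th_cases b b' d hb with rfl | rfl | hd
  · rcases h.col' d a c with h1 | h1
    · rw [h1] at e1; exact h.ne_one _ e1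
    · rw [h1] at e1; exact hb (congrArg Prod.snd (h.inj e1)).symm
  · rcases h.col' d a' c with h1 | h1
    · rw [h1] at e2; exact h.ne_one _ e2
    · rw [h1] at e2; exact hb (congrArg Prod.snd (h.inj e2))
  rw [hc, hd, ← h.row (th a a') b b' hb, ← h.col b a a' ha, ← h.col b' a a' ha] at e
  have e3 : z (a, b) * z (a', b') * (z (a', b) * z (a, b')) = z (a, b) * z (a', b') := by
    calc z (a, b) * z (a', b') * (z (a', b) * z (a, b'))
        = z (a, b) * z (a', b) * (z (a, b') * z (a', b')) * (z (a', b) * z (a, b')) := by rw [e]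
      _ = z (a, b) * (z (a', b) * z (a, b')) * (z (a', b') * (z (a', b) * z (a, b'))) := by group
      _ = z (a, b) * (z (a', b) * z (a, b')) * ((z (a', b') * z (a', b)) * z (a, b')) := by group
      _ = z (a, b) * (z (a', b) * z (a, b')) * ((z (a', b) * z (a', b')) * z (a, b')) := by
          rw [h.comm (a', b') (a', b)]
      _ = z (a, b) * (z (a', b) * z (a, b')) * (z (a', b) * (z (a', b') * z (a, b'))) := by group
      _ = z (a, b) * (z (a', b) * z (a, b')) * (z (a', b) * (z (a, b') * z (a', b'))) := by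
          rw [h.comm (a', b') (a, b')]
      _ = z (a, b) * (z (a', b) * (z (a, b') * z (a', b))) * (z (a, b') * z (a', b')) := by group
      _ = z (a, b) * (z (a', b) * (z (a', b) * z (a, b'))) * (z (a, b') * z (a', b')) := by
          rw [h.comm (a, b') (a', b)]
      _ = z (a, b) * (z (a, b') * (z (a, b') * z (a', b'))) := by rw [h.cancel]; group
      _ = z (a, b) * z (a', b') := by rw [h.cancel]
  have e4 : z (a', b) * z (a, b') = 1 := mul_eq_left.1 e3
  have e5 : z (a', b) = z (a, b') := by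
    rw [← h.zinv (a, b')]; exact eq_inv_of_mul_eq_one_left e4
  exact ha (congrArg Prod.fst (h.inj e5)).symm

/-- collinear points have a point (or `1`) as product -/
theorem col_mul {i j : Fin 3 × Fin 3} (hij : ¬ opp i j) : z i * z j = 1 ∨ ∃ k, z i * z j = z k := by
  obtain ⟨a, b⟩ := i
  obtain ⟨a', b'⟩ := j
  by_cases ha : a = a'
  · subst ha
    rcases h.row' a b b' with h1 | h1
    · exact Or.inl h1
    · exact Or.inr ⟨_, h1⟩
  by_cases hb : b = b'
  · subst hb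
    rcases h.col' b a a' with h1 | h1
    · exact Or.inl h1
    · exact Or.inr ⟨_, h1⟩
  exact absurd ⟨ha, hb⟩ hij

/-- `M` preserves collinearity. -/
theorem pcol {m : G} (hm : m ∈ M) {i j i' j' : Fin 3 × Fin 3} (hi : m * z i * m⁻¹ = z i')
    (hj : m * z j * m⁻¹ = z j') (hij : ¬ opp i j) : ¬ opp i' j' := by
  intro ho
  have e : m * (z i * z j) * m⁻¹ = z i' * z j' := by rw [← hi, ← hj]; group
  rcases h.col_mul hij with h1 | ⟨k, h1⟩
  · rw [h1] at e
    have e1 : z i' * z j' = 1 := by rw [← e]; group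
    have e2 : i' = j' := h.inj (by rw [← h.zinv j']; exact eq_inv_of_mul_eq_one_left e1)
    exact ho.1 (by rw [e2])
  · rw [h1] at e
    obtain ⟨k', hk'⟩ := h.perm m hm k
    exact h.opp_mul ho k' (by rw [← e, hk'])

theorem popp {m : G} (hm : m ∈ M) {i j i' j' : Fin 3 × Fin 3} (hi : m * z i * m⁻¹ = z i')
    (hj : m * z j * m⁻¹ = z j') (hij : opp i j) : opp i' j' := by
  by_contra ho
  have hi' : m⁻¹ * z i' * m⁻¹⁻¹ = z i := by rw [← hi]; group
  have hj' : m⁻¹ * z j' * m⁻¹⁻¹ = z j := by rw [← hj]; group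
  exact h.pcol (inv_mem hm) hi' hj' ho hij

omit h in
/-- `m` preserves the rows and the columns. -/
def Ns (z : Fin 3 × Fin 3 → G) (m : G) : Prop :=
  ∃ σ τ : Fin 3 → Fin 3, ∀ a b, m * z (a, b) * m⁻¹ = z (σ a, τ b)

omit h in
/-- `m` interchanges rows and columns. -/
def Sw (z : Fin 3 × Fin 3 → G) (m : G) : Prop :=
  ∃ σ τ : Fin 3 → Fin 3, ∀ a b, m * z (a, b) * m⁻¹ = z (τ b, σ a)

theorem ns_or_sw {m : G} (hm : m ∈ M) : Ns z m ∨ Sw z m := by
  choose f hf using h.perm m hm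
  have hinj : Function.Injective f := by
    intro i j hij
    have e : m * z i * m⁻¹ = m * z j * m⁻¹ := by rw [hf, hf, hij]
    exact h.inj (mul_left_cancel (mul_right_cancel e))
  obtain ⟨σ, τ, h1 | h1⟩ := line f hinj fun i j hij => h.pcol hm (hf i) (hf j) hij
  · exact Or.inl ⟨σ, τ, fun a b => by rw [hf, h1]⟩
  · exact Or.inr ⟨σ, τ, fun a b => by rw [hf, h1]⟩

theorem not_ns_sw {m : G} (h1 : Ns z m) (h2 : Sw z m) : False := by
  obtain ⟨σ, τ, h1⟩ := h1
  obtain ⟨σ', τ', h2⟩ := h2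
  have e : ∀ a b, σ a = τ' b := fun a b => by
    have := h.inj ((h1 a b).symm.trans (h2 a b))
    exact congrArg Prod.fst this
  have e1 : σ 0 = σ 1 := (e 0 0).trans (e 1 0).symm
  have e2 : m * z (0, 0) * m⁻¹ = m * z (1, 0) * m⁻¹ := by rw [h1, h1, e1]
  have e3 := h.inj (mul_left_cancel (mul_right_cancel e2))
  exact absurd (congrArg Prod.fst e3) (by decide)

omit h in
theorem ns_mul {m n : G} (hm : Ns z m) (hn : Ns z n) : Ns z (m * n) := by
  obtain ⟨σ, τ, h1⟩ := hm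
  obtain ⟨σ', τ', h2⟩ := hn
  refine ⟨fun a => σ (σ' a), fun b => τ (τ' b), fun a b => ?_⟩
  calc m * n * z (a, b) * (m * n)⁻¹ = m * (n * z (a, b) * n⁻¹) * m⁻¹ := by group
    _ = _ := by rw [h2, h1]

omit h in
theorem sw_mul {m n : G} (hm : Sw z m) (hn : Sw z n) : Ns z (m * n) := by
  obtain ⟨σ, τ, h1⟩ := hm
  obtain ⟨σ', τ', h2⟩ := hn
  refine ⟨fun a => τ (σ' a), fun b => σ (τ' b), fun a b => ?_⟩
  calc m * n * z (a, b) * (m * n)⁻¹ = m * (n * z (a, b) * n⁻¹) * m⁻¹ := by group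
    _ = _ := by rw [h2, h1]

omit h in
theorem ns_sw_mul {m n : G} (hm : Ns z m) (hn : Sw z n) : Sw z (m * n) := by
  obtain ⟨σ, τ, h1⟩ := hm
  obtain ⟨σ', τ', h2⟩ := hn
  refine ⟨fun a => τ (σ' a), fun b => σ (τ' b), fun a b => ?_⟩
  calc m * n * z (a, b) * (m * n)⁻¹ = m * (n * z (a, b) * n⁻¹) * m⁻¹ := by group
    _ = _ := by rw [h2, h1]

omit h in
theorem sw_ns_mul {m n : G} (hm : Sw z m) (hn : Ns z n) : Sw z (m * n) := by
  obtain ⟨σ, τ, h1⟩ := hm
  obtain ⟨σ', τ', h2⟩ := hn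
  refine ⟨fun a => σ (σ' a), fun b => τ (τ' b), fun a b => ?_⟩
  calc m * n * z (a, b) * (m * n)⁻¹ = m * (n * z (a, b) * n⁻¹) * m⁻¹ := by group
    _ = _ := by rw [h2, h1]

omit h in
theorem ns_one : Ns z (1 : G) := ⟨id, id, fun a b => by simp⟩

theorem ns_inv {m : G} (hm : m ∈ M) (hn : Ns z m) : Ns z m⁻¹ := by
  rcases h.ns_or_sw (inv_mem hm) with h1 | h1
  · exact h1
  · have := ns_sw_mul hn h1
    rw [mul_inv_cancel] at this
    exact (h.not_ns_sw ns_one this).elim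

theorem sw_inv {m : G} (hm : m ∈ M) (hn : Sw z m) : Sw z m⁻¹ := by
  rcases h.ns_or_sw (inv_mem hm) with h1 | h1
  · have := sw_ns_mul hn h1
    rw [mul_inv_cancel] at this
    exact (h.not_ns_sw ns_one this).elim
  · exact h1

/-- the subgroup of `M` preserving rows and columns -/
def M0 (h : Gr M z Q Qs) : Subgroup G where
  carrier := {m | m ∈ M ∧ Ns z m}
  one_mem' := ⟨one_mem _, ns_one⟩
  mul_mem' := fun ha hb => ⟨mul_mem ha.1 hb.1, ns_mul ha.2 hb.2⟩
  inv_mem' := fun ha => ⟨inv_mem ha.1, h.ns_inv ha.1 ha.2⟩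

theorem mem_M0 {m : G} : m ∈ h.M0 ↔ m ∈ M ∧ Ns z m := Iff.rfl

omit h in
theorem fix_third {σ : Fin 3 → Fin 3} (hσ : Function.Injective σ) {a a' : Fin 3} (ha : a ≠ a')
    (h1 : σ a = a) (h2 : σ a' = a') (c : Fin 3) : σ c = c := by
  rcases th_cases a a' c ha with rfl | rfl | hc
  · exact h1
  · exact h2
  · rw [hc]
    refine eq_th a a' _ ha ?_ ?_
    · intro e
      have : th a a' = a := hσ (e.trans h1.symm)
      exact th_ne_left a a' ha this
    · intro e
      have : th a a' = a' := hσ (e.trans h2.symm)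
      exact th_ne_right a a' ha this

theorem ns_fix {m : G} (hm : Ns z m) {a b a' b' : Fin 3} (ha : a ≠ a') (hb : b ≠ b')
    (h1 : m * z (a, b) = z (a, b) * m) (h2 : m * z (a', b') = z (a', b') * m)
    (k : Fin 3 × Fin 3) : m * z k = z k * m := by
  obtain ⟨σ, τ, hm⟩ := hm
  have hσ : Function.Injective σ := by
    intro x y hxy
    have e : m * z (x, 0) * m⁻¹ = m * z (y, 0) * m⁻¹ := by rw [hm, hm, hxy]
    exact congrArg Prod.fst (h.inj (mul_left_cancel (mul_right_cancel e)))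
  have hτ : Function.Injective τ := by
    intro x y hxy
    have e : m * z (0, x) * m⁻¹ = m * z (0, y) * m⁻¹ := by rw [hm, hm, hxy]
    exact congrArg Prod.snd (h.inj (mul_left_cancel (mul_right_cancel e)))
  have e1 := h.inj ((hm a b).symm.trans (comm_conj h1))
  have e2 := h.inj ((hm a' b').symm.trans (comm_conj h2))
  obtain ⟨c, d⟩ := k
  apply conj_comm
  rw [hm, fix_third hσ ha (congrArg Prod.fst e1) (congrArg Prod.fst e2),
    fix_third hτ hb (congrArg Prod.snd e1) (congrArg Prod.snd e2)]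

/-- an element of `M` centralising the two lines through a point centralises all points. -/
theorem fix_all {m : G} (hm : m ∈ M) {a b : Fin 3} (h1 : ∀ c, m * z (a, c) = z (a, c) * m)
    (h2 : ∀ c, m * z (c, b) = z (c, b) * m) (k : Fin 3 × Fin 3) : m * z k = z k * m := by
  obtain ⟨c, d⟩ := k
  by_cases hc : c = a
  · rw [hc]; exact h1 d
  by_cases hd : d = b
  · rw [hd]; exact h2 c
  obtain ⟨⟨c', d'⟩, hk⟩ := h.perm m hm (c, d)
  have e1 := h.pcol hm hk (comm_conj (h1 d)) (i := (c, d)) (j := (a, d)) (by unfold opp; simp)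
  have e2 := h.pcol hm hk (comm_conj (h2 c)) (i := (c, d)) (j := (c, b)) (by unfold opp; simp)
  have e3 : c' = a ∨ d' = d := by unfold opp at e1; simp only at e1; tauto
  have e4 : c' = c ∨ d' = b := by unfold opp at e2; simp only at e2; tauto
  rcases e3 with rfl | rfl
  · rcases e4 with rfl | rfl
    · exact absurd rfl hc
    · have e5 : m * z (c, d) * m⁻¹ = m * z (c', d') * m⁻¹ := by rw [hk, comm_conj (h1 d')]
      have e6 := h.inj (mul_left_cancel (mul_right_cancel e5))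
      exact absurd (congrArg Prod.fst e6) hc
  · rcases e4 with rfl | rfl
    · exact conj_comm hk
    · exact absurd rfl hd

/-- `Q i` does not interchange rows and columns. -/
theorem ns_Q {i : Fin 3 × Fin 3} {u : G} (hu : u ∈ Q i) : Ns z u := by
  obtain ⟨a, b⟩ := i
  rcases h.ns_or_sw (h.QM _ hu) with h1 | h1
  · exact h1
  exfalso
  obtain ⟨σ, τ, h1⟩ := h1
  have key : ∀ c, τ c = a := by
    intro c
    have hz : u * z (a, c) * u⁻¹ = z (a, c) ∨ u * z (a, c) * u⁻¹ = z (a, b) * z (a, c) := by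
      rcases h.comQ (a, b) _ (h.mem a b c).1 u hu with h2 | h2
      · left; rw [← h2]; group
      · right
        have e1 : z (a, b) * (z (a, c) * u) = u * z (a, c) := by
          rw [h2, h.cancel']
        rw [← e1]; group
    rcases hz with h2 | h2
    · rw [h1] at h2
      exact congrArg Prod.fst (h.inj h2)
    · rcases h.row' a b c with h3 | h3
      · rw [h3] at h2
        exact absurd (by simpa using h2) (h.ne_one (a, c))
      · rw [h3, h1] at h2
        exact congrArg Prod.fst (h.inj h2)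
  have e2 : u * z (0, 0) * u⁻¹ = u * z (0, 1) * u⁻¹ := by rw [h1, h1, key, key]
  have e3 := h.inj (mul_left_cancel (mul_right_cancel e2))
  exact absurd (congrArg Prod.snd e3) (by decide)

theorem reg {i j k : Fin 3 × Fin 3} (hij : opp i j) {u : G} (hu : u ∈ Q i)
    (huj : u * z j = z j * u) : u * z k = z k * u :=
  h.ns_fix (h.ns_Q hu) hij.1 hij.2 (h.Qz i u hu) huj k

/-- `C_{Q i}(Qs i)` -/
def D (_h : Gr M z Q Qs) (i : Fin 3 × Fin 3) : Subgroup G := Q i ⊓ centralizer (Qs i : Set G)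

theorem mem_D {i : Fin 3 × Fin 3} {x : G} : x ∈ h.D i ↔ x ∈ Q i ∧ ∀ y ∈ Qs i, x * y = y * x := by
  rw [D, mem_inf, mem_centralizer_iff]
  exact and_congr_right fun _ => ⟨fun H y hy => (H y hy).symm, fun H y hy => (H y hy).symm⟩

/-- `D i` centralises all points. -/
theorem D_comm_z {i : Fin 3 × Fin 3} {d : G} (hd : d ∈ h.D i) (j : Fin 3 × Fin 3) :
    d * z j = z j * d := by
  obtain ⟨hd1, hd2⟩ := h.mem_D.1 hd
  exact h.fix_all (h.QM i hd1) (a := i.1) (b := i.2) (fun c => hd2 _ (h.mem i.1 i.2 c).1)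
    (fun c => hd2 _ (h.mem i.1 i.2 c).2) j

/-- equivariance of `D` -/
theorem eqD {m : G} (hm : m ∈ M) {i j : Fin 3 × Fin 3} (hij : m * z i * m⁻¹ = z j) {d : G}
    (hd : d ∈ h.D i) : m * d * m⁻¹ ∈ h.D j := by
  obtain ⟨hd1, hd2⟩ := h.mem_D.1 hd
  refine h.mem_D.2 ⟨h.eqQ m hm i j hij d hd1, fun y hy => ?_⟩
  have hji : m⁻¹ * z j * m⁻¹⁻¹ = z i := by rw [← hij]; group
  have hy' := h.eqQs m⁻¹ (inv_mem hm) j i hji y hy
  have e := hd2 _ hy'
  calc m * d * m⁻¹ * y = m * (d * (m⁻¹ * y * m⁻¹⁻¹)) * m⁻¹ := by group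
    _ = m * (m⁻¹ * y * m⁻¹⁻¹ * d) * m⁻¹ := by rw [e]
    _ = y * (m * d * m⁻¹) := by group

/-- `C(z i)` normalises `D i`. -/
theorem nD {i : Fin 3 × Fin 3} {c : G} (hc : c * z i = z i * c) {d : G} (hd : d ∈ h.D i) :
    c * d * c⁻¹ ∈ h.D i := by
  obtain ⟨hd1, hd2⟩ := h.mem_D.1 hd
  refine h.mem_D.2 ⟨h.nQ i c hc d hd1, fun y hy => ?_⟩
  have hc' : c⁻¹ * z i = z i * c⁻¹ := by
    rw [inv_mul_eq_iff_eq_mul, ← mul_assoc, hc, mul_assoc, mul_inv_cancel, mul_one]
  have hy' := h.nQs i c⁻¹ hc' y hy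
  have e := hd2 _ hy'
  calc c * d * c⁻¹ * y = c * (d * (c⁻¹ * y * c⁻¹⁻¹)) * c⁻¹ := by group
    _ = c * (c⁻¹ * y * c⁻¹⁻¹ * d) * c⁻¹ := by rw [e]
    _ = y * (c * d * c⁻¹) := by group

theorem step {i k k' : Fin 3 × Fin 3} {y u : G} (hy : y ∈ h.D i) (hu : u ∈ Qs i) (hk : y ∈ h.D k)
    (hk' : u * z k * u⁻¹ = z k') : y ∈ h.D k' := by
  have := h.eqD (h.QsM i hu) hk' hk
  rwa [comm_conj ((h.mem_D.1 hy).2 u hu).symm] at this

theorem row_all {a b b' : Fin 3} (hb : b ≠ b') {y : G} (h1 : y ∈ h.D (a, b))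
    (h2 : y ∈ h.D (a, b')) (c : Fin 3) : y ∈ h.D (a, c) := by
  rcases th_cases b b' c hb with rfl | rfl | hc
  · exact h1
  · exact h2
  · obtain ⟨v, hv, hv1⟩ := h.act2 a b
    rw [hc]
    exact h.step h1 hv h2 (hv1 a b')

theorem col_all {a a' b : Fin 3} (ha : a ≠ a') {y : G} (h1 : y ∈ h.D (a, b))
    (h2 : y ∈ h.D (a', b)) (c : Fin 3) : y ∈ h.D (c, b) := by
  rcases th_cases a a' c ha with rfl | rfl | hc
  · exact h1
  · exact h2
  · obtain ⟨v, hv, hv1⟩ := h.act1 a b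
    rw [hc]
    exact h.step h1 hv h2 (hv1 a' b)

theorem opp_all {a b a' b' : Fin 3} (ha : a ≠ a') (hb : b ≠ b') {y : G} (h1 : y ∈ h.D (a, b))
    (h2 : y ∈ h.D (a', b')) (k : Fin 3 × Fin 3) : y ∈ h.D k := by
  have hr : ∀ c, y ∈ h.D (a, c) := by
    obtain ⟨v, hv, hv1⟩ := h.act2 a' b'
    have h3 : y ∈ h.D (a, th b' b) := h.step h2 hv h1 (hv1 a b)
    exact h.row_all (th_ne_right b' b (Ne.symm hb)).symm h1 h3
  have hc : ∀ d, b' ≠ d → ∀ c, y ∈ h.D (c, d) := by
    intro d hd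
    obtain ⟨v, hv, hv1⟩ := h.act1 a' b'
    have h3 : y ∈ h.D (th a' a, d) := h.step h2 hv (hr d) (hv1 a d)
    exact h.col_all (th_ne_right a' a (Ne.symm ha)).symm (hr d) h3
  obtain ⟨c, d⟩ := k
  by_cases hd : b' = d
  · subst hd
    exact h.col_all ha (hr b') h2 c
  · exact hc d hd c

theorem z_notMem_D {i j : Fin 3 × Fin 3} (hij : i ≠ j) : z i ∉ h.D j := by
  intro hz
  obtain ⟨a, b⟩ := i
  obtain ⟨a', b'⟩ := j
  have h2 := (h.mem_D.1 hz).2
  by_cases ha : a = a'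
  · have hb : b' ≠ b := by
      rintro rfl
      exact hij (by rw [ha])
    obtain ⟨v, hv, hv1⟩ := h.act2 a' b'
    have e := hv1 a b
    rw [comm_conj (h2 v hv).symm] at e
    exact th_ne_right b' b hb (congrArg Prod.snd (h.inj e)).symm
  · obtain ⟨v, hv, hv1⟩ := h.act1 a' b'
    have e := hv1 a b
    rw [comm_conj (h2 v hv).symm] at e
    exact th_ne_right a' a (Ne.symm ha) (congrArg Prod.fst (h.inj e)).symm

section fin

variable [Finite G]

theorem min {i : Fin 3 × Fin 3} {Y : Subgroup G} (hY : Y ≤ Q i)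
    (hn : ∀ m ∈ M, m * z i = z i * m → ∀ y ∈ Y, m * y * m⁻¹ ∈ Y) (hne : Y ≠ ⊥) : z i ∈ Y := by
  obtain ⟨S, hSM, hSz, hS2, hQS, hS⟩ := h.syl i
  obtain ⟨y, hy, hy1, hyy, hys⟩ := exists_fixed_inv hS2 (hS2.to_le (hY.trans hQS))
    (fun s hs => hn s (hSM hs) (hSz s hs)) hne
  rcases hS y (hQS (hY hy)) hys hyy with h1 | h1
  · exact absurd h1 hy1
  · rwa [← h1]

/-- (1) `D i ∩ D j = 1` for opposite points. -/
theorem opp_disj {i j : Fin 3 × Fin 3} (hij : opp i j) {y : G} (h1 : y ∈ h.D i) (h2 : y ∈ h.D j) :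
    y = 1 := by
  by_contra hy
  have hY : z i ∈ ⨅ k, h.D k := by
    refine h.min (Y := ⨅ k, h.D k) ((iInf_le _ i).trans inf_le_left) ?_ ?_
    · intro m hm _ y hy
      rw [mem_iInf] at hy ⊢
      intro k
      obtain ⟨k', hk'⟩ := h.perm m⁻¹ (inv_mem hm) k
      refine h.eqD hm ?_ (hy k')
      rw [← hk']; group
    · intro e
      apply hy
      have : y ∈ ⨅ k, h.D k := mem_iInf.2 fun k => h.opp_all hij.1 hij.2 h1 h2 k
      rwa [e, mem_bot] at this
  rw [mem_iInf] at hY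
  exact h.z_notMem_D (fun e => hij.1 (by rw [e])) (hY j)

theorem opp_comm {i j : Fin 3 × Fin 3} (hij : opp i j) {a b : G} (ha : a ∈ h.D i) (hb : b ∈ h.D j) :
    a * b = b * a := by
  have h1 : a * b * a⁻¹ * b⁻¹ ∈ h.D j :=
    mul_mem (h.nD (h.D_comm_z ha j) hb) (inv_mem hb)
  have h2 : a * b * a⁻¹ * b⁻¹ ∈ h.D i := by
    have e : a * b * a⁻¹ * b⁻¹ = a * (b * a⁻¹ * b⁻¹) := by group
    rw [e]
    exact mul_mem ha (h.nD (h.D_comm_z hb i) (inv_mem ha))
  have h3 := h.opp_disj hij h2 h1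
  rw [mul_inv_eq_one, mul_inv_eq_iff_eq_mul] at h3
  exact h3

end fin

end Gr

end Cfsg.Agent.Omega.NOne.Grid
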