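import Cfsg.Agent.Omega.NOne.Frame

/-!
# NO-1, Theorem Q (text #11359 (2))

In the frame `Fr V Q g`: `E^g` acts quadratically on `V` iff `[E, E^g] = 1`, and then
`E = [V, E^g] D`.
-/

set_option autoImplicit false

namespace Cfsg.Agent.Omega.NOne.Quad

open Subgroup Cfsg.Agent.Omega.NoFF.Basic Cfsg.Agent.Omega.NOne.Frame
open scoped Pointwise commutatorElement

universe u

variable {G : Type u} [Group G] {V Q : Subgroup G} {g : G}

/-- `[V, E^g]` is generated by the commutators `v y v⁻¹ y⁻¹`. -/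
def VE (V Q : Subgroup G) (g : G) : Subgroup G :=
  closure {x | ∃ v ∈ V, ∃ y ∈ E' V Q g, v * y * v⁻¹ * y⁻¹ = x}

theorem VE_eq : VE V Q g = ⁅V, E' V Q g⁆ := by
  rfl

/-- `E₀ = [V, E^g] D` -/
def E0 (V Q : Subgroup G) (g : G) : Subgroup G := VE V Q g ⊔ D V Q g

theorem mem_E0 {v y : G} (hv : v ∈ V) (hy : y ∈ E' V Q g) : v * y * v⁻¹ * y⁻¹ ∈ E0 V Q g :=
  mem_sup_left (subset_closure ⟨v, hv, y, hy, rfl⟩)

theorem D_le_E0 : D V Q g ≤ E0 V Q g := le_sup_right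

theorem E0_le_E (h : Fr V Q g) : E0 V Q g ≤ E V Q := by
  refine sup_le ?_ inf_le_left
  rw [VE, closure_le]
  rintro _ ⟨v, hv, y, hy, rfl⟩
  exact h.comm_VE' hv hy

/-- `[V, W] ≤ E₀` -/
theorem comm_VW (h : Fr V Q g) {v w : G} (hv : v ∈ V) (hw : w ∈ W V Q g) :
    v * w * v⁻¹ * w⁻¹ ∈ E0 V Q g := by
  obtain ⟨e, he, f, hf, rfl⟩ := h.mem_W.1 hw
  have h1 := h.comm_VE hv he
  have h2 : e * (v * f * v⁻¹ * f⁻¹) = v * f * v⁻¹ * f⁻¹ * e :=
    comm_of_le_centralizer h.comm he.1 (h.comm_VE' hv hf).1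
  have e1 : v * (e * f) * v⁻¹ * (e * f)⁻¹ = (v * e) * f * v⁻¹ * f⁻¹ * e⁻¹ := by group
  rw [e1, h1]
  have e2 : e * v * f * v⁻¹ * f⁻¹ * e⁻¹ = (e * (v * f * v⁻¹ * f⁻¹)) * e⁻¹ := by group
  rw [e2, h2, mul_inv_cancel_right]
  exact mem_E0 hv hf

/-- `E₀^g` -/
abbrev E0' (V Q : Subgroup G) (g : G) : Subgroup G := MulAut.conj g • E0 V Q g

theorem g_norm_W (h : Fr V Q g) : g ∈ normalizer ((W V Q g : Subgroup G) : Set G) := h.X_norm_W h.gX

/-- `[V^g, W] ≤ E₀^g` -/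
theorem comm_V'W (h : Fr V Q g) {v w : G} (hv : v ∈ V' V g) (hw : w ∈ W V Q g) :
    v * w * v⁻¹ * w⁻¹ ∈ E0' V Q g := by
  obtain ⟨u, hu, rfl⟩ := mem_conj'.1 hv
  have h1 := comm_VW h hu (norm_mem' (g_norm_W h) hw)
  rw [mem_conj']
  exact ⟨_, h1, by group⟩

/-- `X` moves the elements of `W` by elements of every subgroup containing `E₀` and `E₀^g` and
normalised by `X`. -/
theorem comm_XW (h : Fr V Q g) {A : Subgroup G} (hA : X V g ≤ normalizer (A : Set G))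
    (h0 : E0 V Q g ≤ A) (h0' : E0' V Q g ≤ A) {x w : G} (hx : x ∈ X V g) (hw : w ∈ W V Q g) :
    x * w * x⁻¹ * w⁻¹ ∈ A := by
  have h1 : X V g ≤ stab (X V g) (W V Q g) A hA := by
    refine sup_le (fun v hv => ?_) (fun v hv => ?_)
    · exact ⟨mem_sup_left hv, fun q hq => h0 (comm_VW h hv hq)⟩
    · exact ⟨mem_sup_right hv, fun q hq => h0' (comm_V'W h hv hq)⟩
  exact (h1 hx).2 w hw

/-- `W₀ = E₀ E₀^g` is normal in `X`. -/
theorem X_norm_W0 (h : Fr V Q g) :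
    X V g ≤ normalizer ((E0 V Q g ⊔ E0' V Q g : Subgroup G) : Set G) := by
  have hle : E0 V Q g ⊔ E0' V Q g ≤ W V Q g :=
    sup_le ((E0_le_E h).trans le_sup_left) ((conj_le_iff.2 (E0_le_E h)).trans le_sup_right)
  refine sup_le ?_ ?_
  · exact le_normalizer_of_comm fun v hv w hw => mem_sup_left (comm_VW h hv (hle hw))
  · exact le_normalizer_of_comm fun v hv w hw => mem_sup_right (comm_V'W h hv (hle hw))

/-- `E^g` acts quadratically on `V`. -/
def IsQuad (V Q : Subgroup G) (g : G) : Prop :=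
  ∀ v ∈ V, ∀ y ∈ E' V Q g, ∀ x ∈ E' V Q g, (v * y * v⁻¹ * y⁻¹) * x = x * (v * y * v⁻¹ * y⁻¹)

theorem E0_comm_E' (h : Fr V Q g) (hq : IsQuad V Q g) {a x : G} (ha : a ∈ E0 V Q g)
    (hx : x ∈ E' V Q g) : a * x = x * a := by
  have h1 : E0 V Q g ≤ centralizer ((E' V Q g : Subgroup G) : Set G) := by
    refine sup_le ?_ ?_
    · rw [VE, closure_le]
      rintro _ ⟨v, hv, y, hy, rfl⟩
      exact mem_centralizer_iff.2 fun x hx => (hq v hv y hy x hx).symm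
    · exact le_centralizer_of_comm fun d hd y hy => (h.D_cent_W hd (mem_sup_right hy)).symm
  exact comm_of_le_centralizer h1 ha hx

/-- `E₀ ≤ Z(W)` in the quadratic case -/
theorem E0_comm_W (h : Fr V Q g) (hq : IsQuad V Q g) {a w : G} (ha : a ∈ E0 V Q g)
    (hw : w ∈ W V Q g) : a * w = w * a := by
  obtain ⟨e, he, f, hf, rfl⟩ := h.mem_W.1 hw
  rw [← mul_assoc, comm_of_le_centralizer h.comm (E0_le_E h ha).1 he.1, mul_assoc,
    E0_comm_E' h hq ha hf, mul_assoc]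

theorem X_norm_cent (h : Fr V Q g) :
    X V g ≤ normalizer ((centralizer ((W V Q g : Subgroup G) : Set G) : Subgroup G) : Set G) :=
  h.X_norm_W.trans (LemmaT.normalizer_le_normalizer_centralizer _)

/-- `g` moves the elements of `W` by elements centralising `W`. -/
theorem comm_g (h : Fr V Q g) (hq : IsQuad V Q g) {x w : G} (hx : x ∈ X V g)
    (hw : w ∈ W V Q g) :
    x * w * x⁻¹ * w⁻¹ ∈ centralizer ((W V Q g : Subgroup G) : Set G) := by
  have h0 : E0 V Q g ≤ centralizer ((W V Q g : Subgroup G) : Set G) :=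
    le_centralizer_of_comm fun a ha b hb => E0_comm_W h hq ha hb
  refine comm_XW h (X_norm_cent h) h0 ?_ hx hw
  have hgn := X_norm_cent h h.gX
  intro y hy
  obtain ⟨a, ha, rfl⟩ := mem_conj'.1 hy
  exact norm_mem hgn (h0 ha)

/-- **Theorem Q (i)**, first part: quadratic implies `[E, E^g] = 1`. -/
theorem comm_EE' (h : Fr V Q g) (hq : IsQuad V Q g) {e y : G} (he : e ∈ E V Q)
    (hy : y ∈ E' V Q g) : e * y = y * e := by
  obtain ⟨f, hf, rfl⟩ := mem_conj'.1 hy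
  have h1 := comm_g h hq h.gX (mem_sup_left hf : f ∈ W V Q g)
  have h2 := mem_centralizer_iff.1 h1 e (mem_sup_left he)
  have h3 : e * f = f * e := comm_of_le_centralizer h.comm he.1 hf.1
  calc e * (g * f * g⁻¹) = e * (g * f * g⁻¹ * f⁻¹) * f := by group
    _ = (g * f * g⁻¹ * f⁻¹) * e * f := by rw [h2]
    _ = (g * f * g⁻¹ * f⁻¹) * (e * f) := by rw [mul_assoc]
    _ = (g * f * g⁻¹ * f⁻¹) * (f * e) := by rw [h3]
    _ = g * f * g⁻¹ * e := by group

/-- Converse of the first part. -/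
theorem isQuad_of_comm (h : Fr V Q g) (hc : ∀ e ∈ E V Q, ∀ y ∈ E' V Q g, e * y = y * e) :
    IsQuad V Q g := fun _ hv _ hy x hx => hc _ (h.comm_VE' hv hy) x hx

/-- **Theorem Q (i)**, second part: quadratic implies `E = [V, E^g] D`. -/
theorem E_le_E0 (h : Fr V Q g) (hq : IsQuad V Q g) : E V Q ≤ E0 V Q g := by
  intro e he
  have h1 := comm_XW h (X_norm_W0 h) le_sup_left le_sup_right h.gX
    (mem_sup_left he : e ∈ W V Q g)
  -- product form of `W₀`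
  have hn : E0' V Q g ≤ normalizer ((E0 V Q g : Subgroup G) : Set G) := by
    refine le_normalizer_of_comm fun b hb a ha => ?_
    have h2 : a * b = b * a := E0_comm_E' h hq ha (conj_le_iff.2 (E0_le_E h) hb)
    have e1 : b * a * b⁻¹ * a⁻¹ = 1 := by rw [← h2]; group
    rw [e1]
    exact one_mem _
  have h2 : g * e * g⁻¹ * e⁻¹ ∈ ((E0 V Q g ⊔ E0' V Q g : Subgroup G) : Set G) := h1
  rw [Subgroup.coe_mul_of_right_le_normalizer_left _ _ hn] at h2
  obtain ⟨a, ha, b, hb, hab⟩ := h2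
  replace hab : a * b = g * e * g⁻¹ * e⁻¹ := hab
  have hb' : b ∈ E' V Q g := conj_le_iff.2 (E0_le_E h) hb
  -- `b⁻¹ (g e g⁻¹) = a e` lies in `D`
  have h3 : b⁻¹ * (g * e * g⁻¹) = a * e := by
    have h4 : a * b = b * a := E0_comm_E' h hq ha hb'
    have e1 : g * e * g⁻¹ = a * b * e := by rw [hab]; group
    rw [e1, h4]
    group
  have h5 : b⁻¹ * (g * e * g⁻¹) ∈ D V Q g := by
    refine mem_inf.2 ⟨?_, mul_mem (inv_mem hb') (conj_mem he)⟩
    rw [h3]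
    exact mul_mem (E0_le_E h ha) he
  -- so `g e g⁻¹ ∈ E₀^g`
  have h6 : b⁻¹ * (g * e * g⁻¹) ∈ E0' V Q g := by
    rw [mem_conj]
    have h7 := h.g_cent_D h5
    have e1 : g⁻¹ * (b⁻¹ * (g * e * g⁻¹)) * g = b⁻¹ * (g * e * g⁻¹) := by
      rw [mul_assoc, ← h7]; group
    rw [e1]
    exact D_le_E0 h5
  have h8 : g * e * g⁻¹ ∈ E0' V Q g := by
    have := mul_mem hb h6
    rwa [mul_inv_cancel_left] at this
  rw [mem_conj] at h8
  have e1 : g⁻¹ * (g * e * g⁻¹) * g = e := by group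
  rwa [e1] at h8

theorem E_eq_E0 (h : Fr V Q g) (hq : IsQuad V Q g) : E V Q = E0 V Q g :=
  le_antisymm (E_le_E0 h hq) (E0_le_E h)

/-- **Theorem Q (i).** -/
theorem isQuad_iff (h : Fr V Q g) :
    IsQuad V Q g ↔ ∀ e ∈ E V Q, ∀ y ∈ E' V Q g, e * y = y * e :=
  ⟨fun hq _ he _ hy => comm_EE' h hq he hy, isQuad_of_comm h⟩

theorem eq_commutator (h : Fr V Q g) (hq : IsQuad V Q g) : E V Q = ⁅V, E' V Q g⁆ ⊔ D V Q g := by
  rw [← VE_eq]
  exact E_eq_E0 h hq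

/-- **Theorem Q (ii)**: in the quadratic case `E ≤ C_V(E^g)`, so `|V : C_V(E^g)| ≤ |V : E|`. -/
theorem E_le_cent (h : Fr V Q g) (hq : IsQuad V Q g) :
    E V Q ≤ V ⊓ centralizer ((E' V Q g : Subgroup G) : Set G) :=
  le_inf inf_le_left (le_centralizer_of_comm fun _ he _ hy => comm_EE' h hq he hy)

theorem relIndex_cent_dvd (h : Fr V Q g) (hq : IsQuad V Q g) :
    (V ⊓ centralizer ((E' V Q g : Subgroup G) : Set G)).relIndex V ∣ (E V Q).relIndex V :=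
  relIndex_dvd_of_le_left V (E_le_cent h hq)

end Cfsg.Agent.Omega.NOne.Quad
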