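import Cfsg.Agent.Omega.NOne.DZeroPlus
import Cfsg.Agent.Omega.NOne.DZeroPts
import Cfsg.Agent.Omega.NOne.Quad
import Cfsg.Agent.Omega.NOne.Choice

/-!
# NO-1, THEOREM D0+ (#12107, with the repair #12381 of its preamble): the instance

`G` finite, `S` a Sylow 2-subgroup with `Ω₁ Z(S) = ⟨z₀₀⟩`, `S ≤ M ≤ N(V)`, `V` generated by nine
points `z (a, b)` (the singular vectors `a ⊗ b` of `O₄⁺(2)`), `M` permutes the points and induces at
least `S₃ × S₃` on them, `Q = O₂(C(z₀₀))` contains `C(Q)`, `V ≰ Q`, and `Q` induces `⟨t_a⟩ × ⟨t_b⟩`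
on the points.  Then `Q` is extraspecial: `Large (o2 (centralizer {z₀₀})) z₀₀`.
-/

set_option autoImplicit false

namespace Cfsg.Agent.Omega.NOne.PlusPts

open Subgroup Cfsg Cfsg.Agent.ZN
open Cfsg.Agent.MinSimple.VModule (o2_isPGroup)
open Cfsg.Agent.Omega.NOne.Core Cfsg.Agent.Omega.NOne.Grid
open Cfsg.Agent.Omega.NOne.Grid.Gr (Act Ns)
open Cfsg.Agent.Omega.NOne.DZeroPts (CC QQ QS mem_CC CC_eq QQ_conj QQ_norm QS_conj QS_norm QS_le
  mem_QS z_mem_QQ conj_mem_iff mem_QQ_conj)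
open Cfsg.Agent.Omega.NOne.Frame
open scoped Pointwise

universe u

variable {G : Type u} [Group G]

/-- The nine singular vectors of an `O₄⁺(2)`-module `V` with `M` inducing at least `S₃ × S₃`. -/
structure Pts9 (M V : Subgroup G) (z : Fin 3 × Fin 3 → G) : Prop where
  mem : ∀ i, z i ∈ V
  gen : V ≤ closure (Set.range z)
  inj : Function.Injective z
  ne_one : ∀ i, z i ≠ 1
  sq : ∀ i, z i * z i = 1
  comm : ∀ i j, z i * z j = z j * z i
  row : ∀ a b b', b ≠ b' → z (a, b) * z (a, b') = z (a, th b b')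
  col : ∀ b a a', a ≠ a' → z (a, b) * z (a', b) = z (th a a', b)
  perm : ∀ m ∈ M, ∀ i, ∃ j, m * z i * m⁻¹ = z j
  alt : ∀ σ τ : Equiv.Perm (Fin 3), ∃ m ∈ M, ∀ a b, m * z (a, b) * m⁻¹ = z (σ a, τ b)

section V

variable {M V : Subgroup G} {z : Fin 3 × Fin 3 → G} (h : Pts9 M V z)
include h

theorem V_comm_z {v : G} (hv : v ∈ V) (j : Fin 3 × Fin 3) : v * z j = z j * v := by
  have hv' := h.gen hv
  clear hv
  induction hv' using closure_induction with
  | mem x hx => obtain ⟨i, rfl⟩ := hx; exact h.comm i j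
  | one => simp
  | mul a b _ _ ha hb => rw [mul_assoc, hb, ← mul_assoc, ha, mul_assoc]
  | inv a _ ha => exact ((show Commute a (z j) from ha).inv_left : _)

theorem V_comm {v w : G} (hv : v ∈ V) (hw : w ∈ V) : v * w = w * v := by
  have hw' := h.gen hw
  clear hw
  induction hw' using closure_induction with
  | mem x hx => obtain ⟨i, rfl⟩ := hx; exact V_comm_z h hv i
  | one => simp
  | mul a b _ _ ha hb => rw [← mul_assoc, ha, mul_assoc, hb, ← mul_assoc]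
  | inv a _ ha => exact ((show Commute v a from ha).inv_right : _)

theorem V_sq {v : G} (hv : v ∈ V) : v * v = 1 := by
  have hle : closure (Set.range z) ≤ V := by
    rw [closure_le]; rintro _ ⟨i, rfl⟩; exact h.mem i
  have hv' := h.gen hv
  clear hv
  induction hv' using closure_induction with
  | mem x hx => obtain ⟨i, rfl⟩ := hx; exact h.sq i
  | one => simp
  | mul a b ha' hb' ha hb =>
    calc a * b * (a * b) = a * (b * a) * b := by group
      _ = a * (a * b) * b := by rw [V_comm h (hle ha') (hle hb')]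
      _ = (a * a) * (b * b) := by group
      _ = 1 := by rw [ha, hb, one_mul]
  | inv a _ ha => rw [← mul_inv_rev, ha, inv_one]

theorem comm_of_z {x : G} (hx : ∀ i, x * z i = z i * x) {v : G} (hv : v ∈ V) : x * v = v * x := by
  have hv' := h.gen hv
  clear hv
  induction hv' using closure_induction with
  | mem y hy => obtain ⟨i, rfl⟩ := hy; exact hx i
  | one => simp
  | mul a b _ _ ha hb => rw [← mul_assoc, ha, mul_assoc, hb, ← mul_assoc]
  | inv a _ ha => exact ((show Commute x a from ha).inv_right : _)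

/-- elements with the same action on the points act equally on `V` -/
theorem same_of_z {x y : G} (hx : ∀ i, x * z i * x⁻¹ = y * z i * y⁻¹) {v : G} (hv : v ∈ V) :
    x * v * x⁻¹ = y * v * y⁻¹ := by
  have h1 : (y⁻¹ * x) * v = v * (y⁻¹ * x) := by
    refine comm_of_z h (fun i => conj_comm ?_) hv
    calc y⁻¹ * x * z i * (y⁻¹ * x)⁻¹ = y⁻¹ * (x * z i * x⁻¹) * y := by group
      _ = z i := by rw [hx]; group
  calc x * v * x⁻¹ = y * ((y⁻¹ * x) * v) * x⁻¹ := by group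
    _ = y * (v * (y⁻¹ * x)) * x⁻¹ := by rw [h1]
    _ = y * v * y⁻¹ := by group

/-- `x = 1` or a point of row `a` -/
def Ro (z : Fin 3 × Fin 3 → G) (a : Fin 3) (x : G) : Prop := x = 1 ∨ ∃ d, x = z (a, d)

theorem Ro_mul {a : Fin 3} {x y : G} (hx : Ro z a x) (hy : Ro z a y) : Ro z a (x * y) := by
  rcases hx with rfl | ⟨d, rfl⟩
  · rw [one_mul]; exact hy
  rcases hy with rfl | ⟨d', rfl⟩
  · rw [mul_one]; exact Or.inr ⟨d, rfl⟩
  by_cases hd : d = d'
  · left; rw [hd, h.sq]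
  · exact Or.inr ⟨_, h.row a d d' hd⟩

theorem Ro_V {a : Fin 3} {x : G} (hx : Ro z a x) : x ∈ V := by
  rcases hx with rfl | ⟨d, rfl⟩
  · exact one_mem _
  · exact h.mem _

/-- `V = (row 1)(row 0)` -/
theorem V_exp {v : G} (hv : v ∈ V) : ∃ x y, Ro z 1 x ∧ Ro z 0 y ∧ v = x * y := by
  have hv' := h.gen hv
  clear hv
  induction hv' using closure_induction with
  | mem w hw =>
    obtain ⟨⟨a, b⟩, rfl⟩ := hw
    have ha : a = 0 ∨ a = 1 ∨ a = 2 := by revert a; decide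
    rcases ha with rfl | rfl | rfl
    · exact ⟨1, z (0, b), Or.inl rfl, Or.inr ⟨b, rfl⟩, by simp⟩
    · exact ⟨z (1, b), 1, Or.inr ⟨b, rfl⟩, Or.inl rfl, by simp⟩
    · refine ⟨z (1, b), z (0, b), Or.inr ⟨b, rfl⟩, Or.inr ⟨b, rfl⟩, ?_⟩
      rw [h.col b 1 0 (by decide)]
      rfl
  | one => exact ⟨1, 1, Or.inl rfl, Or.inl rfl, by simp⟩
  | mul a b _ _ ha hb =>
    obtain ⟨x, y, hx, hy, rfl⟩ := ha
    obtain ⟨x', y', hx', hy', rfl⟩ := hb
    refine ⟨x * x', y * y', Ro_mul h hx hx', Ro_mul h hy hy', ?_⟩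
    calc x * y * (x' * y') = x * (y * x') * y' := by group
      _ = x * (x' * y) * y' := by rw [V_comm h (Ro_V h hy) (Ro_V h hx')]
      _ = x * x' * (y * y') := by group
  | inv a _ ha =>
    obtain ⟨x, y, hx, hy, rfl⟩ := ha
    refine ⟨x, y, hx, hy, ?_⟩
    have h1 := V_sq h (mul_mem (Ro_V h hx) (Ro_V h hy))
    exact inv_eq_of_mul_eq_one_left h1

end V

/-- the data at `z (0, 0)` -/
structure Base (M V : Subgroup G) (z : Fin 3 × Fin 3 → G) : Prop where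
  MV : M ≤ normalizer (V : Set G)
  QM : QQ (z (0, 0)) ≤ M
  char2 : ∀ g, g * z (0, 0) = z (0, 0) * g → (∀ x ∈ QQ (z (0, 0)), g * x = x * g) →
    g ∈ QQ (z (0, 0))
  VQ : ¬ V ≤ QQ (z (0, 0))
  ns : ∀ q ∈ QQ (z (0, 0)), Ns z q
  u : ∃ u ∈ QQ (z (0, 0)), Act z u (th 0) id
  v : ∃ v ∈ QQ (z (0, 0)), Act z v id (th 0)

section Base

variable {M V : Subgroup G} {z : Fin 3 × Fin 3 → G} (h : Pts9 M V z) (hb : Base M V z)
include h hb

omit hb in
theorem V_le_CC : V ≤ CC (z (0, 0)) := fun _ hv => mem_CC.2 (V_comm_z h hv _)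

omit h hb in
theorem Qz {x : G} (hx : x ∈ QQ (z (0, 0))) : x * z (0, 0) = z (0, 0) * x :=
  mem_CC.1 (DZeroPts.QQ_le _ hx)

theorem line_row (d : Fin 3) : z (0, d) ∈ QQ (z (0, 0)) := by
  obtain ⟨u, hu, hu1⟩ := hb.u
  have h1 : z (1, d) * u * (z (1, d))⁻¹ * u⁻¹ ∈ QQ (z (0, 0)) :=
    mul_mem (QQ_norm (h.comm _ _) hu) (inv_mem hu)
  have e : z (1, d) * u * (z (1, d))⁻¹ * u⁻¹ = z (1, d) * (u * z (1, d) * u⁻¹)⁻¹ := by group
  rw [e, hu1] at h1
  have e2 : (z (th 0 1, id d))⁻¹ = z (th 0 1, d) := inv_eq_of_mul_eq_one_left (h.sq _)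
  rw [e2, h.col d 1 (th 0 1) (by decide)] at h1
  exact h1

theorem line_col (c : Fin 3) : z (c, 0) ∈ QQ (z (0, 0)) := by
  obtain ⟨u, hu, hu1⟩ := hb.v
  have h1 : z (c, 1) * u * (z (c, 1))⁻¹ * u⁻¹ ∈ QQ (z (0, 0)) :=
    mul_mem (QQ_norm (h.comm _ _) hu) (inv_mem hu)
  have e : z (c, 1) * u * (z (c, 1))⁻¹ * u⁻¹ = z (c, 1) * (u * z (c, 1) * u⁻¹)⁻¹ := by group
  rw [e, hu1] at h1
  have e2 : (z (id c, th 0 1))⁻¹ = z (c, th 0 1) := inv_eq_of_mul_eq_one_left (h.sq _)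
  rw [e2, h.row c 1 (th 0 1) (by decide)] at h1
  exact h1

theorem off_lines {d : Fin 3} (hd : d ≠ 0) : z (1, d) ∉ QQ (z (0, 0)) := by
  intro hz
  apply hb.VQ
  have h1 : ∀ d', z (1, d') ∈ QQ (z (0, 0)) := by
    intro d'
    rcases th_cases 0 d d' (Ne.symm hd) with rfl | rfl | hd'
    · exact line_col h hb 1
    · exact hz
    · rw [hd', ← h.row 1 0 d (Ne.symm hd)]
      exact mul_mem (line_col h hb 1) hz
  intro v hv
  obtain ⟨x, y, hx, hy, rfl⟩ := V_exp h hv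
  refine mul_mem ?_ ?_
  · rcases hx with rfl | ⟨d', rfl⟩
    · exact one_mem _
    · exact h1 d'
  · rcases hy with rfl | ⟨d', rfl⟩
    · exact one_mem _
    · exact line_row h hb d'

theorem E_form {e : G} (he : e ∈ V ⊓ QQ (z (0, 0))) :
    ∃ x y, (x = 1 ∨ x = z (1, 0)) ∧ (y = 1 ∨ ∃ d, y = z (0, d)) ∧ e = x * y := by
  obtain ⟨x, y, hx, hy, rfl⟩ := V_exp h he.1
  have hyQ : y ∈ QQ (z (0, 0)) := by
    rcases hy with rfl | ⟨d', rfl⟩
    · exact one_mem _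
    · exact line_row h hb d'
  have heQ : x * y ∈ QQ (z (0, 0)) := he.2
  have hxQ : x ∈ QQ (z (0, 0)) := by
    have := mul_mem heQ (inv_mem hyQ)
    rwa [mul_inv_cancel_right] at this
  refine ⟨x, y, ?_, hy, rfl⟩
  rcases hx with rfl | ⟨d, rfl⟩
  · exact Or.inl rfl
  · right
    by_cases hd : d = 0
    · rw [hd]
    · exact absurd hxQ (off_lines h hb hd)

/-- `q ∈ Q` acts as `(σ, τ)` with `σ, τ ∈ {1, t_0}`. -/
theorem act_Q {q : G} (hq : q ∈ QQ (z (0, 0))) : ∃ σ τ : Fin 3 → Fin 3, Act z q σ τ ∧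
    (σ = id ∨ σ = th 0) ∧ (τ = id ∨ τ = th 0) := by
  obtain ⟨σ, τ, ha⟩ := hb.ns q hq
  have h0 := h.inj ((ha 0 0).symm.trans (comm_conj (Qz hq)))
  have hσ0 : σ 0 = 0 := congrArg Prod.fst h0
  have hτ0 : τ 0 = 0 := congrArg Prod.snd h0
  have hσ : Function.Injective σ := by
    intro x y hxy
    have e : q * z (x, 0) * q⁻¹ = q * z (y, 0) * q⁻¹ := by rw [ha, ha, hxy]
    exact congrArg Prod.fst (h.inj (mul_left_cancel (mul_right_cancel e)))
  have hτ : Function.Injective τ := by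
    intro x y hxy
    have e : q * z (0, x) * q⁻¹ = q * z (0, y) * q⁻¹ := by rw [ha, ha, hxy]
    exact congrArg Prod.snd (h.inj (mul_left_cancel (mul_right_cancel e)))
  have key : ∀ ρ : Fin 3 → Fin 3, Function.Injective ρ → ρ 0 = 0 → ρ = id ∨ ρ = th 0 := by
    intro ρ hρ h0
    by_cases h1 : ρ 1 = 1
    · left
      funext c
      exact Gr.fix_third hρ (by decide : (0 : Fin 3) ≠ 1) h0 h1 c
    · right
      have h2 : ρ 1 = 2 := by
        have := eq_th 0 1 (ρ 1) (by decide) (fun e => absurd (hρ (e.trans h0.symm)) (by decide)) h1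
        rw [this]; rfl
      have h3 : ρ 2 = 1 := by
        have := eq_th 0 2 (ρ 2) (by decide) (fun e => absurd (hρ (e.trans h0.symm)) (by decide))
          (fun e => absurd (hρ (e.trans h2.symm)) (by decide))
        rw [this]; rfl
      funext c
      have hc : c = 0 ∨ c = 1 ∨ c = 2 := by revert c; decide
      rcases hc with rfl | rfl | rfl
      · rw [h0]; rfl
      · rw [h2]; rfl
      · rw [h3]; rfl
  exact ⟨σ, τ, ha, key σ hσ hσ0, key τ hτ hτ0⟩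

/-- `[O₂(C(z)), V ∩ O₂(C(z))] ≤ ⟨z⟩` -/
theorem comm_E {q e : G} (hq : q ∈ QQ (z (0, 0))) (he : e ∈ V ⊓ QQ (z (0, 0))) :
    q * e * q⁻¹ = e ∨ q * e * q⁻¹ = z (0, 0) * e := by
  obtain ⟨σ, τ, ha, hσ, hτ⟩ := act_Q h hb hq
  have hz0 := h.sq (0, 0)
  have hrow : ∀ y, Ro z 0 y → q * y * q⁻¹ = y ∨ q * y * q⁻¹ = z (0, 0) * y := by
    rintro y (rfl | ⟨d, rfl⟩)
    · left; group
    · have hσ0 : σ 0 = 0 := by rcases hσ with rfl | rfl <;> rfl
      rw [ha, hσ0]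
      rcases hτ with rfl | rfl
      · exact Or.inl rfl
      · by_cases hd : 0 = d
        · subst hd; left; rfl
        · right; rw [h.row 0 0 d hd]
  have hx1 : ∀ x, (x = 1 ∨ x = z (1, 0)) → q * x * q⁻¹ = x ∨ q * x * q⁻¹ = z (0, 0) * x := by
    rintro x (rfl | rfl)
    · left; group
    · have hτ0 : τ 0 = 0 := by rcases hτ with rfl | rfl <;> rfl
      rw [ha, hτ0]
      rcases hσ with rfl | rfl
      · exact Or.inl rfl
      · right; rw [h.col 0 0 1 (by decide)]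
  obtain ⟨x, y, hx, hy, rfl⟩ := E_form h hb he
  have hxV : x ∈ V := by
    rcases hx with rfl | rfl
    · exact one_mem _
    · exact h.mem _
  have e1 : q * (x * y) * q⁻¹ = (q * x * q⁻¹) * (q * y * q⁻¹) := by group
  rw [e1]
  rcases hx1 x hx with h1 | h1 <;> rcases hrow y hy with h2 | h2 <;> rw [h1, h2]
  · exact Or.inl rfl
  · right
    rw [← mul_assoc, V_comm_z h hxV, mul_assoc]
  · right; group
  · left
    calc z (0, 0) * x * (z (0, 0) * y) = z (0, 0) * (x * z (0, 0)) * y := by group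
      _ = z (0, 0) * (z (0, 0) * x) * y := by rw [V_comm_z h hxV]
      _ = (z (0, 0) * z (0, 0)) * (x * y) := by group
      _ = x * y := by rw [hz0, one_mul]

/-- an element of `Q` centralising `E` centralises `V`. -/
theorem faithful {q : G} (hq : q ∈ QQ (z (0, 0))) (hqE : ∀ e ∈ V ⊓ QQ (z (0, 0)), e * q = q * e)
    {v : G} (hv : v ∈ V) : q * v = v * q := by
  refine comm_of_z h (fun i => ?_) hv
  obtain ⟨σ, τ, ha, hσ, hτ⟩ := act_Q h hb hq
  have h1 := hqE (z (0, 1)) ⟨h.mem _, line_row h hb 1⟩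
  have h2 := hqE (z (1, 0)) ⟨h.mem _, line_col h hb 1⟩
  have h3 := h.inj ((ha 0 1).symm.trans (comm_conj h1.symm))
  have h4 := h.inj ((ha 1 0).symm.trans (comm_conj h2.symm))
  have hσ' : σ = id := by
    rcases hσ with rfl | rfl
    · rfl
    · exact absurd (congrArg Prod.fst h4) (show th 0 1 ≠ (1 : Fin 3) by decide)
  have hτ' : τ = id := by
    rcases hτ with rfl | rfl
    · rfl
    · exact absurd (congrArg Prod.snd h3) (show th 0 1 ≠ (1 : Fin 3) by decide)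
  obtain ⟨a, b⟩ := i
  apply conj_comm
  rw [ha, hσ', hτ']; rfl

/-- `[QS, O₂(C(z))] ≤ ⟨z⟩` -/
theorem comm_QS {x : G} (hx : x ∈ QS V (z (0, 0))) : ∀ y ∈ QQ (z (0, 0)),
    x * y * x⁻¹ = y ∨ x * y * x⁻¹ = z (0, 0) * y := by
  have hzz := h.sq (0, 0)
  have hQz : ∀ y ∈ QQ (z (0, 0)), y * z (0, 0) = z (0, 0) * y := fun y hy => Qz hy
  have hx' := hx
  unfold QS at hx
  induction hx using closure_induction with
  | mem x hx =>
    obtain ⟨c, hc, e, he, rfl⟩ := hx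
    intro y hy
    have hc' := mem_CC.1 hc
    have hci : c⁻¹ * z (0, 0) = z (0, 0) * c⁻¹ := by
      rw [inv_mul_eq_iff_eq_mul, ← mul_assoc, hc', mul_assoc, mul_inv_cancel, mul_one]
    have hy' := QQ_norm hci hy
    have h1 := comm_E h hb hy' he
    -- `e y' e⁻¹ ∈ {y', z y'}`
    have h2 : e * (c⁻¹ * y * c⁻¹⁻¹) * e⁻¹ = c⁻¹ * y * c⁻¹⁻¹ ∨
        e * (c⁻¹ * y * c⁻¹⁻¹) * e⁻¹ = z (0, 0) * (c⁻¹ * y * c⁻¹⁻¹) := by
      rcases h1 with h1 | h1
      · left; exact comm_conj (conj_comm h1).symm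
      · right
        have h3 : (c⁻¹ * y * c⁻¹⁻¹) * e = z (0, 0) * e * (c⁻¹ * y * c⁻¹⁻¹) := by
          rw [← h1]; group
        have h4 : e * (c⁻¹ * y * c⁻¹⁻¹) = z (0, 0) * ((c⁻¹ * y * c⁻¹⁻¹) * e) := by
          rw [h3]
          calc e * (c⁻¹ * y * c⁻¹⁻¹) = 1 * (e * (c⁻¹ * y * c⁻¹⁻¹)) := by rw [one_mul]
            _ = z (0, 0) * z (0, 0) * (e * (c⁻¹ * y * c⁻¹⁻¹)) := by rw [hzz]
            _ = z (0, 0) * (z (0, 0) * e * (c⁻¹ * y * c⁻¹⁻¹)) := by group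
        rw [h4]; group
    have e1 : c * e * c⁻¹ * y * (c * e * c⁻¹)⁻¹ = c * (e * (c⁻¹ * y * c⁻¹⁻¹) * e⁻¹) * c⁻¹ := by
      group
    rw [e1]
    rcases h2 with h2 | h2
    · left; rw [h2]; group
    · right
      rw [h2]
      calc c * (z (0, 0) * (c⁻¹ * y * c⁻¹⁻¹)) * c⁻¹ = (c * z (0, 0)) * (c⁻¹ * y) := by group
        _ = z (0, 0) * y := by rw [hc']; group
  | one => intro y _; left; group
  | mul a b ha0 hb0 ha hb' =>
    intro y hy
    have e : a * b * y * (a * b)⁻¹ = a * (b * y * b⁻¹) * a⁻¹ := by group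
    rw [e]
    rcases hb' hb0 y hy with h1 | h1
    · rw [h1]; exact ha ha0 y hy
    · rw [h1]
      have e2 : a * (z (0, 0) * y) * a⁻¹ = z (0, 0) * (a * y * a⁻¹) := by
        calc a * (z (0, 0) * y) * a⁻¹ = (a * z (0, 0)) * y * a⁻¹ := by group
          _ = z (0, 0) * (a * y * a⁻¹) := by rw [hQz a (QS_le V _ ha0)]; group
      rw [e2]
      rcases ha ha0 y hy with h2 | h2
      · right; rw [h2]
      · left; rw [h2, ← mul_assoc, hzz, one_mul]
  | inv a ha0 ha =>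
    intro y hy
    rcases ha ha0 y hy with h1 | h1
    · left
      calc a⁻¹ * y * a⁻¹⁻¹ = a⁻¹ * (a * y * a⁻¹) * a := by rw [h1]; group
        _ = y := by group
    · right
      have h2 : a * (z (0, 0) * y) * a⁻¹ = y := by
        calc a * (z (0, 0) * y) * a⁻¹ = (a * z (0, 0)) * y * a⁻¹ := by group
          _ = z (0, 0) * (a * y * a⁻¹) := by rw [hQz a (QS_le V _ ha0)]; group
          _ = y := by rw [h1, ← mul_assoc, hzz, one_mul]
      calc a⁻¹ * y * a⁻¹⁻¹ = a⁻¹ * (a * (z (0, 0) * y) * a⁻¹) * a := by rw [h2]; group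
        _ = z (0, 0) * y := by group

/-- `QS` induces at least two non-trivial automorphisms of `V` (repair #12381). -/
theorem two_acts [Finite G] : ∃ x ∈ QS V (z (0, 0)), ∃ y ∈ QS V (z (0, 0)),
    (∃ v ∈ V, x * v ≠ v * x) ∧ (∃ v ∈ V, y * v ≠ v * y) ∧ ∃ v ∈ V, x * v * x⁻¹ ≠ y * v * y⁻¹ := by
  by_contra hcon
  push Not at hcon
  have hVC := V_le_CC h
  obtain ⟨g, hgC, hgX, hX2, -⟩ := Choice.exists_g hVC hb.VQ
  have hgz := mem_CC.1 hgC
  have hgzc : g * z (0, 0) * g⁻¹ = z (0, 0) := comm_conj hgz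
  have hfr : Fr V (QQ (z (0, 0))) g :=
    { comm := le_centralizer_of_comm fun a ha b hb' => V_comm h ha hb'
      QV := hb.QM.trans hb.MV
      VQ := fun v hv => le_normalizer_o2 _ (hVC hv)
      gQ := by rw [← QQ_conj, hgzc]
      gX := hgX }
  -- `E^g ≤ QS`
  have hE' : ∀ y ∈ E' V (QQ (z (0, 0))) g, y ∈ QS V (z (0, 0)) := by
    intro y hy
    obtain ⟨e, he, rfl⟩ := mem_conj'.1 hy
    exact QS_norm hgz (mem_QS he.1 he.2)
  have hE'2 : ∀ y ∈ E' V (QQ (z (0, 0))) g, y * y = 1 := by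
    intro y hy
    obtain ⟨e, he, rfl⟩ := mem_conj'.1 hy
    calc g * e * g⁻¹ * (g * e * g⁻¹) = g * (e * e) * g⁻¹ := by group
      _ = 1 := by rw [V_sq h he.1]; group
  have hq : Quad.IsQuad V (QQ (z (0, 0))) g := by
    intro v hv y hy x hx
    set w := v * y * v⁻¹ * y⁻¹ with hw
    have hyQ := QS_le V _ (hE' y hy)
    have hwV : w ∈ V := by
      have e : w = v * (y * v⁻¹ * y⁻¹) := by rw [hw]; group
      rw [e]
      exact mul_mem hv (norm_mem (hb.MV (hb.QM hyQ)) (inv_mem hv))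
    by_cases hy0 : ∀ v ∈ V, y * v = v * y
    · have e : w = 1 := by
        rw [hw, ← hy0 v hv]; group
      rw [e]; simp
    by_cases hx0 : ∀ v ∈ V, x * v = v * x
    · exact (hx0 w hwV).symm
    push Not at hx0 hy0
    have h1 := hcon x (hE' x hx) y (hE' y hy) hx0 hy0 w hwV
    have h2 : y * w * y⁻¹ = w := by
      have hyv : y * v * y⁻¹ ∈ V := norm_mem (hb.MV (hb.QM hyQ)) hv
      have hyi : y⁻¹ = y := inv_eq_of_mul_eq_one_left (hE'2 y hy)
      have e1 : y * w * y⁻¹ = (y * v * y⁻¹) * v⁻¹ := by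
        have e2 : y * w * y⁻¹ = (y * v * y⁻¹) * ((y * y) * v⁻¹ * (y * y)⁻¹) := by rw [hw]; group
        rw [e2, hE'2 y hy]; group
      have e3 : w⁻¹ = (y * v * y⁻¹) * v⁻¹ := by rw [hw]; group
      rw [e1, ← e3]
      exact inv_eq_of_mul_eq_one_left (V_sq h hwV)
    rw [h2] at h1
    exact (conj_comm h1).symm
  -- so `E^g ≤ C(V)`, `E^g ≤ D`
  have hE'D : ∀ y ∈ E' V (QQ (z (0, 0))) g, y ∈ D V (QQ (z (0, 0))) g := by
    intro y hy
    refine hfr.mem_D_of_E' hy fun v hv => ?_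
    exact faithful h hb (hfr.E'_le_Q hy) (fun e he => Quad.comm_EE' hfr hq he hy) hv
  have hle : E' V (QQ (z (0, 0))) g ≤ E V (QQ (z (0, 0))) := fun y hy => (hE'D y hy).1
  have heq : E' V (QQ (z (0, 0))) g = E V (QQ (z (0, 0))) :=
    Subgroup.eq_of_le_of_card_ge hle (by rw [Fr.card_E'])
  have hWD : ∀ w ∈ W V (QQ (z (0, 0))) g, w ∈ D V (QQ (z (0, 0))) g := by
    intro w hw
    refine (sup_le ?_ (fun y hy => hE'D y hy) : W V (QQ (z (0, 0))) g ≤ _) hw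
    intro y hy
    refine mem_inf.2 ⟨hy, ?_⟩
    rw [heq]; exact hy
  apply hX2
  rintro ⟨x, hx⟩
  have hXC : X V g ≤ CC (z (0, 0)) := sup_le hVC (Choice.conj_le_of_mem hVC hgC)
  have hC : CC (z (0, 0)) ⊓ centralizer (QQ (z (0, 0)) : Set G) ≤ QQ (z (0, 0)) := by
    rintro y ⟨hy1, hy2⟩
    exact hb.char2 y (mem_CC.1 hy1) fun q hq => (mem_centralizer_iff.1 hy2 q hq).symm
  obtain ⟨k, hk⟩ := hfr.exists_pow_eq_one (o2_isPGroup (CC (z (0, 0)))) hC hXC hx (fun w hw => by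
    have hd := hWD w hw
    have e : x * w * x⁻¹ * w⁻¹ = 1 := by rw [hfr.D_cent hd hx]; group
    rw [e]; exact one_mem _)
  exact ⟨k, Subtype.ext hk⟩

omit h hb in
theorem th_th' : (fun c : Fin 3 => th 0 (th 0 c)) = id := by
  funext c; exact th_th 0 c

/-- `QS` induces `⟨t_a⟩ × ⟨t_b⟩`. -/
theorem acts [Finite G] : (∃ u ∈ QS V (z (0, 0)), Act z u (th 0) id) ∧
    ∃ v ∈ QS V (z (0, 0)), Act z v id (th 0) := by
  obtain ⟨x, hx, y, hy, ⟨v, hv, hxv⟩, ⟨w, hw, hyw⟩, ⟨t, ht, hxy⟩⟩ := two_acts h hb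
  obtain ⟨σ, τ, ha, hσ, hτ⟩ := act_Q h hb (QS_le V _ hx)
  obtain ⟨σ', τ', ha', hσ', hτ'⟩ := act_Q h hb (QS_le V _ hy)
  have triv : ∀ q : G, ∀ v ∈ V, Act z q id id → q * v = v * q := fun q v hv hq =>
    comm_of_z h (fun i => conj_comm (hq i.1 i.2)) hv
  have hxy' := mul_mem hx hy
  have hm := Act.mul ha ha'
  rcases hσ with rfl | rfl <;> rcases hτ with rfl | rfl <;> rcases hσ' with rfl | rfl <;>
    rcases hτ' with rfl | rfl
  · exact absurd (triv x v hv ha) hxv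
  · exact absurd (triv x v hv ha) hxv
  · exact absurd (triv x v hv ha) hxv
  · exact absurd (triv x v hv ha) hxv
  · exact absurd (triv y w hw ha') hyw
  · exact absurd (same_of_z h (fun i => (ha i.1 i.2).trans (ha' i.1 i.2).symm) ht) hxy
  · exact ⟨⟨y, hy, ha'⟩, ⟨x, hx, ha⟩⟩
  · refine ⟨⟨x * y, hxy', ?_⟩, ⟨x, hx, ha⟩⟩
    have e : (fun b : Fin 3 => th 0 (th 0 b)) = id := th_th'
    rw [e] at hm
    exact hm
  · exact absurd (triv y w hw ha') hyw
  · exact ⟨⟨x, hx, ha⟩, ⟨y, hy, ha'⟩⟩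
  · exact absurd (same_of_z h (fun i => (ha i.1 i.2).trans (ha' i.1 i.2).symm) ht) hxy
  · refine ⟨⟨x, hx, ha⟩, ⟨x * y, hxy', ?_⟩⟩
    have e : (fun b : Fin 3 => th 0 (th 0 b)) = id := th_th'
    rw [e] at hm
    exact hm
  · exact absurd (triv y w hw ha') hyw
  · refine ⟨⟨x * y, hxy', ?_⟩, ⟨y, hy, ha'⟩⟩
    have e : (fun b : Fin 3 => th 0 (th 0 b)) = id := th_th'
    rw [e] at hm
    exact hm
  · refine ⟨⟨y, hy, ha'⟩, ⟨x * y, hxy', ?_⟩⟩
    have e : (fun b : Fin 3 => th 0 (th 0 b)) = id := th_th'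
    rw [e] at hm
    exact hm
  · exact absurd (same_of_z h (fun i => (ha i.1 i.2).trans (ha' i.1 i.2).symm) ht) hxy

end Base

set_option maxRecDepth 100000 in
theorem perm_th : ∀ σ : Equiv.Perm (Fin 3), ∀ a c, σ (th a c) = th (σ a) (σ c) := by
  decide +kernel

theorem exists_perm : ∀ a : Fin 3, ∃ σ : Equiv.Perm (Fin 3), σ 0 = a := by decide

/-- the data at the point `z i` -/
structure Pt (M V : Subgroup G) (z : Fin 3 × Fin 3 → G) (i : Fin 3 × Fin 3) : Prop where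
  QM : QQ (z i) ≤ M
  mem : ∀ c, z (i.1, c) ∈ QS V (z i) ∧ z (c, i.2) ∈ QS V (z i)
  comQ : ∀ x ∈ QS V (z i), ∀ y ∈ QQ (z i), x * y = y * x ∨ x * y = z i * (y * x)
  act1 : ∃ u ∈ QS V (z i), Act z u (th i.1) id
  act2 : ∃ v ∈ QS V (z i), Act z v id (th i.2)
  syl : ∃ S : Subgroup G, S ≤ M ∧ (∀ s ∈ S, s * z i = z i * s) ∧ IsPGroup 2 S ∧ QQ (z i) ≤ S ∧
    ∀ y ∈ S, (∀ s ∈ S, s * y = y * s) → y * y = 1 → y = 1 ∨ y = z i

/-- transport of the data -/
theorem Pt.conj {M V : Subgroup G} {z : Fin 3 × Fin 3 → G} {i : Fin 3 × Fin 3} (h : Pt M V z i)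
    (hMV : M ≤ normalizer (V : Set G)) {m : G} (hm : m ∈ M) {σ τ : Equiv.Perm (Fin 3)}
    (hz : ∀ a b, m * z (a, b) * m⁻¹ = z (σ a, τ b)) : Pt M V z (σ i.1, τ i.2) := by
  obtain ⟨a, b⟩ := i
  have hij : m * z (a, b) * m⁻¹ = z (σ a, τ b) := hz a b
  have back : ∀ y : G, ∃ x, y = m * x * m⁻¹ := fun y => ⟨m⁻¹ * y * m, by group⟩
  have hcomm : ∀ {a b : G}, m * a * m⁻¹ * (m * b * m⁻¹) = m * b * m⁻¹ * (m * a * m⁻¹) ↔
      a * b = b * a := by
    intro a b
    have e1 : m * a * m⁻¹ * (m * b * m⁻¹) = m * (a * b) * m⁻¹ := by group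
    have e2 : m * b * m⁻¹ * (m * a * m⁻¹) = m * (b * a) * m⁻¹ := by group
    rw [e1, e2]
    exact ⟨fun h => mul_left_cancel (mul_right_cancel h), fun h => by rw [h]⟩
  have hQ : QQ (z (σ a, τ b)) = MulAut.conj m • QQ (z (a, b)) := by rw [← hij, QQ_conj]
  have hmi : m⁻¹ * z (σ a, τ b) * m⁻¹⁻¹ = z (a, b) := by rw [← hij]; group
  have hQS : ∀ {x : G}, m * x * m⁻¹ ∈ QS V (z (σ a, τ b)) → x ∈ QS V (z (a, b)) := by
    intro x hx
    have h1 := QS_conj (inv_mem (hMV hm)) hx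
    rw [hmi] at h1
    have e : m⁻¹ * (m * x * m⁻¹) * m⁻¹⁻¹ = x := by group
    rwa [e] at h1
  have hQS' : ∀ {x : G}, x ∈ QS V (z (a, b)) → m * x * m⁻¹ ∈ QS V (z (σ a, τ b)) := by
    intro x hx
    have h1 := QS_conj (hMV hm) hx
    rwa [hij] at h1
  have hzi : ∀ c d, m⁻¹ * z (c, d) * m = z (σ⁻¹ c, τ⁻¹ d) := by
    intro c d
    have h1 := hz (σ⁻¹ c) (τ⁻¹ d)
    rw [show σ (σ⁻¹ c) = c from σ.apply_symm_apply c,
      show τ (τ⁻¹ d) = d from τ.apply_symm_apply d] at h1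
    rw [← h1]; group
  refine ⟨?_, ?_, ?_, ?_, ?_, ?_⟩
  · intro y hy
    obtain ⟨x, rfl⟩ := back y
    rw [hQ, conj_mem_iff] at hy
    exact mul_mem (mul_mem hm (h.QM hy)) (inv_mem hm)
  · intro c
    refine ⟨?_, ?_⟩
    · have h1 := hQS' (h.mem (τ⁻¹ c)).1
      rw [hz, show τ (τ⁻¹ c) = c from τ.apply_symm_apply c] at h1
      exact h1
    · have h1 := hQS' (h.mem (σ⁻¹ c)).2
      rw [hz, show σ (σ⁻¹ c) = c from σ.apply_symm_apply c] at h1
      exact h1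
  · intro x hx y hy
    obtain ⟨x, rfl⟩ := back x
    obtain ⟨y, rfl⟩ := back y
    rw [hQ, conj_mem_iff] at hy
    rcases h.comQ x (hQS hx) y hy with h1 | h1
    · exact Or.inl (hcomm.2 h1)
    · right
      calc m * x * m⁻¹ * (m * y * m⁻¹) = m * (x * y) * m⁻¹ := by group
        _ = (m * z (a, b) * m⁻¹) * (m * y * m⁻¹ * (m * x * m⁻¹)) := by rw [h1]; group
        _ = _ := by rw [hij]
  · obtain ⟨u, hu, hu1⟩ := h.act1
    refine ⟨m * u * m⁻¹, hQS' hu, fun c d => ?_⟩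
    calc m * u * m⁻¹ * z (c, d) * (m * u * m⁻¹)⁻¹ = m * (u * (m⁻¹ * z (c, d) * m) * u⁻¹) * m⁻¹ := by
          group
      _ = z (σ (th a (σ⁻¹ c)), τ (τ⁻¹ d)) := by rw [hzi, hu1, hz]; rfl
      _ = z (th (σ a) c, id d) := by
          rw [perm_th, show σ (σ⁻¹ c) = c from σ.apply_symm_apply c,
            show τ (τ⁻¹ d) = d from τ.apply_symm_apply d]; rfl
  · obtain ⟨u, hu, hu1⟩ := h.act2
    refine ⟨m * u * m⁻¹, hQS' hu, fun c d => ?_⟩
    calc m * u * m⁻¹ * z (c, d) * (m * u * m⁻¹)⁻¹ = m * (u * (m⁻¹ * z (c, d) * m) * u⁻¹) * m⁻¹ := by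
          group
      _ = z (σ (σ⁻¹ c), τ (th b (τ⁻¹ d))) := by rw [hzi, hu1, hz]; rfl
      _ = z (id c, th (τ b) d) := by
          rw [perm_th, show σ (σ⁻¹ c) = c from σ.apply_symm_apply c,
            show τ (τ⁻¹ d) = d from τ.apply_symm_apply d]; rfl
  · obtain ⟨S, hSM, hSz, hS2, hQS2, hS⟩ := h.syl
    refine ⟨MulAut.conj m • S, ?_, ?_, hS2.map _, ?_, ?_⟩
    · intro y hy
      obtain ⟨x, rfl⟩ := back y
      exact mul_mem (mul_mem hm (hSM (conj_mem_iff.1 hy))) (inv_mem hm)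
    · intro y hy
      obtain ⟨x, rfl⟩ := back y
      change m * x * m⁻¹ * z (σ a, τ b) = z (σ a, τ b) * (m * x * m⁻¹)
      rw [← hij]
      exact hcomm.2 (hSz x (conj_mem_iff.1 hy))
    · intro y hy
      obtain ⟨x, rfl⟩ := back y
      rw [hQ, conj_mem_iff] at hy
      exact conj_mem_iff.2 (hQS2 hy)
    · intro y hy hys hy2
      obtain ⟨x, rfl⟩ := back y
      have h1 : x * x = 1 := by
        calc x * x = m⁻¹ * (m * x * m⁻¹ * (m * x * m⁻¹)) * m := by group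
          _ = 1 := by rw [hy2]; group
      rcases hS x (conj_mem_iff.1 hy) (fun s hs => hcomm.1 (hys _ (conj_mem_iff.2 hs))) h1 with
        rfl | rfl
      · left; group
      · right; exact hij

section final

variable {M V : Subgroup G} {z : Fin 3 × Fin 3 → G}

theorem pt_zero [Finite G] (h : Pts9 M V z) (hb : Base M V z) (S : Sylow 2 G)
    (hSM : (S : Subgroup G) ≤ M) (hzS : ∀ s ∈ (S : Subgroup G), s * z (0, 0) = z (0, 0) * s)
    (hZ : ∀ x ∈ (S : Subgroup G), (∀ s ∈ (S : Subgroup G), x * s = s * x) → x * x = 1 →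
      x = 1 ∨ x = z (0, 0)) : Pt M V z (0, 0) := by
  have hSF : (S : Subgroup G) ≤ CC (z (0, 0)) := fun s hs => mem_CC.2 (hzS s hs)
  have hSF' : (S : Subgroup G) ≤ normalizer ((zpowers (z (0, 0)) : Subgroup G) : Set G) :=
    hSF.trans (LemmaT.centralizer_le_normalizer' _)
  obtain ⟨hu, hv⟩ := acts h hb
  refine ⟨hb.QM, fun c => ⟨mem_QS (h.mem _) (line_row h hb c), mem_QS (h.mem _) (line_col h hb c)⟩,
    fun x hx y hy => ?_, hu, hv, S, hSM, hzS, S.isPGroup', LemmaT.o2_centralizer_le S hSF',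
    fun y hy hys hyy => hZ y hy (fun s hs => (hys s hs).symm) hyy⟩
  rcases comm_QS h hb hx y hy with h1 | h1
  · exact Or.inl (conj_comm h1)
  · right
    calc x * y = x * y * x⁻¹ * x := by group
      _ = z (0, 0) * (y * x) := by rw [h1]; group

/-- The configuration `Gr`. -/
theorem gr (h : Pts9 M V z) (hMV : M ≤ normalizer (V : Set G)) (h0 : Pt M V z (0, 0)) :
    Gr M z (fun i => QQ (z i)) (fun i => QS V (z i)) := by
  have hP : ∀ i, Pt M V z i := by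
    rintro ⟨a, b⟩
    obtain ⟨σ, hσ⟩ := exists_perm a
    obtain ⟨τ, hτ⟩ := exists_perm b
    obtain ⟨m, hm, hmz⟩ := h.alt σ τ
    have h1 := h0.conj hMV hm hmz
    simp only [hσ, hτ] at h1
    exact h1
  exact
    { inj := h.inj
      ne_one := h.ne_one
      sq := h.sq
      comm := h.comm
      row := h.row
      col := h.col
      QM := fun i => (hP i).QM
      perm := h.perm
      eqQ := fun m _ i j hij x hx => by
        have h1 := (mem_QQ_conj (g := m)).2 hx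
        rwa [hij] at h1
      eqQs := fun m hm i j hij x hx => by
        have h1 := QS_conj (hMV hm) hx
        rwa [hij] at h1
      nQ := fun i c hc x hx => QQ_norm hc hx
      nQs := fun i c hc x hx => QS_norm hc hx
      le := fun i => QS_le V _
      mem := fun a b c => (hP (a, b)).mem c
      Qz := fun i x hx => mem_CC.1 (DZeroPts.QQ_le _ hx)
      comQ := fun i => (hP i).comQ
      act1 := fun a b => (hP (a, b)).act1
      act2 := fun a b => (hP (a, b)).act2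
      syl := fun i => (hP i).syl }

open Cfsg.Agent.Co2Type.Quad in
/-- **THEOREM D0+.** -/
theorem large [Finite G] (S : Sylow 2 G) (h : Pts9 M V z) (hMV : M ≤ normalizer (V : Set G))
    (hSM : (S : Subgroup G) ≤ M) (hzS : ∀ s ∈ (S : Subgroup G), s * z (0, 0) = z (0, 0) * s)
    (hZ : ∀ x ∈ (S : Subgroup G), (∀ s ∈ (S : Subgroup G), x * s = s * x) → x * x = 1 →
      x = 1 ∨ x = z (0, 0))
    (hC : centralizer ({z (0, 0)} : Set G) ⊓
      centralizer (o2 (centralizer ({z (0, 0)} : Set G)) : Set G) ≤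
        o2 (centralizer ({z (0, 0)} : Set G)))
    (hVQ : ¬ V ≤ o2 (centralizer ({z (0, 0)} : Set G)))
    (hns : ∀ q ∈ o2 (centralizer ({z (0, 0)} : Set G)), Ns z q)
    (hu : ∃ u ∈ o2 (centralizer ({z (0, 0)} : Set G)), Act z u (th 0) id)
    (hv : ∃ v ∈ o2 (centralizer ({z (0, 0)} : Set G)), Act z v id (th 0)) :
    Large (o2 (centralizer ({z (0, 0)} : Set G))) (z (0, 0)) := by
  have e : QQ (z (0, 0)) = o2 (centralizer ({z (0, 0)} : Set G)) := by rw [QQ, CC_eq]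
  rw [← e] at hC hVQ hns hu hv ⊢
  rw [← CC_eq] at hC
  have hSF : (S : Subgroup G) ≤ CC (z (0, 0)) := fun s hs => mem_CC.2 (hzS s hs)
  have hSF' : (S : Subgroup G) ≤ normalizer ((zpowers (z (0, 0)) : Subgroup G) : Set G) :=
    hSF.trans (LemmaT.centralizer_le_normalizer' _)
  have hchar : ∀ g, g * z (0, 0) = z (0, 0) * g → (∀ x ∈ QQ (z (0, 0)), g * x = x * g) →
      g ∈ QQ (z (0, 0)) := fun g hg hgx => hC (mem_inf.2 ⟨mem_CC.2 hg, mem_centralizer_iff.2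
        fun x hx => (hgx x hx).symm⟩)
  have hb : Base M V z := ⟨hMV, (LemmaT.o2_centralizer_le S hSF').trans hSM, hchar, hVQ, hns, hu, hv⟩
  have h0 := pt_zero h hb S hSM hzS hZ
  exact (gr h hMV h0).large (0, 0) hchar

end final

end Cfsg.Agent.Omega.NOne.PlusPts
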