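import Mathlib

/-!
# NO-1: systems of points (texts #11921 (3)-(6), #12107 (3)-(6))

`P` = a set of commuting involutions ("points") permuted by `M`; to every point `x` belong subgroups
`Q* x ≤ Q x ≤ C(x)` with `[Q* x, Q x] ≤ ⟨x⟩`; `B x = C_{Q x}(Q* x)`.  `Q* w` is transitive on the four points
opposite to `w`.  If the `B x` intersect trivially and no nontrivial subgroup of `B x` normalised by `C_M(x)`
avoids `x`, then `B x = ⟨x⟩`.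

Both cases `V = O₄⁻(2)` (five points, all opposite) and `V = O₄⁺(2)` (nine points of a 3 × 3 grid) are
instances.
-/

set_option autoImplicit false

namespace Cfsg.Agent.Omega.NOne.PtSys

open Subgroup

universe u

variable {G : Type u} [Group G]

/-- `B x = C_{Q x}(Q* x)` -/
def B (Q Qs : G → Subgroup G) (x : G) : Subgroup G := Q x ⊓ centralizer (Qs x : Set G)

/-- A system of points. -/
structure Sys (M : Subgroup G) (P : G → Prop) (opp : G → G → Prop) (Q Qs : G → Subgroup G) :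
    Prop where
  sq : ∀ x, P x → x * x = 1
  ne : ∀ x, P x → x ≠ 1
  comm : ∀ x y, P x → P y → x * y = y * x
  le : ∀ x, P x → Qs x ≤ Q x
  zmem : ∀ x, P x → x ∈ Qs x
  cen : ∀ x, P x → ∀ y ∈ Q x, y * x = x * y
  QM : ∀ x, P x → Q x ≤ M
  norm : ∀ x, P x → ∀ g, g * x = x * g → ∀ y ∈ Q x, g * y * g⁻¹ ∈ Q x
  conjQ : ∀ g ∈ M, ∀ x, P x → ∀ y ∈ Q x, g * y * g⁻¹ ∈ Q (g * x * g⁻¹)
  conjQs : ∀ g ∈ M, ∀ x, P x → ∀ y ∈ Qs x, g * y * g⁻¹ ∈ Qs (g * x * g⁻¹)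
  com : ∀ x, P x → ∀ u ∈ Qs x, ∀ y ∈ Q x, u * y * u⁻¹ * y⁻¹ = 1 ∨ u * y * u⁻¹ * y⁻¹ = x
  ssq : ∀ x, P x → ∀ u ∈ Qs x, u * u = 1 ∨ u * u = x
  pM : ∀ g ∈ M, ∀ x, P x → P (g * x * g⁻¹)
  oppP : ∀ x y, opp x y → P x ∧ P y
  symm : ∀ x y, opp x y → opp y x
  irr : ∀ x, ¬ opp x x
  oppM : ∀ g ∈ M, ∀ x y, opp x y → opp (g * x * g⁻¹) (g * y * g⁻¹)
  ex : ∀ x, P x → ∃ w, opp x w
  three : ∀ x w, opp x w → ∃ x₂ x₃, opp x₂ w ∧ opp x₃ w ∧ x₂ ≠ x ∧ x₃ ≠ x ∧ x₂ ≠ x₃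
  four : ∀ x x₂ x₃ x₄ w, opp x w → opp x₂ w → opp x₃ w → opp x₄ w → x₂ ≠ x → x₃ ≠ x → x₄ ≠ x →
    x₂ ≠ x₃ → x₂ ≠ x₄ → x₃ ≠ x₄ →
    x * x₂ * x₃ * x₄ = w ∧ ∀ y, opp y w → y = x ∨ y = x₂ ∨ y = x₃ ∨ y = x₄
  move : ∀ x y w, opp x w → opp y w → ∃ u ∈ Qs w, u * x * u⁻¹ = y
  Bcen : ∀ x y, P x → P y → ∀ b ∈ B Q Qs x, b * y = y * b
  Binf : ∀ x y, P x → P y → x ≠ y → ∀ b, b ∈ B Q Qs x → b ∈ B Q Qs y → b = 1
  fin : ∀ x, P x → ∀ K : Subgroup G, K ≤ B Q Qs x →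
    (∀ g ∈ M, g * x = x * g → ∀ k ∈ K, g * k * g⁻¹ ∈ K) → K ≠ ⊥ → x ∈ K

namespace Sys

variable {M : Subgroup G} {P : G → Prop} {opp : G → G → Prop} {Q Qs : G → Subgroup G}
variable (h : Sys M P opp Q Qs)
include h

theorem QsM {x : G} (hx : P x) : Qs x ≤ M := (h.le x hx).trans (h.QM x hx)

omit h in
theorem conj_eq_of_comm {g x : G} (hg : g * x = x * g) : g * x * g⁻¹ = x := by
  rw [hg, mul_inv_cancel_right]

omit h in
theorem comm_of_conj_eq {g x : G} (hg : g * x * g⁻¹ = x) : g * x = x * g := by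
  rw [mul_inv_eq_iff_eq_mul] at hg
  exact hg

omit h in
theorem mem_B {x b : G} : b ∈ B Q Qs x ↔ b ∈ Q x ∧ ∀ u ∈ Qs x, u * b = b * u := by
  rw [B, mem_inf, mem_centralizer_iff]
  rfl

theorem conjB {g : G} (hg : g ∈ M) {x : G} (hx : P x) {b : G} (hb : b ∈ B Q Qs x) :
    g * b * g⁻¹ ∈ B Q Qs (g * x * g⁻¹) := by
  rw [mem_B] at hb ⊢
  refine ⟨h.conjQ g hg x hx b hb.1, fun u hu => ?_⟩
  have h1 := h.conjQs g⁻¹ (inv_mem hg) _ (h.pM g hg x hx) u hu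
  have e : g⁻¹ * (g * x * g⁻¹) * g⁻¹⁻¹ = x := by group
  rw [e] at h1
  have h2 := hb.2 _ h1
  calc u * (g * b * g⁻¹) = g * ((g⁻¹ * u * g⁻¹⁻¹) * b) * g⁻¹ := by group
    _ = g * (b * (g⁻¹ * u * g⁻¹⁻¹)) * g⁻¹ := by rw [h2]
    _ = g * b * g⁻¹ * u := by group

theorem B_le_M {x : G} (hx : P x) {b : G} (hb : b ∈ B Q Qs x) : b ∈ M := h.QM x hx hb.1

theorem self_mem_B {x : G} (hx : P x) : x ∈ B Q Qs x := by
  rw [mem_B]
  exact ⟨h.le x hx (h.zmem x hx), fun u hu => h.cen x hx u (h.le x hx hu)⟩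

/-- An element of `M` centralising `x` normalises `B x`. -/
theorem normB {g : G} (hg : g ∈ M) {x : G} (hx : P x) (hgx : g * x = x * g) {b : G}
    (hb : b ∈ B Q Qs x) : g * b * g⁻¹ ∈ B Q Qs x := by
  have := h.conjB hg hx hb
  rwa [conj_eq_of_comm hgx] at this

theorem comm_B {x y : G} (hx : P x) (hy : P y) (hxy : x ≠ y) {a b : G} (ha : a ∈ B Q Qs x)
    (hb : b ∈ B Q Qs y) : a * b = b * a := by
  have h1 : a * b * a⁻¹ * b⁻¹ ∈ B Q Qs y :=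
    mul_mem (h.normB (h.B_le_M hx ha) hy (h.Bcen x y hx hy a ha) hb) (inv_mem hb)
  have h2 : a * b * a⁻¹ * b⁻¹ ∈ B Q Qs x := by
    have h3 := h.normB (h.B_le_M hy hb) hx (h.Bcen y x hy hx b hb) (inv_mem ha)
    have e : a * b * a⁻¹ * b⁻¹ = a * (b * a⁻¹ * b⁻¹) := by group
    rw [e]
    exact mul_mem ha h3
  have h3 := h.Binf x y hx hy hxy _ h2 h1
  rw [mul_inv_eq_one, mul_inv_eq_iff_eq_mul] at h3
  exact h3

/-- An element of `B x` normalises `Q w`. -/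
theorem B_norm_Q {x w : G} (hx : P x) (hw : P w) {b : G} (hb : b ∈ B Q Qs x) {y : G} (hy : y ∈ Q w) :
    b * y * b⁻¹ ∈ Q w := h.norm w hw b (h.Bcen x w hx hw b hb) y hy

/-- `u ∈ Q w` fixes `w`. -/
theorem conj_w {w u : G} (hw : P w) (hu : u ∈ Q w) : u * w * u⁻¹ = w := conj_eq_of_comm (h.cen w hw u hu)

theorem opp_conj {x w u : G} (hxw : opp x w) (hu : u ∈ Qs w) : opp (u * x * u⁻¹) w := by
  obtain ⟨_, hw⟩ := h.oppP x w hxw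
  have := h.oppM u (h.QsM hw hu) x w hxw
  rwa [h.conj_w hw (h.le w hw hu)] at this

/-- (3): `B x ∩ Q w = 1` for opposite points. -/
theorem inf_Q {x w : G} (hxw : opp x w) {b : G} (hb : b ∈ B Q Qs x) (hbw : b ∈ Q w) : b = 1 := by
  obtain ⟨hx, hw⟩ := h.oppP x w hxw
  have key : ∀ y, opp y w → y ≠ x → b = 1 ∨ w * b ∈ B Q Qs y := by
    intro y hy hyx
    obtain ⟨u, hu, rfl⟩ := h.move x y w hxw hy
    have h1 := h.conjB (h.QsM hw hu) hx hb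
    rcases h.com w hw u hu b hbw with h2 | h2
    · rw [mul_inv_eq_one] at h2
      rw [h2] at h1
      exact Or.inl (h.Binf x _ hx (h.oppP _ _ hy).1 hyx.symm b hb h1)
    · rw [mul_inv_eq_iff_eq_mul] at h2
      rw [h2] at h1
      exact Or.inr h1
  obtain ⟨x₂, x₃, h2, h3, h2x, h3x, h23⟩ := h.three x w hxw
  rcases key x₂ h2 h2x with h4 | h4
  · exact h4
  rcases key x₃ h3 h3x with h5 | h5
  · exact h5
  have h6 := h.Binf x₂ x₃ (h.oppP _ _ h2).1 (h.oppP _ _ h3).1 h23 _ h4 h5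
  have h7 : b = w := by
    have h8 : b = w⁻¹ := (eq_inv_of_mul_eq_one_right h6)
    rw [h8]
    exact inv_eq_of_mul_eq_one_left (h.sq w hw)
  exfalso
  have h8 : x ≠ w := by
    rintro rfl
    exact h.irr x hxw
  exact h.ne w hw (h.Binf x w hx hw h8 w (h7 ▸ hb) (h.self_mem_B hw))

/-- (4): an element of `Q w` centralising `x` centralises `B x` (`x` opposite to `w`). -/
theorem fix_B {x w : G} (hxw : opp x w) {d c : G} (hd : d ∈ B Q Qs x) (hc : c ∈ Q w)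
    (hcx : c * x = x * c) : c * d = d * c := by
  obtain ⟨hx, hw⟩ := h.oppP x w hxw
  have h1 : c * d * c⁻¹ * d⁻¹ ∈ B Q Qs x :=
    mul_mem (h.normB (h.QM w hw hc) hx hcx hd) (inv_mem hd)
  have h2 : c * d * c⁻¹ * d⁻¹ ∈ Q w := by
    have e : c * d * c⁻¹ * d⁻¹ = c * (d * c⁻¹ * d⁻¹) := by group
    rw [e]
    exact mul_mem hc (h.B_norm_Q hx hw hd (inv_mem hc))
  have h3 := h.inf_Q hxw h1 h2
  rw [mul_inv_eq_one, mul_inv_eq_iff_eq_mul] at h3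
  exact h3

/-- The conjugate of `d ∈ B x` under `u ∈ Q w` depends only on the conjugate of `x`. -/
theorem conj_eq {x w : G} (hxw : opp x w) {d u v : G} (hd : d ∈ B Q Qs x) (hu : u ∈ Q w)
    (hv : v ∈ Q w) (huv : u * x * u⁻¹ = v * x * v⁻¹) : u * d * u⁻¹ = v * d * v⁻¹ := by
  have h1 : (v⁻¹ * u) * x = x * (v⁻¹ * u) := by
    calc (v⁻¹ * u) * x = v⁻¹ * (u * x * u⁻¹) * u := by group
      _ = v⁻¹ * (v * x * v⁻¹) * u := by rw [huv]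
      _ = x * (v⁻¹ * u) := by group
  have h2 := h.fix_B hxw hd (mul_mem (inv_mem hv) hu) h1
  calc u * d * u⁻¹ = v * ((v⁻¹ * u) * d) * u⁻¹ := by group
    _ = v * (d * (v⁻¹ * u)) * u⁻¹ := by rw [h2]
    _ = v * d * v⁻¹ := by group

/-- `B x` is abelian. -/
theorem abel_B {x : G} (hx : P x) {d e : G} (hd : d ∈ B Q Qs x) (he : e ∈ B Q Qs x) :
    d * e = e * d := by
  obtain ⟨w, hxw⟩ := h.ex x hx
  obtain ⟨_, hw⟩ := h.oppP x w hxw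
  obtain ⟨x₂, _, h2, _, h2x, _, _⟩ := h.three x w hxw
  obtain ⟨u, hu, rfl⟩ := h.move x x₂ w hxw h2
  have huQ := h.le w hw hu
  have he' := h.conjB (h.QsM hw hu) hx he
  have hde := h.comm_B hx (h.oppP _ _ h2).1 h2x.symm hd he'
  -- `f = u e u⁻¹ e⁻¹ ∈ Q w`
  have hf : u * e * u⁻¹ * e⁻¹ ∈ Q w := by
    have e1 : u * e * u⁻¹ * e⁻¹ = u * (e * u⁻¹ * e⁻¹) := by group
    rw [e1]
    exact mul_mem huQ (h.B_norm_Q hx hw he (inv_mem huQ))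
  have h3 : d * e * d⁻¹ * e⁻¹ ∈ Q w := by
    have e1 : d * e * d⁻¹ * e⁻¹ =
        (d * (u * e * u⁻¹ * e⁻¹)⁻¹ * d⁻¹) * (d * (u * e * u⁻¹) * d⁻¹ * (u * e * u⁻¹)⁻¹) *
          (u * e * u⁻¹ * e⁻¹) := by group
    have e2 : d * (u * e * u⁻¹) * d⁻¹ * (u * e * u⁻¹)⁻¹ = 1 := by
      rw [hde]; group
    rw [e1, e2, mul_one]
    exact mul_mem (h.B_norm_Q hx hw hd (inv_mem hf)) hf
  have h4 : d * e * d⁻¹ * e⁻¹ ∈ B Q Qs x :=
    mul_mem (mul_mem (mul_mem hd he) (inv_mem hd)) (inv_mem he)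
  have h5 := h.inf_Q hxw h4 h3
  rw [mul_inv_eq_one, mul_inv_eq_iff_eq_mul] at h5
  exact h5

/-! ### The trace -/

omit h in
/-- `u`, `v` move `x` to two different points different from `x`. -/
structure Val (Qs : G → Subgroup G) (w x u v : G) : Prop where
  hu : u ∈ Qs w
  hv : v ∈ Qs w
  ux : u * x * u⁻¹ ≠ x
  vx : v * x * v⁻¹ ≠ x
  uv : u * x * u⁻¹ ≠ v * x * v⁻¹

/-- The product of `d` with its conjugates under `u`, `v`, `vu`. -/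
def tr (d u v : G) : G := d * (u * d * u⁻¹) * (v * d * v⁻¹) * (v * u * d * u⁻¹ * v⁻¹)

omit h in
theorem tr_conj (g d u v : G) :
    tr (g * d * g⁻¹) (g * u * g⁻¹) (g * v * g⁻¹) = g * tr d u v * g⁻¹ := by
  simp only [tr]; group

theorem exists_val {x w : G} (hxw : opp x w) : ∃ u v, Val Qs w x u v := by
  obtain ⟨x₂, x₃, h2, h3, h2x, h3x, h23⟩ := h.three x w hxw
  obtain ⟨u, hu, rfl⟩ := h.move x x₂ w hxw h2
  obtain ⟨v, hv, rfl⟩ := h.move x x₃ w hxw h3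
  exact ⟨u, v, hu, hv, h2x, h3x, h23⟩

/-- `u v x v⁻¹ u⁻¹ = v u x u⁻¹ v⁻¹` for `u`, `v ∈ Q* w`. -/
theorem act_comm {x w : G} (hx : P x) (hw : P w) {u v : G} (hu : u ∈ Qs w) (hv : v ∈ Qs w) :
    u * v * x * v⁻¹ * u⁻¹ = v * u * x * u⁻¹ * v⁻¹ := by
  have hc := h.com w hw u hu v (h.le w hw hv)
  have e : u * v = (u * v * u⁻¹ * v⁻¹) * (v * u) := by group
  rcases hc with hc | hc
  · rw [hc, one_mul] at e
    calc u * v * x * v⁻¹ * u⁻¹ = (u * v) * x * (u * v)⁻¹ := by group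
      _ = (v * u) * x * (v * u)⁻¹ := by rw [e]
      _ = v * u * x * u⁻¹ * v⁻¹ := by group
  · rw [hc] at e
    have h1 : v * u * w = w * (v * u) := h.cen w hw _ (mul_mem (h.le w hw hv) (h.le w hw hu))
    calc u * v * x * v⁻¹ * u⁻¹ = (u * v) * x * (u * v)⁻¹ := by group
      _ = (w * (v * u)) * x * (w * (v * u))⁻¹ := by rw [← e]
      _ = (v * u * w) * x * (v * u * w)⁻¹ := by rw [h1]
      _ = v * u * (w * x) * w⁻¹ * u⁻¹ * v⁻¹ := by group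
      _ = v * u * (x * w) * w⁻¹ * u⁻¹ * v⁻¹ := by rw [h.comm w x hw hx]
      _ = v * u * x * u⁻¹ * v⁻¹ := by group

/-- `u²` acts trivially on everything commuting with `w`. -/
theorem act_sq {w : G} (hw : P w) {u : G} (hu : u ∈ Qs w) {d : G} (hd : d * w = w * d) :
    u * u * d * u⁻¹ * u⁻¹ = d := by
  have e : u * u * d * u⁻¹ * u⁻¹ = (u * u) * d * (u * u)⁻¹ := by group
  rw [e]
  rcases h.ssq w hw u hu with h1 | h1
  · rw [h1]; group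
  · rw [h1, ← hd, mul_inv_cancel_right]

section

variable {x w u v : G} (hxw : opp x w) (a : Val Qs w x u v)
include hxw a

omit h hxw in
theorem Val.symm : Val Qs w x v u := ⟨a.hv, a.hu, a.vx, a.ux, a.uv.symm⟩

theorem opp2 : opp (u * x * u⁻¹) w := h.opp_conj hxw a.hu

theorem opp3 : opp (v * x * v⁻¹) w := h.opp_conj hxw a.hv

theorem opp4 : opp (v * u * x * u⁻¹ * v⁻¹) w := by
  have := h.opp_conj (h.opp_conj hxw a.hu) a.hv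
  have e : v * (u * x * u⁻¹) * v⁻¹ = v * u * x * u⁻¹ * v⁻¹ := by group
  rwa [e] at this

theorem x4_ne_x : v * u * x * u⁻¹ * v⁻¹ ≠ x := by
  obtain ⟨hx, hw⟩ := h.oppP x w hxw
  intro h1
  apply a.uv
  have h2 := h.act_sq hw a.hv (h.comm x w hx hw)
  have h3 : v⁻¹ * x * v = v * x * v⁻¹ := by
    calc v⁻¹ * x * v = v⁻¹ * (v * v * x * v⁻¹ * v⁻¹) * v := by rw [h2]
      _ = v * x * v⁻¹ := by group
  rw [← h3]
  calc u * x * u⁻¹ = v⁻¹ * (v * u * x * u⁻¹ * v⁻¹) * v := by group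
    _ = v⁻¹ * x * v := by rw [h1]

theorem x4_ne_x2 : v * u * x * u⁻¹ * v⁻¹ ≠ u * x * u⁻¹ := by
  obtain ⟨hx, hw⟩ := h.oppP x w hxw
  intro h1
  apply a.vx
  rw [← h.act_comm hx hw a.hu a.hv] at h1
  have h2 : u * (v * x * v⁻¹) * u⁻¹ = u * x * u⁻¹ := by rw [← h1]; group
  have h3 : u⁻¹ * (u * (v * x * v⁻¹) * u⁻¹) * u = u⁻¹ * (u * x * u⁻¹) * u := by rw [h2]
  calc v * x * v⁻¹ = u⁻¹ * (u * (v * x * v⁻¹) * u⁻¹) * u := by group
    _ = u⁻¹ * (u * x * u⁻¹) * u := h3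
    _ = x := by group

omit h hxw in
theorem x4_ne_x3 : v * u * x * u⁻¹ * v⁻¹ ≠ v * x * v⁻¹ := by
  intro h1
  apply a.ux
  calc u * x * u⁻¹ = v⁻¹ * (v * u * x * u⁻¹ * v⁻¹) * v := by group
    _ = v⁻¹ * (v * x * v⁻¹) * v := by rw [h1]
    _ = x := by group

theorem four' : x * (u * x * u⁻¹) * (v * x * v⁻¹) * (v * u * x * u⁻¹ * v⁻¹) = w ∧
    ∀ y, opp y w → y = x ∨ y = u * x * u⁻¹ ∨ y = v * x * v⁻¹ ∨ y = v * u * x * u⁻¹ * v⁻¹ :=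
  h.four x _ _ _ w hxw (h.opp2 hxw a) (h.opp3 hxw a) (h.opp4 hxw a) a.ux a.vx (h.x4_ne_x hxw a)
    a.uv (h.x4_ne_x2 hxw a).symm (x4_ne_x3 a).symm

theorem tr_self : tr x u v = w := (h.four' hxw a).1

variable {d : G} (hd : d ∈ B Q Qs x)
include hd

theorem b2 : u * d * u⁻¹ ∈ B Q Qs (u * x * u⁻¹) :=
  h.conjB (h.QsM (h.oppP _ _ hxw).2 a.hu) (h.oppP _ _ hxw).1 hd

theorem b3 : v * d * v⁻¹ ∈ B Q Qs (v * x * v⁻¹) :=
  h.conjB (h.QsM (h.oppP _ _ hxw).2 a.hv) (h.oppP _ _ hxw).1 hd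

theorem b4 : v * u * d * u⁻¹ * v⁻¹ ∈ B Q Qs (v * u * x * u⁻¹ * v⁻¹) := by
  have h1 := h.conjB (h.QsM (h.oppP _ _ hxw).2 a.hv) (h.oppP _ _ (h.opp2 hxw a)).1
    (h.b2 hxw a hd)
  have e : v * (u * x * u⁻¹) * v⁻¹ = v * u * x * u⁻¹ * v⁻¹ := by group
  have e' : v * (u * d * u⁻¹) * v⁻¹ = v * u * d * u⁻¹ * v⁻¹ := by group
  rwa [e, e'] at h1

end

end Sys

end Cfsg.Agent.Omega.NOne.PtSys
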