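import Cfsg.Agent.Omega.NOne.Choice

/-!
# NO-1, Theorem Q' (text #12285 (B))

`C` of characteristic 2, `V ≤ C` normalised by `Q = O₂(C)`, `E = V ∩ Q`, `W = ⟨E^C⟩`.
If `[E, E^x] = 1` for all `x ∈ C`, then `W` is abelian, `C_V(W) = E`, `[V, W] ≤ E`: the groups
`V/E` and `W/C_W(V)` act faithfully and quadratically on `W` and `V`.
-/

set_option autoImplicit false

namespace Cfsg.Agent.Omega.NOne.QPrime

open Subgroup Cfsg Cfsg.Agent.Omega.NOne.Frame
open Cfsg.Agent.MinSimple.VModule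
open Cfsg.Agent.ZN (o2)
open Cfsg.Agent.Omega.NoFF.Basic (mem_conj conj_conj conj_self conj_le_iff conj_le_centralizer
  comm_symm comm_mono Z_le_V V_le conj_V_mul)
open scoped Pointwise

universe u

variable {G : Type u} [Group G]

/-- `⟨E^C⟩` -/
abbrev cl (E C : Subgroup G) : Subgroup G := Cfsg.Agent.Omega.NoFF.Basic.V E C

theorem le_cl {E C : Subgroup G} : E ≤ cl E C := by
  have := Z_le_V (Z := E) (one_mem C)
  rwa [map_one, one_smul] at this

theorem norm_cl {E C : Subgroup G} : C ≤ normalizer (cl E C : Set G) := by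
  intro c hc
  have h1 : MulAut.conj c • cl E C = cl E C := by
    have := conj_V_mul (Z := E) (g := 1) hc
    rwa [one_mul, map_one, one_smul] at this
  rw [mem_normalizer_iff]
  intro x
  constructor
  · intro hx
    have := Frame.conj_mem (g := c) hx
    rwa [h1] at this
  · intro hx
    have h2 : c * x * c⁻¹ ∈ cl E C := hx
    rw [← h1, mem_conj] at h2
    have e : c⁻¹ * (c * x * c⁻¹) * c = x := by group
    rwa [e] at h2

theorem cl_le {E C A : Subgroup G} (h : E ≤ A) (hA : C ≤ normalizer (A : Set G)) : cl E C ≤ A := by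
  refine V_le fun p hp => ?_
  intro x hx
  obtain ⟨y, hy, rfl⟩ := mem_conj'.1 hx
  exact norm_mem (hA hp) (h hy)

theorem cl_abelian {E C : Subgroup G}
    (hq : ∀ x ∈ C, E ≤ centralizer ((MulAut.conj x • E : Subgroup G) : Set G)) :
    cl E C ≤ centralizer (cl E C : Set G) := by
  refine V_le fun p hp => comm_symm (V_le fun r hr => ?_)
  have h1 := conj_le_centralizer (g := p) (hq (p⁻¹ * r) (mul_mem (inv_mem hp) hr))
  rw [conj_conj, mul_inv_cancel_left] at h1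
  exact comm_symm h1

/-- If a normal subgroup `Y` of `C` (of characteristic 2) moves the elements of `O₂(C)` by elements of
the 2-subgroup `W` normal in `C`, then `C_Y(W) ≤ O₂(C)`. -/
theorem inf_centralizer_le_o2 [Finite G] {C Y W : Subgroup G}
    (hC : C ⊓ centralizer (o2 C : Set G) ≤ o2 C) (hYC : Y ≤ C) (hYn : C ≤ normalizer (Y : Set G))
    (hW2 : IsPGroup 2 W) (hWn : C ≤ normalizer (W : Set G))
    (hYW : ∀ y ∈ Y, ∀ q ∈ o2 C, y * q * y⁻¹ * q⁻¹ ∈ W) : Y ⊓ centralizer (W : Set G) ≤ o2 C := by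
  refine le_o2 (inf_le_left.trans hYC) ?_ ?_
  · rintro ⟨x, hx⟩
    obtain ⟨hxY, hxW⟩ := mem_inf.1 hx
    obtain ⟨k, hk⟩ := LemmaT.exists_pow_comm hW2 (fun w hw => (mem_centralizer_iff.1 hxW w hw).symm)
      (hYW x hxY)
    have h1 : x ^ 2 ^ k ∈ o2 C := hC (mem_inf.2 ⟨pow_mem (hYC hxY) _,
      mem_centralizer_iff.2 fun q hq => (hk q hq).symm⟩)
    obtain ⟨m, hm⟩ := LemmaT.exists_pow_eq_one (o2_isPGroup C)
    refine ⟨k + m, Subtype.ext ?_⟩
    change x ^ 2 ^ (k + m) = 1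
    rw [pow_add, pow_mul]
    exact hm _ h1
  · intro c hc
    have h1 := LemmaT.normalizer_le_normalizer_centralizer W (hWn hc)
    have h2 := hYn hc
    rw [mem_normalizer_iff] at h1 h2 ⊢
    exact fun x => and_congr (h2 x) (h1 x)

variable {C V : Subgroup G}

/-- **Theorem Q'.** -/
theorem qprime [Finite G] (hC : C ⊓ centralizer (o2 C : Set G) ≤ o2 C) (hVC : V ≤ C)
    (hQV : o2 C ≤ normalizer (V : Set G))
    (hq : ∀ x ∈ C, V ⊓ o2 C ≤
      centralizer ((MulAut.conj x • (V ⊓ o2 C) : Subgroup G) : Set G)) :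
    cl (V ⊓ o2 C) C ≤ centralizer (cl (V ⊓ o2 C) C : Set G) ∧ cl (V ⊓ o2 C) C ≤ o2 C ∧
      V ⊓ centralizer (cl (V ⊓ o2 C) C : Set G) = V ⊓ o2 C ∧
      ∀ v ∈ V, ∀ w ∈ cl (V ⊓ o2 C) C, v * w * v⁻¹ * w⁻¹ ∈ V ⊓ o2 C := by
  have hQn : C ≤ normalizer (o2 C : Set G) := le_normalizer_o2 C
  have h1 := cl_abelian hq
  have h2 : cl (V ⊓ o2 C) C ≤ o2 C := cl_le inf_le_right hQn
  refine ⟨h1, h2, le_antisymm (le_inf inf_le_left ?_) (le_inf inf_le_left (le_cl.trans h1)),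
    fun v hv w hw => comm_mem_inf (hVC.trans hQn) hQV hv (h2 hw)⟩
  -- `Y = ⟨V^C⟩`
  have hYC : cl V C ≤ C := cl_le hVC le_normalizer
  refine (inf_le_inf_right _ (le_cl (E := V) (C := C))).trans
    (inf_centralizer_le_o2 hC hYC norm_cl ((o2_isPGroup C).to_le h2) norm_cl ?_)
  have hWn : cl V C ≤ normalizer (cl (V ⊓ o2 C) C : Set G) := hYC.trans norm_cl
  have h3 : cl V C ≤ stab (cl V C) (o2 C) (cl (V ⊓ o2 C) C) hWn := by
    refine V_le fun p hp x hx => ?_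
    have hx1 : x ∈ cl V C := Z_le_V hp hx
    refine ⟨hx1, fun q hq => ?_⟩
    obtain ⟨y, hy, rfl⟩ := mem_conj'.1 hx
    have hq' : p⁻¹ * q * p ∈ o2 C := norm_mem' (hQn hp) hq
    have h4 := comm_mem_inf (hVC.trans hQn) hQV hy hq'
    have h5 := norm_mem (norm_cl hp) (le_cl (E := V ⊓ o2 C) (C := C) h4)
    have e : p * y * p⁻¹ * q * (p * y * p⁻¹)⁻¹ * q⁻¹ =
        p * (y * (p⁻¹ * q * p) * y⁻¹ * (p⁻¹ * q * p)⁻¹) * p⁻¹ := by group
    rw [e]
    exact h5
  exact fun y hy q hq => (h3 hy).2 q hq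

end Cfsg.Agent.Omega.NOne.QPrime
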