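import Cfsg.Agent.Co2Type.Quad

/-!
# NO-1: points with four opposite points, abstract form (helper537)

The second half ((3)-(7)) of the texts #11921 (THEOREM D0) and #12107 (THEOREM D0+), for an arbitrary
system of points `z i` with a relation `op i j` ("`z i`, `z j` are not perpendicular") such that every
point has exactly four opposite points and `Qs i` induces the regular four-group on them.
`D i = C_{Q i}(Qs i)`.  If the `D i` intersect trivially and centralise all points, then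
`D i = ⟨z i⟩` and `Q i` is a large extraspecial group (`Large (Q i) (z i)`).

The text is helper302's `DZero.lean`, for a general index set.
-/

set_option autoImplicit false

namespace Cfsg.Agent.Omega.NOne.QuadPts

open Subgroup

variable {G : Type*} [Group G] {ι : Type*}

/-- `j, k, l, m` are four distinct points opposite to `i` -/
def Qd (op : ι → ι → Prop) (i j k l m : ι) : Prop :=
  (op i j ∧ op i k ∧ op i l ∧ op i m) ∧ (j ≠ k ∧ j ≠ l ∧ j ≠ m ∧ k ≠ l ∧ k ≠ m ∧ l ≠ m)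

/-- The abstract configuration. -/
structure QZ (M : Subgroup G) (z : ι → G) (Q Qs : ι → Subgroup G) (op : ι → ι → Prop) : Prop where
  inj : Function.Injective z
  ne_one : ∀ i, z i ≠ 1
  sq : ∀ i, z i * z i = 1
  comm : ∀ i j, z i * z j = z j * z i
  QM : ∀ i, Q i ≤ M
  perm : ∀ m ∈ M, ∀ i, ∃ j, m * z i * m⁻¹ = z j
  eqQ : ∀ m ∈ M, ∀ i j, m * z i * m⁻¹ = z j → ∀ x ∈ Q i, m * x * m⁻¹ ∈ Q j
  eqQs : ∀ m ∈ M, ∀ i j, m * z i * m⁻¹ = z j → ∀ x ∈ Qs i, m * x * m⁻¹ ∈ Qs j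
  nQ : ∀ i c, c * z i = z i * c → ∀ x ∈ Q i, c * x * c⁻¹ ∈ Q i
  nQs : ∀ i c, c * z i = z i * c → ∀ x ∈ Qs i, c * x * c⁻¹ ∈ Qs i
  le : ∀ i, Qs i ≤ Q i
  zmem : ∀ i, z i ∈ Qs i
  Qz : ∀ i, ∀ x ∈ Q i, x * z i = z i * x
  comQ : ∀ i, ∀ x ∈ Qs i, ∀ y ∈ Q i, x * y = y * x ∨ x * y = z i * (y * x)
  irr : ∀ i, ¬ op i i
  symm : ∀ i j, op i j → op j i
  eqOp : ∀ m ∈ M, ∀ i j i' j', op i j → m * z i * m⁻¹ = z i' → m * z j * m⁻¹ = z j' → op i' j'
  ex : ∀ j, ∃ i, op i j
  four : ∀ i j, op i j → ∃ k l m, Qd op i j k l m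
  all : ∀ i j k l m n, Qd op i j k l m → op i n → n = j ∨ n = k ∨ n = l ∨ n = m
  prod : ∀ i j k l m, Qd op i j k l m → z j * z k * z l * z m = z i
  swap : ∀ i j k l m, Qd op i j k l m → ∃ u ∈ Qs i, u * z j * u⁻¹ = z k ∧
    u * z k * u⁻¹ = z j ∧ u * z l * u⁻¹ = z m ∧ u * z m * u⁻¹ = z l
  rg : ∀ i j k u, op i j → op i k → u ∈ Qs i → u * z j = z j * u → u * z k = z k * u
  fix : ∀ i d, d ∈ Q i ⊓ centralizer (Qs i : Set G) → ∀ j, d * z j = z j * d
  dis : ∀ i j, i ≠ j → ∀ y, y ∈ Q i ⊓ centralizer (Qs i : Set G) →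
    y ∈ Q j ⊓ centralizer (Qs j : Set G) → y = 1
  min : ∀ i, ∀ Y : Subgroup G, Y ≤ Q i →
    (∀ m ∈ M, m * z i = z i * m → ∀ y ∈ Y, m * y * m⁻¹ ∈ Y) → Y ≠ ⊥ → z i ∈ Y

theorem conj_comm {x y : G} (h : x * y * x⁻¹ = y) : x * y = y * x := by
  calc x * y = x * y * x⁻¹ * x := by group
    _ = y * x := by rw [h]

theorem comm_conj {x y : G} (h : x * y = y * x) : x * y * x⁻¹ = y := by
  rw [h]; group


theorem Qd.ex1 {op : ι → ι → Prop} {i j k l m : ι} (h : Qd op i j k l m) : Qd op i j k m l := by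
  obtain ⟨⟨a, b, c, d⟩, e, f, g, u, v, w⟩ := h
  exact ⟨⟨a, b, d, c⟩, e, g, f, v, u, w.symm⟩

theorem Qd.ex2 {op : ι → ι → Prop} {i j k l m : ι} (h : Qd op i j k l m) : Qd op i j l k m := by
  obtain ⟨⟨a, b, c, d⟩, e, f, g, u, v, w⟩ := h
  exact ⟨⟨a, c, b, d⟩, f, e, g, u.symm, w, v⟩

theorem Qd.ex3 {op : ι → ι → Prop} {i j k l m : ι} (h : Qd op i j k l m) : Qd op i k j l m := by
  obtain ⟨⟨a, b, c, d⟩, e, f, g, u, v, w⟩ := h
  exact ⟨⟨b, a, c, d⟩, e.symm, u, v, f, g, w⟩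

namespace QZ

variable {M : Subgroup G} {z : ι → G} {Q Qs : ι → Subgroup G} {op : ι → ι → Prop}

/-- `C_{Q i}(Qs i)` -/
def D (_h : QZ M z Q Qs op) (i : ι) : Subgroup G := Q i ⊓ centralizer (Qs i : Set G)

variable (h : QZ M z Q Qs op)
include h

theorem mem_D {i : ι} {x : G} : x ∈ h.D i ↔ x ∈ Q i ∧ ∀ y ∈ Qs i, x * y = y * x := by
  rw [D, mem_inf, mem_centralizer_iff]
  exact and_congr_right fun _ => ⟨fun H y hy => (H y hy).symm, fun H y hy => (H y hy).symm⟩

theorem ne {i j : ι} (hij : op i j) : i ≠ j := by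
  rintro rfl
  exact h.irr i hij

theorem zinv (i : ι) : (z i)⁻¹ = z i := inv_eq_of_mul_eq_one_left (h.sq i)

theorem z_mem_D (i : ι) : z i ∈ h.D i :=
  h.mem_D.2 ⟨h.le i (h.zmem i), fun y hy => (h.Qz i y (h.le i hy)).symm⟩

theorem QsM (i : ι) : Qs i ≤ M := (h.le i).trans (h.QM i)

/-- `D i` centralises all points. -/
theorem D_comm_z {i : ι} {d : G} (hd : d ∈ h.D i) (j : ι) : d * z j = z j * d := h.fix i d hd j

theorem disj {i j : ι} (hij : i ≠ j) {y : G} (h1 : y ∈ h.D i) (h2 : y ∈ h.D j) : y = 1 :=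
  h.dis i j hij y h1 h2

theorem reg {i j k : ι} (hij : op i j) (hik : op i k) {u : G} (hu : u ∈ Qs i)
    (huj : u * z j = z j * u) : u * z k = z k * u := h.rg i j k u hij hik hu huj

/-- three more opposite points -/
theorem exists_two {i j k : ι} (hij : op i j) (hik : op i k) (hjk : j ≠ k) :
    ∃ l m, Qd op i j k l m := by
  obtain ⟨a, b, c, hn⟩ := h.four i j hij
  rcases h.all i j a b c k hn hik with rfl | rfl | rfl | rfl
  · exact absurd rfl hjk
  · exact ⟨b, c, hn⟩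
  · exact ⟨a, c, hn.ex2⟩
  · exact ⟨b, a, hn.ex2.ex1.ex2⟩

/-- equivariance of `D` -/
theorem eqD {m : G} (hm : m ∈ M) {i j : ι} (hij : m * z i * m⁻¹ = z j) {d : G}
    (hd : d ∈ h.D i) : m * d * m⁻¹ ∈ h.D j := by
  obtain ⟨hd1, hd2⟩ := h.mem_D.1 hd
  refine h.mem_D.2 ⟨h.eqQ m hm i j hij d hd1, fun y hy => ?_⟩
  have hji : m⁻¹ * z j * m⁻¹⁻¹ = z i := by rw [← hij]; group
  have hy' := h.eqQs m⁻¹ (inv_mem hm) j i hji y hy
  have e := hd2 _ hy'
  calc m * d * m⁻¹ * y = m * (d * (m⁻¹ * y * m⁻¹⁻¹)) * m⁻¹ := by group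
    _ = m * (m⁻¹ * y * m⁻¹⁻¹ * d) * m⁻¹ := by rw [e]
    _ = y * (m * d * m⁻¹) := by group

/-- `C(z i)` normalises `D i`. -/
theorem nD {i : ι} {c : G} (hc : c * z i = z i * c) {d : G} (hd : d ∈ h.D i) :
    c * d * c⁻¹ ∈ h.D i := by
  obtain ⟨hd1, hd2⟩ := h.mem_D.1 hd
  refine h.mem_D.2 ⟨h.nQ i c hc d hd1, fun y hy => ?_⟩
  have hc' : c⁻¹ * z i = z i * c⁻¹ := by
    rw [inv_mul_eq_iff_eq_mul, ← mul_assoc, hc, mul_assoc, mul_inv_cancel, mul_one]
  have hy' := h.nQs i c⁻¹ hc' y hy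
  have e := hd2 _ hy'
  calc c * d * c⁻¹ * y = c * (d * (c⁻¹ * y * c⁻¹⁻¹)) * c⁻¹ := by group
    _ = c * (c⁻¹ * y * c⁻¹⁻¹ * d) * c⁻¹ := by rw [e]
    _ = y * (c * d * c⁻¹) := by group

theorem swap' {i j k : ι} (hij : op i j) (hik : op i k) (hjk : j ≠ k) :
    ∃ u ∈ Qs i, u * z j * u⁻¹ = z k := by
  obtain ⟨l, m, hn⟩ := h.exists_two hij hik hjk
  obtain ⟨u, hu, h1, -⟩ := h.swap i j k l m hn
  exact ⟨u, hu, h1⟩

/-- (2) `[D i, D j] = 1` -/
theorem DD_comm {i j : ι} (hij : i ≠ j) {a b : G} (ha : a ∈ h.D i) (hb : b ∈ h.D j) :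
    a * b = b * a := by
  have h1 : a * b * a⁻¹ * b⁻¹ ∈ h.D j :=
    mul_mem (h.nD (h.D_comm_z ha j) hb) (inv_mem hb)
  have h2 : a * b * a⁻¹ * b⁻¹ ∈ h.D i := by
    have e : a * b * a⁻¹ * b⁻¹ = a * (b * a⁻¹ * b⁻¹) := by group
    rw [e]
    exact mul_mem ha (h.nD (h.D_comm_z hb i) (inv_mem ha))
  have h3 := h.disj hij h2 h1
  rw [mul_inv_eq_one, mul_inv_eq_iff_eq_mul] at h3
  exact h3

/-- (3) `D j ∩ Q i = 1` -/
theorem D_inf_Q {i j : ι} (hij : op i j) {b : G} (hb : b ∈ h.D j) (hbi : b ∈ Q i) : b = 1 := by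
  by_contra hb1
  have key : ∀ k, op i k → j ≠ k → z i * b ∈ h.D k := by
    intro k hik hjk
    obtain ⟨u, hu, hu1⟩ := h.swap' hij hik hjk
    have h1 := h.eqD (h.QsM i hu) hu1 hb
    rcases h.comQ i u hu b hbi with h2 | h2
    · rw [comm_conj h2] at h1
      exact absurd (h.disj hjk hb h1) hb1
    · have e : u * b * u⁻¹ = z i * b := by rw [h2]; group
      rwa [e] at h1
  obtain ⟨k, l, n, hn⟩ := h.four i j hij
  obtain ⟨⟨-, hik, hil, -⟩, hjk, hjl, -, hkl, -, -⟩ := hn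
  have h1 := h.disj hkl (key k hik hjk) (key l hil hjl)
  have h2 : b = z i := by rw [← h.zinv i]; exact (inv_eq_of_mul_eq_one_right h1).symm
  apply hb1
  refine h.disj (h.ne hij) ?_ hb
  rw [h2]; exact h.z_mem_D i

/-- (4) `[D j, C_{Q i}(z j)] = 1` -/
theorem comm_CQ {i j : ι} (hij : op i j) {d w : G} (hd : d ∈ h.D j) (hw : w ∈ Q i)
    (hwj : w * z j = z j * w) : w * d = d * w := by
  have h1 : w * d * w⁻¹ * d⁻¹ ∈ h.D j := mul_mem (h.nD hwj hd) (inv_mem hd)
  have h2 : w * d * w⁻¹ * d⁻¹ ∈ Q i := by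
    have e : w * d * w⁻¹ * d⁻¹ = w * (d * w⁻¹ * d⁻¹) := by group
    rw [e]
    exact mul_mem hw (h.nQ i d (h.D_comm_z hd i) _ (inv_mem hw))
  have h3 := h.D_inf_Q hij h1 h2
  rw [mul_inv_eq_one, mul_inv_eq_iff_eq_mul] at h3
  exact h3

/-- (4) the transport of `d` depends only on the target point. -/
theorem tr {i j : ι} (hij : op i j) {d u u' : G} (hd : d ∈ h.D j) (hu : u ∈ Q i) (hu' : u' ∈ Q i)
    (e : u * z j * u⁻¹ = u' * z j * u'⁻¹) : u * d * u⁻¹ = u' * d * u'⁻¹ := by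
  have h1 : (u'⁻¹ * u) * z j = z j * (u'⁻¹ * u) := by
    apply conj_comm
    calc u'⁻¹ * u * z j * (u'⁻¹ * u)⁻¹ = u'⁻¹ * (u * z j * u⁻¹) * u' := by group
      _ = z j := by rw [e]; group
  have h2 := h.comm_CQ hij hd (mul_mem (inv_mem hu') hu) h1
  calc u * d * u⁻¹ = u' * ((u'⁻¹ * u) * d) * u⁻¹ := by group
    _ = u' * (d * (u'⁻¹ * u)) * u⁻¹ := by rw [h2]
    _ = u' * d * u'⁻¹ := by group

/-- `[u, d] ∈ Q i` -/
theorem comm_mem_Q {i j : ι} {d u : G} (hd : d ∈ h.D j) (hu : u ∈ Q i) :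
    u * d * u⁻¹ * d⁻¹ ∈ Q i := by
  have e : u * d * u⁻¹ * d⁻¹ = u * (d * u⁻¹ * d⁻¹) := by group
  rw [e]
  exact mul_mem hu (h.nQ i d (h.D_comm_z hd i) _ (inv_mem hu))

/-- (4) `D j` is abelian. -/
theorem D_abelian {j : ι} {a b : G} (ha : a ∈ h.D j) (hb : b ∈ h.D j) : a * b = b * a := by
  obtain ⟨i, hij⟩ := h.ex j
  obtain ⟨k, l, n, hn⟩ := h.four i j hij
  obtain ⟨⟨-, hik, hil, -⟩, hjk, hjl, -, hkl, -, -⟩ := hn
  obtain ⟨u, hu, hu1⟩ := h.swap' hij hik hjk
  have ha' := h.eqD (h.QsM i hu) hu1 ha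
  have h1 := h.DD_comm (Ne.symm hjk) ha' hb
  set q := u * a * u⁻¹ * a⁻¹ with hq
  have hqi : q ∈ Q i := h.comm_mem_Q ha (h.le i hu)
  have e1 : u * a * u⁻¹ = q * a := by rw [hq]; group
  rw [e1] at h1
  -- `q a b = b q a`
  have h2 : a * b * a⁻¹ * b⁻¹ = q⁻¹ * (b * q * b⁻¹) := by
    calc a * b * a⁻¹ * b⁻¹ = q⁻¹ * (q * a * b) * a⁻¹ * b⁻¹ := by group
      _ = q⁻¹ * (b * (q * a)) * a⁻¹ * b⁻¹ := by rw [h1]
      _ = q⁻¹ * (b * q * b⁻¹) := by group
  have h3 : a * b * a⁻¹ * b⁻¹ ∈ Q i := by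
    rw [h2]
    exact mul_mem (inv_mem hqi) (h.nQ i b (h.D_comm_z hb i) _ hqi)
  have h4 : a * b * a⁻¹ * b⁻¹ ∈ h.D j :=
    mul_mem (mul_mem (mul_mem ha hb) (inv_mem ha)) (inv_mem hb)
  have h5 := h.D_inf_Q hij h4 h3
  rw [mul_inv_eq_one, mul_inv_eq_iff_eq_mul] at h5
  exact h5

/-- `e` is the transport of `d ∈ D j` to the point `z k` by `Qs i`. -/
def T (_h : QZ M z Q Qs op) (i j k : ι) (d e : G) : Prop :=
  ∃ u ∈ Qs i, u * z j * u⁻¹ = z k ∧ e = u * d * u⁻¹

theorem T_mem {i j k : ι} {d e : G} (hd : d ∈ h.D j) (hT : h.T i j k d e) : e ∈ h.D k := by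
  obtain ⟨u, hu, hu1, rfl⟩ := hT
  exact h.eqD (h.QsM i hu) hu1 hd

theorem T_eq {i j k : ι} (hij : op i j) {d e u : G} (hd : d ∈ h.D j) (hT : h.T i j k d e)
    (hu : u ∈ Qs i) (hu1 : u * z j * u⁻¹ = z k) : u * d * u⁻¹ = e := by
  obtain ⟨v, hv, hv1, rfl⟩ := hT
  exact h.tr hij hd (h.le i hu) (h.le i hv) (hu1.trans hv1.symm)

/-- (5) -/
theorem key {i j k l m : ι} (hn : Qd op i j k l m) {d b c e : G} (hd : d ∈ h.D j)
    (hb : h.T i j k d b) (hc : h.T i j l d c) (he : h.T i j m d e) :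
    e * d = b * c ∨ e * d = z i * (b * c) := by
  have hn' := hn
  obtain ⟨⟨hij, hik, hil, him⟩, hjk, hjl, hjm, hkl, hkm, hlm⟩ := hn
  obtain ⟨u, hu, hu1, -⟩ := h.swap i j k l m hn'
  obtain ⟨v, hv, hv1, hv2, hv3, hv4⟩ := h.swap i j l k m hn'.ex2
  have eb : u * d * u⁻¹ = b := h.T_eq hij hd hb hu hu1
  have ec : v * d * v⁻¹ = c := h.T_eq hij hd hc hv hv1
  have ee : v * b * v⁻¹ = e := by
    have h1 : (v * u) * z j * (v * u)⁻¹ = z m := by
      calc (v * u) * z j * (v * u)⁻¹ = v * (u * z j * u⁻¹) * v⁻¹ := by group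
        _ = z m := by rw [hu1, hv3]
    have h2 := h.T_eq hij hd he (mul_mem hv hu) h1
    rw [← h2, ← eb]; group
  have hbD := h.T_mem hd hb
  have hcD := h.T_mem hd hc
  have hx : b * d⁻¹ ∈ Q i := by
    rw [← eb]; exact h.comm_mem_Q hd (h.le i hu)
  have hcd : c * d = d * c := h.DD_comm (Ne.symm hjl) hcD hd
  have hv5 : v * (b * d⁻¹) * v⁻¹ = e * c⁻¹ := by
    rw [← ee, ← ec]; group
  rcases h.comQ i v hv _ hx with h1 | h1
  · left
    rw [comm_conj h1] at hv5
    have h2 : e = b * d⁻¹ * c := by rw [hv5]; group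
    rw [h2, mul_assoc, hcd]; group
  · right
    have h3 : v * (b * d⁻¹) * v⁻¹ = z i * (b * d⁻¹) := by rw [h1]; group
    rw [h3] at hv5
    have h2 : e = z i * (b * d⁻¹) * c := by rw [hv5]; group
    rw [h2, mul_assoc, hcd]; group

/-- all transports exist -/
theorem exists_T {i j k : ι} (hij : op i j) (hik : op i k) (hjk : j ≠ k) (d : G) :
    ∃ e, h.T i j k d e := by
  obtain ⟨u, hu, hu1⟩ := h.swap' hij hik hjk
  exact ⟨_, u, hu, hu1, rfl⟩

theorem sq_or {i j k l m : ι} (hn : Qd op i j k l m) {d b c e : G} (hd : d ∈ h.D j)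
    (hb : h.T i j k d b) (hc : h.T i j l d c) (he : h.T i j m d e) :
    d * d = b * b ∨ d * d = z i * (b * b) := by
  have h1 := h.key hn hd hb hc he
  have hn' := hn
  obtain ⟨⟨hij, hik, hil, him⟩, hjk, hjl, hjm, hkl, hkm, hlm⟩ := hn
  have h2 := h.key (k := k) (l := m) (m := l) hn'.ex1 hd hb he hc
  have hbD := h.T_mem hd hb
  have hcD := h.T_mem hd hc
  have heD := h.T_mem hd he
  have hcd : c * d = d * c := h.DD_comm (Ne.symm hjl) hcD hd
  have hed : e * d = d * e := h.DD_comm (Ne.symm hjm) heD hd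
  have hce : c * e = e * c := h.DD_comm hlm hcD heD
  have hbc : b * c = c * b := h.DD_comm hkl hbD hcD
  have hbe : b * e = e * b := h.DD_comm hkm hbD heD
  have hbz : b * z i = z i * b := h.D_comm_z hbD i
  have hcz : c * z i = z i * c := h.D_comm_z hcD i
  have hez : e * z i = z i * e := h.D_comm_z heD i
  have hdz : d * z i = z i * d := h.D_comm_z hd i
  have hzz := h.sq i
  -- `(c e)⁻¹ (e d) (c d) = d²`, `(c e)⁻¹ (b c) (b e) = b²`
  have a1 : e * d * (c * d) = c * e * (d * d) := by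
    calc e * d * (c * d) = e * (d * c) * d := by group
      _ = e * (c * d) * d := by rw [hcd]
      _ = (e * c) * (d * d) := by group
      _ = c * e * (d * d) := by rw [hce]
  have a2 : b * c * (b * e) = c * e * (b * b) := by
    calc b * c * (b * e) = (b * c) * (b * e) := rfl
      _ = (c * b) * (e * b) := by rw [hbc, hbe]
      _ = c * (b * e) * b := by group
      _ = c * (e * b) * b := by rw [hbe]
      _ = c * e * (b * b) := by group
  rcases h1 with h1 | h1 <;> rcases h2 with h2 | h2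
  · left
    rw [h1, h2, a2] at a1
    exact (mul_left_cancel a1).symm
  · right
    rw [h1, h2] at a1
    have a3 : b * c * (z i * (b * e)) = c * e * (z i * (b * b)) := by
      calc b * c * (z i * (b * e)) = b * (c * z i) * (b * e) := by group
        _ = b * (z i * c) * (b * e) := by rw [hcz]
        _ = (b * z i) * c * (b * e) := by group
        _ = (z i * b) * c * (b * e) := by rw [hbz]
        _ = z i * (b * c * (b * e)) := by group
        _ = z i * (c * e * (b * b)) := by rw [a2]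
        _ = (z i * c) * e * (b * b) := by group
        _ = (c * z i) * e * (b * b) := by rw [hcz]
        _ = c * (z i * e) * (b * b) := by group
        _ = c * (e * z i) * (b * b) := by rw [hez]
        _ = c * e * (z i * (b * b)) := by group
    rw [a3] at a1
    exact (mul_left_cancel a1).symm
  · right
    rw [h1, h2] at a1
    have a3 : z i * (b * c) * (b * e) = c * e * (z i * (b * b)) := by
      calc z i * (b * c) * (b * e) = z i * (b * c * (b * e)) := by group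
        _ = z i * (c * e * (b * b)) := by rw [a2]
        _ = (z i * c) * e * (b * b) := by group
        _ = (c * z i) * e * (b * b) := by rw [hcz]
        _ = c * (z i * e) * (b * b) := by group
        _ = c * (e * z i) * (b * b) := by rw [hez]
        _ = c * e * (z i * (b * b)) := by group
    rw [a3] at a1
    exact (mul_left_cancel a1).symm
  · left
    rw [h1, h2] at a1
    have a3 : z i * (b * c) * (z i * (b * e)) = c * e * (b * b) := by
      calc z i * (b * c) * (z i * (b * e)) = z i * b * (c * z i) * (b * e) := by group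
        _ = z i * b * (z i * c) * (b * e) := by rw [hcz]
        _ = z i * (b * z i) * c * (b * e) := by group
        _ = z i * (z i * b) * c * (b * e) := by rw [hbz]
        _ = (z i * z i) * (b * c * (b * e)) := by group
        _ = c * e * (b * b) := by rw [hzz, one_mul, a2]
    rw [a3] at a1
    exact (mul_left_cancel a1).symm

/-- (5) `D j` is elementary abelian. -/
theorem D_sq {j : ι} {d : G} (hd : d ∈ h.D j) : d * d = 1 := by
  obtain ⟨i, hij⟩ := h.ex j
  obtain ⟨k, l, m, hn⟩ := h.four i j hij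
  have hn' := hn
  obtain ⟨⟨-, hik, hil, him⟩, hjk, hjl, hjm, hkl, hkm, hlm⟩ := hn
  obtain ⟨b, hb⟩ := h.exists_T hij hik hjk d
  obtain ⟨c, hc⟩ := h.exists_T hij hil hjl d
  obtain ⟨e, he⟩ := h.exists_T hij him hjm d
  have hbD := h.T_mem hd hb
  have hcD := h.T_mem hd hc
  have h1 := h.sq_or hn' hd hb hc he
  have h2 := h.sq_or (k := l) (l := k) (m := m) hn'.ex2 hd hc hb he
  rcases h1 with h1 | h1
  · refine h.disj hjk (mul_mem hd hd) ?_
    rw [h1]; exact mul_mem hbD hbD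
  rcases h2 with h2 | h2
  · refine h.disj hjl (mul_mem hd hd) ?_
    rw [h2]; exact mul_mem hcD hcD
  have h3 : b * b = c * c := mul_left_cancel (h1.symm.trans h2)
  have h4 : b * b = 1 := by
    refine h.disj hkl (mul_mem hbD hbD) ?_
    rw [h3]; exact mul_mem hcD hcD
  obtain ⟨u, hu, hu1, rfl⟩ := hb
  have h5 : u * (d * d) * u⁻¹ = 1 := by
    rw [← h4]; group
  calc d * d = u⁻¹ * (u * (d * d) * u⁻¹) * u := by group
    _ = 1 := by rw [h5]; group

/-- (6) `A i j = {d ∈ D j : [Qs i, d] ≤ D i}` -/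
def A (i j : ι) (hij : op i j) : Subgroup G where
  carrier := {d | d ∈ h.D j ∧ ∀ u ∈ Qs i, u * d * u⁻¹ * d⁻¹ ∈ h.D i}
  one_mem' := ⟨one_mem _, fun u _ => by simp⟩
  mul_mem' := by
    rintro a b ⟨ha, ha'⟩ ⟨hb, hb'⟩
    refine ⟨mul_mem ha hb, fun u hu => ?_⟩
    have h1 := h.DD_comm (h.ne hij) (hb' u hu) ha
    have e : u * (a * b) * u⁻¹ * (a * b)⁻¹ =
        (u * a * u⁻¹ * a⁻¹) * (u * b * u⁻¹ * b⁻¹) := by
      calc u * (a * b) * u⁻¹ * (a * b)⁻¹ =
          u * a * u⁻¹ * ((u * b * u⁻¹ * b⁻¹) * a⁻¹) := by group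
        _ = u * a * u⁻¹ * (a⁻¹ * (a * (u * b * u⁻¹ * b⁻¹)) * a⁻¹) := by group
        _ = u * a * u⁻¹ * (a⁻¹ * ((u * b * u⁻¹ * b⁻¹) * a) * a⁻¹) := by rw [h1]
        _ = (u * a * u⁻¹ * a⁻¹) * (u * b * u⁻¹ * b⁻¹) := by group
    rw [e]
    exact mul_mem (ha' u hu) (hb' u hu)
  inv_mem' := by
    rintro a ⟨ha, ha'⟩
    refine ⟨inv_mem ha, fun u hu => ?_⟩
    have h1 := h.DD_comm (h.ne hij) (inv_mem (ha' u hu)) ha
    have e : u * a⁻¹ * u⁻¹ * a⁻¹⁻¹ = (u * a * u⁻¹ * a⁻¹)⁻¹ := by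
      calc u * a⁻¹ * u⁻¹ * a⁻¹⁻¹ = a⁻¹ * ((u * a * u⁻¹ * a⁻¹)⁻¹ * a) := by group
        _ = a⁻¹ * (a * (u * a * u⁻¹ * a⁻¹)⁻¹) := by rw [h1]
        _ = (u * a * u⁻¹ * a⁻¹)⁻¹ := by group
    rw [e]
    exact inv_mem (ha' u hu)

theorem mem_A {i j : ι} {hij : op i j} {d : G} :
    d ∈ h.A i j hij ↔ d ∈ h.D j ∧ ∀ u ∈ Qs i, u * d * u⁻¹ * d⁻¹ ∈ h.D i := Iff.rfl

/-- equivariance of `A` -/
theorem eqA {m : G} (hm : m ∈ M) {i j i' j' : ι} (hi : m * z i * m⁻¹ = z i')
    (hj : m * z j * m⁻¹ = z j') {hij : op i j} {hij' : op i' j'} {d : G} (hd : d ∈ h.A i j hij) :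
    m * d * m⁻¹ ∈ h.A i' j' hij' := by
  obtain ⟨hd1, hd2⟩ := h.mem_A.1 hd
  refine h.mem_A.2 ⟨h.eqD hm hj hd1, fun u hu => ?_⟩
  have hi' : m⁻¹ * z i' * m⁻¹⁻¹ = z i := by rw [← hi]; group
  have h1 := h.eqD hm hi (hd2 _ (h.eqQs m⁻¹ (inv_mem hm) i' i hi' u hu))
  have e : u * (m * d * m⁻¹) * u⁻¹ * (m * d * m⁻¹)⁻¹ =
      m * (m⁻¹ * u * m⁻¹⁻¹ * d * (m⁻¹ * u * m⁻¹⁻¹)⁻¹ * d⁻¹) * m⁻¹ := by group
  rw [e]; exact h1

/-- (6) `A i j` does not depend on `i`. -/
theorem A_indep {i i' j : ι} {hij : op i j} {hij' : op i' j} {d : G} (hd : d ∈ h.A i j hij) :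
    d ∈ h.A i' j hij' := by
  by_cases hii : i = i'
  · subst hii; exact hd
  obtain ⟨w, hw, hw1⟩ := h.swap' (h.symm i j hij) (h.symm i' j hij') hii
  have hwj : w * z j * w⁻¹ = z j := comm_conj (h.Qz j w (h.le j hw))
  have h1 := h.eqA (hij' := hij') (h.QsM j hw) hw1 hwj hd
  rwa [comm_conj ((h.mem_D.1 (h.mem_A.1 hd).1).2 w hw).symm] at h1

/-- (6) `z j ∉ A i j` -/
theorem z_notMem_A {i j : ι} {hij : op i j} : z j ∉ h.A i j hij := by
  intro hz
  obtain ⟨k, l, m, hn⟩ := h.four i j hij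
  have hn' := hn
  obtain ⟨⟨-, hik, hil, him⟩, hjk, hjl, hjm, hkl, hkm, hlm⟩ := hn
  obtain ⟨u, hu, hu1, -⟩ := h.swap i j k l m hn'
  obtain ⟨v, hv, hv1, hv2, hv3, hv4⟩ := h.swap i j l k m hn'.ex2
  have h1 := (h.mem_D.1 ((h.mem_A.1 hz).2 u hu)).2 v hv
  rw [hu1, h.zinv] at h1
  have h2 : v * (z k * z j) * v⁻¹ = z k * z j := comm_conj h1.symm
  have h3 : v * (z k * z j) * v⁻¹ = z m * z l := by
    calc v * (z k * z j) * v⁻¹ = (v * z k * v⁻¹) * (v * z j * v⁻¹) := by group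
      _ = z m * z l := by rw [hv3, hv1]
  rw [h3] at h2
  have h4 := h.prod i j k l m hn'
  have h5 : z j * z k * z l * z m = (z k * z j) * (z m * z l) := by
    rw [h.comm k j, h.comm m l]; group
  rw [h5, h2] at h4
  have h6 : (z k * z j) * (z k * z j) = 1 := by
    calc (z k * z j) * (z k * z j) = z k * (z j * z k) * z j := by group
      _ = z k * (z k * z j) * z j := by rw [h.comm j k]
      _ = (z k * z k) * (z j * z j) := by group
      _ = 1 := by rw [h.sq k, h.sq j, one_mul]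
  exact h.ne_one i (h4.symm.trans h6)

/-- (6) an element of `D j` with trivial norm lies in `A i j`. -/
theorem mem_A_of {i j k l m : ι} (hn : Qd op i j k l m) (hij : op i j) {d b c e : G}
    (hd : d ∈ h.D j) (hb : h.T i j k d b) (hc : h.T i j l d c) (he : h.T i j m d e)
    (h1 : e * d = b * c) : d ∈ h.A i j hij := by
  have hn' := hn
  obtain ⟨⟨-, hik, hil, him⟩, hjk, hjl, hjm, hkl, hkm, hlm⟩ := hn
  have hbD := h.T_mem hd hb
  have hcD := h.T_mem hd hc
  have heD := h.T_mem hd he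
  have hcd : c * d = d * c := h.DD_comm (Ne.symm hjl) hcD hd
  have hed : e * d = d * e := h.DD_comm (Ne.symm hjm) heD hd
  have hbd : b * d = d * b := h.DD_comm (Ne.symm hjk) hbD hd
  have hce : c * e = e * c := h.DD_comm hlm hcD heD
  have hbc : b * c = c * b := h.DD_comm hkl hbD hcD
  have hbe : b * e = e * b := h.DD_comm hkm hbD heD
  have dd := h.D_sq hd
  have bb := h.D_sq hbD
  have cc := h.D_sq hcD
  have ee := h.D_sq heD
  obtain ⟨u, hu, hu1, hu2, hu3, hu4⟩ := h.swap i j k l m hn'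
  obtain ⟨v, hv, hv1, hv2, hv3, hv4⟩ := h.swap i j l k m hn'.ex2
  have ub : u * d * u⁻¹ = b := h.T_eq hij hd hb hu hu1
  have vc : v * d * v⁻¹ = c := h.T_eq hij hd hc hv hv1
  have vb : v * b * v⁻¹ = e := by
    have h1 : (v * u) * z j * (v * u)⁻¹ = z m := by
      calc (v * u) * z j * (v * u)⁻¹ = v * (u * z j * u⁻¹) * v⁻¹ := by group
        _ = z m := by rw [hu1, hv3]
    have h2 := h.T_eq hij hd he (mul_mem hv hu) h1
    rw [← h2, ← ub]; group
  have uc : u * c * u⁻¹ = e := by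
    have h1 : (u * v) * z j * (u * v)⁻¹ = z m := by
      calc (u * v) * z j * (u * v)⁻¹ = u * (v * z j * v⁻¹) * u⁻¹ := by group
        _ = z m := by rw [hv1, hu3]
    have h2 := h.T_eq hij hd he (mul_mem hu hv) h1
    rw [← h2, ← vc]; group
  -- the other four products
  have r1 : e * d = b * c := h1
  have r2 : c * d = b * e := by
    have : b * (e * d) = b * (b * c) := by rw [h1]
    have h3 : b * (e * d) = c := by rw [this, ← mul_assoc, bb, one_mul]
    calc c * d = b * (e * d) * d := by rw [h3]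
      _ = b * e * (d * d) := by group
      _ = b * e := by rw [dd, mul_one]
  have r3 : b * d = c * e := by
    have : c * (e * d) = c * (c * b) := by rw [h1, hbc]
    have h3 : c * (e * d) = b := by rw [this, ← mul_assoc, cc, one_mul]
    calc b * d = c * (e * d) * d := by rw [h3]
      _ = c * e * (d * d) := by group
      _ = c * e := by rw [dd, mul_one]
  -- conjugation by `u`, `v` on the four elements
  have ud : u * b * u⁻¹ = d := by
    have h2 : (u * u) * z j * (u * u)⁻¹ = z j := by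
      calc (u * u) * z j * (u * u)⁻¹ = u * (u * z j * u⁻¹) * u⁻¹ := by group
        _ = z j := by rw [hu1, hu2]
    have h3 := h.comm_CQ hij hd (h.le i (mul_mem hu hu)) (conj_comm h2)
    rw [← ub]
    calc u * (u * d * u⁻¹) * u⁻¹ = (u * u) * d * (u * u)⁻¹ := by group
      _ = d := comm_conj h3
  have vd : v * c * v⁻¹ = d := by
    have h2 : (v * v) * z j * (v * v)⁻¹ = z j := by
      calc (v * v) * z j * (v * v)⁻¹ = v * (v * z j * v⁻¹) * v⁻¹ := by group
        _ = z j := by rw [hv1, hv2]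
    have h3 := h.comm_CQ hij hd (h.le i (mul_mem hv hv)) (conj_comm h2)
    rw [← vc]
    calc v * (v * d * v⁻¹) * v⁻¹ = (v * v) * d * (v * v)⁻¹ := by group
      _ = d := comm_conj h3
  have ue : u * e * u⁻¹ = c := by
    have h2 : (u * u) * z l * (u * u)⁻¹ = z l := by
      calc (u * u) * z l * (u * u)⁻¹ = u * (u * z l * u⁻¹) * u⁻¹ := by group
        _ = z l := by rw [hu3, hu4]
    have h3 := h.comm_CQ hil hcD (h.le i (mul_mem hu hu)) (conj_comm h2)
    rw [← uc]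
    calc u * (u * c * u⁻¹) * u⁻¹ = (u * u) * c * (u * u)⁻¹ := by group
      _ = c := comm_conj h3
  have ve : v * e * v⁻¹ = b := by
    have h2 : (v * v) * z k * (v * v)⁻¹ = z k := by
      calc (v * v) * z k * (v * v)⁻¹ = v * (v * z k * v⁻¹) * v⁻¹ := by group
        _ = z k := by rw [hv3, hv4]
    have h3 := h.comm_CQ hik hbD (h.le i (mul_mem hv hv)) (conj_comm h2)
    rw [← vb]
    calc v * (v * b * v⁻¹) * v⁻¹ = (v * v) * b * (v * v)⁻¹ := by group
      _ = b := comm_conj h3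
  -- an element commuting with `u`, `v` and lying in `D a · D d` commutes with `Qs i`
  have gen : ∀ a : ι, op i a → ∀ x ∈ h.D a, u * (x * d) * u⁻¹ = x * d →
      v * (x * d) * v⁻¹ = x * d → ∀ w ∈ Qs i, x * d * w = w * (x * d) := by
    intro a hia x hx hux hvx w hw
    obtain ⟨n, hn⟩ := h.perm w (h.QsM i hw) j
    -- `w` acts on the points as `t ∈ {1, u, v, v u}`
    have main : ∀ t ∈ Qs i, t * (x * d) * t⁻¹ = x * d → w * z j * w⁻¹ = t * z j * t⁻¹ →
        x * d * w = w * (x * d) := by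
      intro t ht htx e1
      have h2 : (t⁻¹ * w) * z j = z j * (t⁻¹ * w) := by
        apply conj_comm
        calc t⁻¹ * w * z j * (t⁻¹ * w)⁻¹ = t⁻¹ * (w * z j * w⁻¹) * t := by group
          _ = z j := by rw [e1]; group
      have htw := mul_mem (inv_mem ht) hw
      have h3 := h.comm_CQ hij hd (h.le i htw) h2
      have h4 := h.comm_CQ hia hx (h.le i htw) (h.reg hij hia htw h2)
      have h5 : (t⁻¹ * w) * (x * d) = (x * d) * (t⁻¹ * w) := by
        calc (t⁻¹ * w) * (x * d) = (t⁻¹ * w * x) * d := by group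
          _ = x * (t⁻¹ * w * d) := by rw [h4]; group
          _ = (x * d) * (t⁻¹ * w) := by rw [h3]; group
      have h6 : t * (x * d) = x * d * t := conj_comm htx
      calc x * d * w = x * d * t * (t⁻¹ * w) := by group
        _ = t * (x * d) * (t⁻¹ * w) := by rw [h6]
        _ = t * ((x * d) * (t⁻¹ * w)) := by group
        _ = t * ((t⁻¹ * w) * (x * d)) := by rw [h5]
        _ = w * (x * d) := by group
    have hin : op i n := h.eqOp w (h.QsM i hw) i j i n hij (comm_conj (h.Qz i w (h.le i hw))) hn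
    rcases h.all i j k l m n hn' hin with rfl | rfl | rfl | rfl
    · exact main 1 (one_mem _) (by group) (by rw [hn]; group)
    · exact main u hu hux (by rw [hn, hu1])
    · exact main v hv hvx (by rw [hn, hv1])
    · refine main (v * u) (mul_mem hv hu) ?_ ?_
      · calc (v * u) * (x * d) * (v * u)⁻¹ = v * (u * (x * d) * u⁻¹) * v⁻¹ := by group
          _ = x * d := by rw [hux, hvx]
      · rw [hn]
        calc z n = v * (u * z j * u⁻¹) * v⁻¹ := by rw [hu1, hv3]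
          _ = (v * u) * z j * (v * u)⁻¹ := by group
  have inv_d : d⁻¹ = d := inv_eq_of_mul_eq_one_left dd
  refine h.mem_A.2 ⟨hd, fun w hw => ?_⟩
  refine h.mem_D.2 ⟨h.comm_mem_Q hd (h.le i hw), fun y hy => ?_⟩
  rw [inv_d]
  -- `w d w⁻¹ ∈ {d, b, c, e}`
  obtain ⟨n, hn⟩ := h.perm w (h.QsM i hw) j
  have hin : op i n := h.eqOp w (h.QsM i hw) i j i n hij (comm_conj (h.Qz i w (h.le i hw))) hn
  rcases h.all i j k l m n hn' hin with rfl | rfl | rfl | rfl
  · have h2 := h.comm_CQ hij hd (h.le i hw) (conj_comm hn)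
    rw [comm_conj h2, dd, one_mul, mul_one]
  · rw [h.T_eq hij hd hb hw hn]
    refine gen n hik b hbD ?_ ?_ y hy
    · calc u * (b * d) * u⁻¹ = (u * b * u⁻¹) * (u * d * u⁻¹) := by group
        _ = b * d := by rw [ud, ub, hbd]
    · calc v * (b * d) * v⁻¹ = (v * b * v⁻¹) * (v * d * v⁻¹) := by group
        _ = b * d := by rw [vb, vc, ← hce, r3]
  · rw [h.T_eq hij hd hc hw hn]
    refine gen n hil c hcD ?_ ?_ y hy
    · calc u * (c * d) * u⁻¹ = (u * c * u⁻¹) * (u * d * u⁻¹) := by group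
        _ = c * d := by rw [uc, ub, ← hbe, r2]
    · calc v * (c * d) * v⁻¹ = (v * c * v⁻¹) * (v * d * v⁻¹) := by group
        _ = c * d := by rw [vd, vc, hcd]
  · rw [h.T_eq hij hd he hw hn]
    refine gen n him e heD ?_ ?_ y hy
    · calc u * (e * d) * u⁻¹ = (u * e * u⁻¹) * (u * d * u⁻¹) := by group
        _ = e * d := by rw [ue, ub, ← hbc, r1]
    · calc v * (e * d) * v⁻¹ = (v * e * v⁻¹) * (v * d * v⁻¹) := by group
        _ = e * d := by rw [ve, vc, r1]

/-- (6) `A i j = 1` -/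
theorem A_bot {i j : ι} {hij : op i j} {d : G} (hd : d ∈ h.A i j hij) : d = 1 := by
  by_contra hne
  refine h.z_notMem_A (hij := hij) (h.min j (h.A i j hij) (fun x hx => (h.mem_D.1 (h.mem_A.1 hx).1).1)
    ?_ ?_)
  · intro m hm hmj y hy
    obtain ⟨i', hi'⟩ := h.perm m hm i
    have hj' : m * z j * m⁻¹ = z j := comm_conj hmj
    have hij' : op i' j := h.eqOp m hm i j i' j hij hi' hj'
    exact h.A_indep (h.eqA (hij' := hij') hm hi' hj' hy)
  · intro e
    rw [e, mem_bot] at hd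
    exact hne hd

/-- THEOREM D0: `C_{Q j}(Qs j) = ⟨z j⟩`. -/
theorem D_eq {j : ι} {d : G} (hd : d ∈ h.D j) : d = 1 ∨ d = z j := by
  obtain ⟨i, hij⟩ := h.ex j
  obtain ⟨k, l, m, hn⟩ := h.four i j hij
  have hn' := hn
  obtain ⟨⟨-, hik, hil, him⟩, hjk, hjl, hjm, hkl, hkm, hlm⟩ := hn
  obtain ⟨b, hb⟩ := h.exists_T hij hik hjk d
  obtain ⟨c, hc⟩ := h.exists_T hij hil hjl d
  obtain ⟨e, he⟩ := h.exists_T hij him hjm d
  have hbD := h.T_mem hd hb
  have hcD := h.T_mem hd hc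
  have heD := h.T_mem hd he
  rcases h.key hn' hd hb hc he with h1 | h1
  · exact Or.inl (h.A_bot (h.mem_A_of hn' hij hd hb hc he h1))
  · right
    -- replace `d` by `z j * d`
    have hT : ∀ n x, h.T i j n d x → h.T i j n (z j * d) (z n * x) := by
      rintro n x ⟨u, hu, hu1, rfl⟩
      refine ⟨u, hu, hu1, ?_⟩
      rw [← hu1]; group
    have h2 : z m * e * (z j * d) = z k * b * (z l * c) := by
      have e1 : z m * e * (z j * d) = z m * z j * (e * d) := by
        calc z m * e * (z j * d) = z m * (e * z j) * d := by group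
          _ = z m * (z j * e) * d := by rw [h.D_comm_z heD j]
          _ = z m * z j * (e * d) := by group
      have e2 : z k * b * (z l * c) = z k * z l * (b * c) := by
        calc z k * b * (z l * c) = z k * (b * z l) * c := by group
          _ = z k * (z l * b) * c := by rw [h.D_comm_z hbD l]
          _ = z k * z l * (b * c) := by group
      have e3 : z m * z j * z i = z k * z l := by
        rw [← h.prod i j k l m hn']
        have c1 : z m * (z k * z l) = z k * z l * z m := by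
          calc z m * (z k * z l) = (z m * z k) * z l := by group
            _ = z k * (z m * z l) := by rw [h.comm m k]; group
            _ = z k * z l * z m := by rw [h.comm m l]; group
        calc z m * z j * (z j * z k * z l * z m) = z m * (z j * z j) * (z k * z l) * z m := by group
          _ = z m * (z k * z l) * z m := by rw [h.sq j, mul_one]
          _ = z k * z l * (z m * z m) := by rw [c1]; group
          _ = z k * z l := by rw [h.sq m, mul_one]
      rw [e1, e2, h1, ← e3]; group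
    have h3 := h.A_bot (h.mem_A_of hn' hij (mul_mem (h.z_mem_D j) hd) (hT k b hb) (hT l c hc)
      (hT m e he) h2)
    rw [← h.zinv j]
    exact (inv_eq_of_mul_eq_one_right h3).symm

open Cfsg.Agent.Co2Type.Quad in
/-- THEOREM D0: `Q i` is large extraspecial. -/
theorem large (i : ι) (self : ∀ g, g * z i = z i * g → (∀ x ∈ Q i, g * x = x * g) → g ∈ Q i) :
    Large (Q i) (z i) := by
  have hzi := h.sq i
  -- `[y, x] ∈ ⟨z i⟩` for `x ∈ Q i`, `y ∈ Qs i`
  have hc : ∀ x ∈ Q i, ∀ y ∈ Qs i, x * y * x⁻¹ = y ∨ x * y * x⁻¹ = z i * y := by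
    intro x hx y hy
    rcases h.comQ i y hy x hx with h1 | h1
    · left; rw [← h1]; group
    · right
      have e1 : z i * (y * x) = x * y := by
        rw [h1, ← mul_assoc, hzi, one_mul]
      rw [← e1]; group
  have hzc : ∀ x ∈ Q i, x * z i * x⁻¹ = z i := fun x hx => comm_conj (h.Qz i x hx)
  have hmem : ∀ x, (∀ y ∈ Qs i, x * y * x⁻¹ = y) → x ∈ Q i → x = 1 ∨ x = z i := fun x hx hxQ =>
    h.D_eq (h.mem_D.2 ⟨hxQ, fun y hy => conj_comm (hx y hy)⟩)
  refine ⟨h.le i (h.zmem i), h.ne_one i, hzi, h.Qz i, h.nQ i, ?_, ?_, ?_, self⟩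
  · intro x hx
    refine hmem _ (fun y hy => ?_) (mul_mem hx hx)
    have e1 : x * x * y * (x * x)⁻¹ = x * (x * y * x⁻¹) * x⁻¹ := by group
    rw [e1]
    rcases hc x hx y hy with h1 | h1
    · rw [h1, h1]
    · rw [h1]
      calc x * (z i * y) * x⁻¹ = (x * z i * x⁻¹) * (x * y * x⁻¹) := by group
        _ = y := by rw [hzc x hx, h1, ← mul_assoc, hzi, one_mul]
  · intro x hx y hy
    have h1 : x * y * x⁻¹ * y⁻¹ = 1 ∨ x * y * x⁻¹ * y⁻¹ = z i := by
      refine hmem _ (fun w hw => ?_)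
        (mul_mem (mul_mem (mul_mem hx hy) (inv_mem hx)) (inv_mem hy))
      have e1 : x * y * x⁻¹ * y⁻¹ * w * (x * y * x⁻¹ * y⁻¹)⁻¹ =
          x * (y * (x⁻¹ * (y⁻¹ * w * y⁻¹⁻¹) * x⁻¹⁻¹) * y⁻¹) * x⁻¹ := by group
      rw [e1]
      have step : ∀ g ∈ Q i, ∀ v, (v = w ∨ v = z i * w) →
          (g * v * g⁻¹ = w ∨ g * v * g⁻¹ = z i * w) := by
        intro g hg v hv
        have h2 := hc g hg w hw
        rcases hv with rfl | rfl
        · exact h2
        · have e2 : g * (z i * w) * g⁻¹ = (g * z i * g⁻¹) * (g * w * g⁻¹) := by group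
          rw [e2, hzc g hg]
          rcases h2 with h2 | h2
          · right; rw [h2]
          · left; rw [h2, ← mul_assoc, hzi, one_mul]
      -- the signs of `x` and `y` appear twice
      have sgn : ∀ g ∈ Q i, ∀ v, (v = w ∨ v = z i * w) → g * v * g⁻¹ = v * (w⁻¹ * (g * w * g⁻¹)) := by
        intro g hg v hv
        rcases hv with rfl | rfl
        · group
        · calc g * (z i * w) * g⁻¹ = (g * z i * g⁻¹) * (g * w * g⁻¹) := by group
            _ = z i * (g * w * g⁻¹) := by rw [hzc g hg]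
            _ = z i * w * (w⁻¹ * (g * w * g⁻¹)) := by group
      have hinv : ∀ g ∈ Q i, w⁻¹ * (g⁻¹ * w * g⁻¹⁻¹) = w⁻¹ * (g * w * g⁻¹) := by
        intro g hg
        rcases hc g hg w hw with h2 | h2
        · have : g⁻¹ * w * g⁻¹⁻¹ = w := by
            calc g⁻¹ * w * g⁻¹⁻¹ = g⁻¹ * (g * w * g⁻¹) * g := by rw [h2]; group
              _ = w := by group
          rw [this, h2]
        · have h3 : g⁻¹ * w * g⁻¹⁻¹ = z i * w := by
            have h4 : g * (z i * w) * g⁻¹ = w := by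
              calc g * (z i * w) * g⁻¹ = (g * z i * g⁻¹) * (g * w * g⁻¹) := by group
                _ = w := by rw [hzc g hg, h2, ← mul_assoc, hzi, one_mul]
            calc g⁻¹ * w * g⁻¹⁻¹ = g⁻¹ * (g * (z i * w) * g⁻¹) * g := by rw [h4]; group
              _ = z i * w := by group
          rw [h3, h2]
      have hzw : z i * w = w * z i := (h.Qz i w (h.le i hw)).symm
      have val : ∀ g ∈ Q i, w⁻¹ * (g * w * g⁻¹) = 1 ∨ w⁻¹ * (g * w * g⁻¹) = z i := by
        intro g hg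
        rcases hc g hg w hw with h2 | h2
        · left; rw [h2]; group
        · right; rw [h2, hzw]; group
      have s1 : y⁻¹ * w * y⁻¹⁻¹ = w ∨ y⁻¹ * w * y⁻¹⁻¹ = z i * w := step _ (inv_mem hy) w (Or.inl rfl)
      have s2 := step _ (inv_mem hx) _ s1
      have s3 := step _ hy _ s2
      rw [sgn x hx _ s3, sgn y hy _ s2, sgn x⁻¹ (inv_mem hx) _ s1, sgn y⁻¹ (inv_mem hy) w (Or.inl rfl),
        hinv x hx, hinv y hy]
      rcases val x hx with v1 | v1 <;> rcases val y hy with v2 | v2 <;> rw [v1, v2] <;>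
        simp only [mul_one, mul_assoc, hzi]
    rcases h1 with h1 | h1
    · left
      rw [mul_inv_eq_one, mul_inv_eq_iff_eq_mul] at h1
      exact h1
    · right
      have h2 : x * y = z i * (y * x) := by
        calc x * y = x * y * x⁻¹ * y⁻¹ * (y * x) := by group
          _ = z i * (y * x) := by rw [h1]
      rw [h2]
      exact (h.Qz i _ (mul_mem hy hx)).symm
  · intro x hx hxc
    exact hmem x (fun y hy => comm_conj (hxc y (h.le i hy))) hx

end QZ

end Cfsg.Agent.Omega.NOne.QuadPts
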